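import Mathlib

/-!
Groups with a three-local structure of the alternating group of degree eight: the data.
-/

set_option autoImplicit false

namespace CfsgLib.AEightThree

open Equiv

universe u

/-- The even part of `Sym 3 × Sym 5`. -/
abbrev KK : Subgroup (Perm (Fin 3) × Perm (Fin 5)) :=
  (((Perm.sign).comp (MonoidHom.fst (Perm (Fin 3)) (Perm (Fin 5)))) *
    ((Perm.sign).comp (MonoidHom.snd (Perm (Fin 3)) (Perm (Fin 5))))).ker

theorem mem_KK {p : Perm (Fin 3) × Perm (Fin 5)} :
    p ∈ KK ↔ Perm.sign p.1 * Perm.sign p.2 = 1 :=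
  MonoidHom.mem_ker

/-- The three-cycle of `Sym 3`. -/
def zK : KK := ⟨(swap 0 1 * swap 1 2, 1), mem_KK.2 (by decide)⟩

/-- The three-cycle `(2 3 4)` of `Sym 5`. -/
def dK : KK := ⟨(1, swap 2 3 * swap 3 4), mem_KK.2 (by decide)⟩

/-- An involution inverting both three-cycles. -/
def rK : KK := ⟨(swap 0 1, swap 2 3), mem_KK.2 (by decide)⟩

/-- An involution inverting `zK` and centralising `dK`. -/
def eK : KK := ⟨(swap 0 1, swap 0 1), mem_KK.2 (by decide)⟩

/-- `(1 4)(2 3)` -/
def aK : KK := ⟨(1, swap 1 4 * swap 2 3), mem_KK.2 (by decide)⟩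

/-- `(1 3)(2 4)` -/
def bK : KK := ⟨(1, swap 1 3 * swap 2 4), mem_KK.2 (by decide)⟩

/-- The data: the normalizer of a subgroup of order three, an element exchanging the two lines,
the centralizer of the diagonal line, and the order of a Sylow 3-subgroup. -/
structure Setup (G : Type u) [Group G] where
  ψ : KK →* G
  inj : Function.Injective ψ
  range_eq : ψ.range = Subgroup.normalizer (Subgroup.zpowers (ψ zK) : Set G)
  g : G
  g_z : g * ψ zK * g⁻¹ = ψ dK
  g_d : g * ψ dK * g⁻¹ = ψ zK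
  g_r : g * ψ rK * g⁻¹ = ψ rK
  card_y : Nat.card (Subgroup.centralizer ({ψ zK * ψ dK} : Set G)) = 18
  not_dvd : ¬ 27 ∣ Nat.card G

/-- The four-group fixing the point `0`. -/
def Setup.V {G : Type u} [Group G] (S : Setup G) : Subgroup G :=
  Subgroup.closure {S.ψ aK, S.ψ bK}

/-- `(0 1 2)` in degree eight -/
def z8 : alternatingGroup (Fin 8) :=
  ⟨swap 0 1 * swap 1 2, Perm.mem_alternatingGroup.2 (by decide)⟩

/-- `(0 1 2)(3 4 5)` in degree eight -/
def y8 : alternatingGroup (Fin 8) :=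
  ⟨swap 0 1 * swap 1 2 * (swap 3 4 * swap 4 5), Perm.mem_alternatingGroup.2 (by decide)⟩

/-- `(0 1)(2 3)` -/
def t8 : alternatingGroup (Fin 8) :=
  ⟨swap 0 1 * swap 2 3, Perm.mem_alternatingGroup.2 (by decide)⟩

/-- `(4 5)(6 7)` -/
def v8 : alternatingGroup (Fin 8) :=
  ⟨swap 4 5 * swap 6 7, Perm.mem_alternatingGroup.2 (by decide)⟩

/-- `(0 1)(4 5)` -/
def e8 : alternatingGroup (Fin 8) :=
  ⟨swap 0 1 * swap 4 5, Perm.mem_alternatingGroup.2 (by decide)⟩

/-- `(0 1)(2 3)(4 5)(6 7)` -/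
def u8 : alternatingGroup (Fin 8) := t8 * v8

/-- An alternating subgroup of degree eight containing the centralizers of its elements of
order three. -/
structure Emb (G : Type u) [Group G] where
  ι : alternatingGroup (Fin 8) →* G
  inj : Function.Injective ι
  cent_z : Subgroup.centralizer ({ι z8} : Set G) ≤ ι.range
  cent_y : Subgroup.centralizer ({ι y8} : Set G) ≤ ι.range
  not_dvd : ¬ 27 ∣ Nat.card G

end CfsgLib.AEightThree
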