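import Cfsg.Agent.Lib.AEightThree.Basic
import Cfsg.Agent.Lib.Transfer.ThompsonTransfer
import Cfsg.Agent.Lib.DGroup.MaxClass
import Cfsg.Agent.Lib.PGroups.MaximalClassTwo

/-!
Groups with a three-local structure of the alternating group of degree eight: the centralizer of
the four-group is not contained in the normalizer of the subgroup of order three.
-/

set_option autoImplicit false
set_option linter.style.haveILetI false

namespace CfsgLib.AEightThree

open Equiv Subgroup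

universe u

namespace Big

/-- `(0 1)(2 3)` -/
def tK : KK := ⟨(1, swap 0 1 * swap 2 3), mem_KK.2 (by decide)⟩

theorem five_cent_V : ∀ p : Perm (Fin 5),
    p * (swap 1 4 * swap 2 3) = (swap 1 4 * swap 2 3) * p →
    p * (swap 1 3 * swap 2 4) = (swap 1 3 * swap 2 4) * p →
    p = 1 ∨ p = swap 1 4 * swap 2 3 ∨ p = swap 1 3 * swap 2 4 ∨
      p = swap 1 4 * swap 2 3 * (swap 1 3 * swap 2 4) := by
  decide +kernel

theorem three_cases : ∀ q : Perm (Fin 3), Perm.sign q = 1 →
    q = 1 ∨ q = swap 0 1 * swap 1 2 ∨ q = (swap 0 1 * swap 1 2) ^ 2 := by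
  decide +kernel

theorem three_cent : ∀ q : Perm (Fin 3),
    q * (swap 0 1 * swap 1 2) = (swap 0 1 * swap 1 2) * q → Perm.sign q = 1 := by
  decide +kernel

theorem five_cent_d : ∀ p : Perm (Fin 5),
    p * (swap 2 3 * swap 3 4) = (swap 2 3 * swap 3 4) * p → Perm.sign p = 1 →
    p = 1 ∨ p = swap 2 3 * swap 3 4 ∨ p = (swap 2 3 * swap 3 4) ^ 2 := by
  decide +kernel

theorem five_invol : ∀ p : Perm (Fin 5), p * p = 1 → Perm.sign p = 1 → p ≠ 1 →
    ∃ r : Perm (Fin 5), Perm.sign r = 1 ∧ r * p * r⁻¹ = swap 0 1 * swap 2 3 := by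
  decide +kernel

/-- The four elements of the four-group. -/
def VS : Finset KK := {1, aK, bK, aK * bK}

theorem VS_mul : ∀ a ∈ VS, ∀ b ∈ VS, a * b ∈ VS := by decide +kernel

theorem VS_sq : ∀ a ∈ VS, a * a = 1 := by decide +kernel

theorem VS_comm : ∀ a ∈ VS, ∀ b ∈ VS, a * b = b * a := by decide +kernel

theorem VS_comm_z : ∀ a ∈ VS, a * zK = zK * a := by decide +kernel

theorem VS_card : VS.card = 4 := by decide +kernel

theorem zK_comm_dK : zK * dK = dK * zK := by decide +kernel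

theorem two_pow_elim {M : Type*} [Monoid M] {x : M} (h3 : x ^ 3 = 1) {k : ℕ}
    (h2 : x ^ 2 ^ k = 1) : x = 1 :=
  orderOf_eq_one_iff.1 (Nat.eq_one_of_dvd_coprimes
    (Nat.Coprime.pow_left k (by norm_num : Nat.Coprime 2 3))
    (orderOf_dvd_of_pow_eq_one h2) (orderOf_dvd_of_pow_eq_one h3))

theorem cent_VK (y : KK) (ha : y * aK = aK * y) (hb : y * bK = bK * y) {k : ℕ}
    (hk : y ^ 2 ^ k = 1) : y ∈ VS := by
  have ha' : y.1.2 * (swap 1 4 * swap 2 3) = (swap 1 4 * swap 2 3) * y.1.2 :=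
    congrArg (fun w : KK => w.1.2) ha
  have hb' : y.1.2 * (swap 1 3 * swap 2 4) = (swap 1 3 * swap 2 4) * y.1.2 :=
    congrArg (fun w : KK => w.1.2) hb
  have hs := mem_KK.1 y.2
  have h2 := five_cent_V _ ha' hb'
  have hs2 : Perm.sign y.1.2 = 1 := by
    rcases h2 with h | h | h | h <;> rw [h] <;> decide
  rw [hs2, mul_one] at hs
  have h3 : y.1.1 ^ 3 = 1 := by
    rcases three_cases _ hs with h | h | h <;> rw [h] <;> decide
  have h1 : y.1.1 = 1 := two_pow_elim h3 (congrArg (fun w : KK => w.1.1) hk)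
  rcases h2 with h | h | h | h
  · have : y = 1 := Subtype.ext (Prod.ext h1 h)
    simp [VS, this]
  · have : y = aK := Subtype.ext (Prod.ext h1 h)
    simp [VS, this]
  · have : y = bK := Subtype.ext (Prod.ext h1 h)
    simp [VS, this]
  · have : y = aK * bK := Subtype.ext (Prod.ext (h1.trans (one_mul 1).symm) h)
    simp [VS, this]

/-- The nine elements of the Sylow 3-subgroup. -/
abbrev DK : Subgroup KK :=
  ((zpowers zK.1.1).prod (zpowers dK.1.2)).subgroupOf KK

theorem card_DK : Nat.card DK = 9 := by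
  have h1 : orderOf zK.1.1 = 3 :=
    orderOf_eq_prime (hp := ⟨Nat.prime_three⟩) (by decide) (by decide)
  have h2 : orderOf dK.1.2 = 3 :=
    orderOf_eq_prime (hp := ⟨Nat.prime_three⟩) (by decide) (by decide)
  have hle : (zpowers zK.1.1).prod (zpowers dK.1.2) ≤ KK := by
    rintro ⟨q, p⟩ ⟨hq, hp⟩
    obtain ⟨i, rfl⟩ := mem_zpowers_iff.1 hq
    obtain ⟨j, rfl⟩ := mem_zpowers_iff.1 hp
    refine mem_KK.2 ?_
    simp only [map_zpow]
    rw [show Perm.sign zK.1.1 = 1 by decide, show Perm.sign dK.1.2 = 1 by decide, one_zpow,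
      one_zpow, one_mul]
  rw [Nat.card_congr (subgroupOfEquivOfLe hle).toEquiv,
    Nat.card_congr (Subgroup.prodEquiv _ _).toEquiv, Nat.card_prod, Nat.card_zpowers,
    Nat.card_zpowers, h1, h2]

theorem mem_DK_of_comm (y : KK) (hz : y * zK = zK * y) (hd : y * dK = dK * y) : y ∈ DK := by
  have h1 := three_cent _ (congrArg (fun w : KK => w.1.1) hz)
  have hs := mem_KK.1 y.2
  rw [h1, one_mul] at hs
  refine mem_subgroupOf.2 ⟨?_, ?_⟩
  · rcases three_cases _ h1 with h | h | h <;> rw [h]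
    · exact one_mem _
    · exact mem_zpowers _
    · exact pow_mem (mem_zpowers _) 2
  · rcases five_cent_d _ (congrArg (fun w : KK => w.1.2) hd) hs with h | h | h <;> rw [h]
    · exact one_mem _
    · exact mem_zpowers _
    · exact pow_mem (mem_zpowers _) 2

theorem exists_pow_of_mem_DK (y : KK) (h : y ∈ DK) :
    ∃ i < 3, ∃ j < 3, y = zK ^ i * dK ^ j := by
  obtain ⟨h1, h2⟩ := mem_subgroupOf.1 h
  obtain ⟨i, hi⟩ := mem_zpowers_iff.1 h1
  obtain ⟨j, hj⟩ := mem_zpowers_iff.1 h2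
  have o1 : orderOf zK.1.1 = 3 :=
    orderOf_eq_prime (hp := ⟨Nat.prime_three⟩) (by decide) (by decide)
  have o2 : orderOf dK.1.2 = 3 :=
    orderOf_eq_prime (hp := ⟨Nat.prime_three⟩) (by decide) (by decide)
  refine ⟨(i % 3).toNat, by omega, (j % 3).toNat, by omega, Subtype.ext (Prod.ext ?_ ?_)⟩
  · show y.1.1 = zK.1.1 ^ (i % 3).toNat * 1 ^ (j % 3).toNat
    rw [one_pow, mul_one, ← zpow_natCast, Int.toNat_of_nonneg (by omega), ← hi]
    conv_lhs => rw [← zpow_mod_orderOf, o1]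
    rfl
  · show y.1.2 = 1 ^ (i % 3).toNat * dK.1.2 ^ (j % 3).toNat
    rw [one_pow, one_mul, ← zpow_natCast, Int.toNat_of_nonneg (by omega), ← hj]
    conv_lhs => rw [← zpow_mod_orderOf, o2]
    rfl

theorem eight_dvd_card_KK : 8 ∣ Nat.card KK := by
  have hc : Nat.card (Perm (Fin 3) × Perm (Fin 5)) = 720 := by
    rw [Nat.card_prod, Nat.card_perm, Nat.card_perm, Nat.card_fin, Nat.card_fin]
    decide
  have h := Subgroup.card_mul_index KK
  rw [hc] at h
  have hle : KK.index ≤ 2 := by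
    rw [Subgroup.index_ker]
    refine (Nat.card_le_card_of_injective _ Subtype.val_injective).trans ?_
    rw [Nat.card_eq_fintype_card, Fintype.card_units_int]
  interval_cases KK.index <;> omega

/-- Conjugate elements have centralizers of the same order. -/
theorem card_cent_conj {G : Type u} [Group G] (k x : G) :
    Nat.card (centralizer ({k * x * k⁻¹} : Set G)) = Nat.card (centralizer ({x} : Set G)) := by
  have : centralizer ({k * x * k⁻¹} : Set G) =
      (centralizer ({x} : Set G)).map (MulAut.conj k).toMonoidHom := by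
    ext y
    rw [Subgroup.mem_map, mem_centralizer_singleton_iff]
    constructor
    · intro hy
      refine ⟨k⁻¹ * y * k, mem_centralizer_singleton_iff.2 ?_, ?_⟩
      · calc k⁻¹ * y * k * x = k⁻¹ * (y * (k * x * k⁻¹)) * k := by group
          _ = k⁻¹ * ((k * x * k⁻¹) * y) * k := by rw [hy]
          _ = _ := by group
      · simp [mul_assoc]
    · rintro ⟨w, hw, rfl⟩
      have hw' := mem_centralizer_singleton_iff.1 hw
      show k * w * k⁻¹ * (k * x * k⁻¹) = k * x * k⁻¹ * (k * w * k⁻¹)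
      calc k * w * k⁻¹ * (k * x * k⁻¹) = k * (w * x) * k⁻¹ := by group
        _ = k * (x * w) * k⁻¹ := by rw [hw']
        _ = _ := by group
  rw [this, card_map_of_injective (MulAut.conj k).injective]

/-- Sylow conjugacy inside a subgroup. -/
theorem exists_map_conj_eq {G : Type u} [Group G] [Finite G] {H A B : Subgroup G} (hA : A ≤ H)
    (hB : B ≤ H) {p m : ℕ} [Fact p.Prime] (hcA : Nat.card A = p ^ m) (hcB : Nat.card B = p ^ m)
    (hH : ¬ p ^ (m + 1) ∣ Nat.card H) :
    ∃ k ∈ H, A.map (MulAut.conj k).toMonoidHom = B := by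
  have hdvd : p ^ m ∣ Nat.card H := hcA ▸ card_dvd_of_le hA
  have hm : (Nat.card H).factorization p = m := by
    have h1 := (Nat.Prime.pow_dvd_iff_le_factorization Fact.out Nat.card_pos.ne').1 hdvd
    have h2 : ¬ m + 1 ≤ (Nat.card H).factorization p := fun h =>
      hH ((Nat.Prime.pow_dvd_iff_le_factorization Fact.out Nat.card_pos.ne').2 h)
    omega
  let SA : Sylow p H := Sylow.ofCard (A.subgroupOf H) (by
    rw [Nat.card_congr (subgroupOfEquivOfLe hA).toEquiv, hcA, hm])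
  let SB : Sylow p H := Sylow.ofCard (B.subgroupOf H) (by
    rw [Nat.card_congr (subgroupOfEquivOfLe hB).toEquiv, hcB, hm])
  obtain ⟨k, hk⟩ := MulAction.exists_smul_eq H SA SB
  refine ⟨k, k.2, ?_⟩
  have h' : (A.subgroupOf H).map (MulAut.conj k).toMonoidHom = B.subgroupOf H :=
    congrArg (fun S : Sylow p H => (S : Subgroup H)) hk
  have h'' := congrArg (Subgroup.map H.subtype) h'
  rw [Subgroup.map_map, subgroupOf_map_subtype, inf_of_le_left hB,
    show H.subtype.comp (MulAut.conj k).toMonoidHom =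
      (MulAut.conj (k : G)).toMonoidHom.comp H.subtype from MonoidHom.ext fun _ => rfl,
    ← Subgroup.map_map, subgroupOf_map_subtype, inf_of_le_left hA] at h''
  exact h''

/-- In a 2-group with a small centralizer of an involution, a subgroup of index two whose
involutions are conjugate to the given one or equal to the central one. -/
theorem exists_half {P : Type u} [Group P] [Finite P] {n : ℕ} (hn3 : 3 ≤ n)
    (hn : Nat.card P = 2 ^ n) {j' : P} (hj'o : orderOf j' = 2)
    (hj : Nat.card (centralizer ({j'} : Set P)) = 4) :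
    ∃ (Q : Subgroup P) (z1 : P), Q.index = 2 ∧ z1 ≠ 1 ∧ (∀ x, x * z1 = z1 * x) ∧
      ∀ x ∈ Q, x * x = 1 → x ≠ 1 → x = z1 ∨ IsConj x j' := by
  classical
  haveI : Fact (Nat.Prime 2) := ⟨Nat.prime_two⟩
  have hcl := CfsgLib.DGroup.nilpotencyClass_of_small_cent n P hn3 hn ⟨j', hj'o, hj⟩
  obtain ⟨c, hc⟩ := CfsgLib.PGroups.exists_orderOf_eq_of_maximalClass hn3 hn hcl
  set C := zpowers c with hCdef
  have hCcard : Nat.card C = 2 ^ (n - 1) := by rw [hCdef, Nat.card_zpowers, hc]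
  have hCidx : C.index = 2 := by
    have h := C.card_mul_index
    rw [hn, hCcard, show 2 ^ n = 2 ^ (n - 1) * 2 by rw [← pow_succ]; congr 1; omega] at h
    exact Nat.eq_of_mul_eq_mul_left (pow_pos two_pos _) h
  haveI hCn : C.Normal := normal_of_index_eq_two hCidx
  have hcpow : ∀ x ∈ C, x * x = 1 → x = 1 ∨ x = c ^ 2 ^ (n - 2) := by
    intro x hx h2
    obtain ⟨i, hi, rfl⟩ := Finset.mem_image.1 (mem_zpowers_iff_mem_range_orderOf.1 hx)
    rw [Finset.mem_range, hc] at hi
    rw [← pow_add, ← orderOf_dvd_iff_pow_eq_one, hc] at h2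
    have hp : 2 ^ (n - 1) = 2 * 2 ^ (n - 2) := by rw [← pow_succ']; congr 1; omega
    rw [hp] at h2 hi
    obtain ⟨q, hq⟩ := h2
    have hq' : i = 2 ^ (n - 2) * q := by rw [mul_assoc] at hq; omega
    have hq2 : q < 2 := by
      by_contra hq2
      have : 2 * 2 ^ (n - 2) ≤ q * 2 ^ (n - 2) := Nat.mul_le_mul_right _ (by omega)
      rw [mul_comm q] at this
      omega
    interval_cases q
    · left; rw [hq', mul_zero, pow_zero]
    · right; rw [hq', mul_one]
  set z1 := c ^ 2 ^ (n - 2) with hz1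
  have hz1o : z1 ≠ 1 ∧ z1 * z1 = 1 := by
    constructor
    · rw [hz1, Ne, ← orderOf_dvd_iff_pow_eq_one, hc, Nat.pow_dvd_pow_iff_le_right one_lt_two]
      omega
    · rw [hz1, ← pow_add, ← orderOf_dvd_iff_pow_eq_one, hc, ← two_mul, ← pow_succ']
      exact Nat.pow_dvd_pow 2 (by omega)
  have hz1C : z1 ∈ C := pow_mem (mem_zpowers c) _
  have hz1Z : ∀ x, x * z1 = z1 * x := by
    intro x
    have h1 : x * z1 * x⁻¹ ∈ C := hCn.conj_mem _ hz1C x
    have h2 : x * z1 * x⁻¹ * (x * z1 * x⁻¹) = 1 := by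
      calc x * z1 * x⁻¹ * (x * z1 * x⁻¹) = x * (z1 * z1) * x⁻¹ := by group
        _ = 1 := by rw [hz1o.2]; group
    rcases hcpow _ h1 h2 with h | h
    · exact absurd (by simpa using h) hz1o.1
    · exact mul_inv_eq_iff_eq_mul.1 h
  have hj2 : j' * j' = 1 := by rw [← pow_two, ← hj'o, pow_orderOf_eq_one]
  have hjC : j' ∉ C := fun h => by
    rcases hcpow _ h hj2 with h1 | h1
    · rw [h1, orderOf_one] at hj'o
      norm_num at hj'o
    · have h2 : centralizer ({j'} : Set P) = ⊤ := eq_top_iff.2 fun x _ =>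
        mem_centralizer_singleton_iff.2 (h1 ▸ hz1Z x)
      rw [h2, card_top, hn] at hj
      have : 2 ^ 3 ≤ 2 ^ n := Nat.pow_le_pow_right two_pos hn3
      omega
  -- the subgroup of index two avoiding the class of `u`
  set C2 := zpowers (c ^ 2) with hC2def
  have hC2le : C2 ≤ C := zpowers_le.2 (pow_mem (mem_zpowers c) 2)
  have hC2card : Nat.card C2 = 2 ^ (n - 2) := by
    rw [hC2def, Nat.card_zpowers, orderOf_pow_of_dvd (by norm_num)
      (hc ▸ dvd_pow_self 2 (by omega)), hc,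
      show 2 ^ (n - 1) = 2 ^ (n - 2) * 2 by rw [← pow_succ]; congr 1; omega,
      Nat.mul_div_cancel _ two_pos]
  have hC2idx : C2.index = 4 := by
    have h := C2.card_mul_index
    rw [hn, hC2card, show 2 ^ n = 2 ^ (n - 2) * 4 by
      rw [show 4 = 2 ^ 2 from rfl, ← pow_add]; congr 1; omega] at h
    exact Nat.eq_of_mul_eq_mul_left (pow_pos two_pos _) h
  haveI hC2n : C2.Normal := by
    refine ⟨fun w hw x => ?_⟩
    obtain ⟨i, rfl⟩ := mem_zpowers_iff.1 hw
    obtain ⟨s, hs⟩ := mem_zpowers_iff.1 (hCn.conj_mem c (mem_zpowers c) x)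
    refine mem_zpowers_iff.2 ⟨s * i, ?_⟩
    have hc2 : c ^ 2 = c ^ (2 : ℤ) := (zpow_natCast c 2).symm
    rw [hc2, ← zpow_mul, ← zpow_mul, ← conj_zpow, ← hs, ← zpow_mul]
    congr 1
    ring
  have hCinv : ∀ q ∈ C, q * j' = j' * q → q = 1 ∨ q = z1 := by
    intro q hq hqj
    refine hcpow q hq ?_
    have hle : zpowers q ≤ centralizer ({j'} : Set P) :=
      zpowers_le.2 (mem_centralizer_singleton_iff.2 hqj)
    have hd : orderOf q ∣ 4 := by
      rw [← Nat.card_zpowers, ← hj]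
      exact card_dvd_of_le hle
    rw [← pow_two]
    refine orderOf_dvd_iff_pow_eq_one.1 ?_
    obtain ⟨k, hk, hk'⟩ := (Nat.dvd_prime_pow Nat.prime_two).1 (show orderOf q ∣ 2 ^ 2 from hd)
    rcases (show k = 0 ∨ k = 1 ∨ k = 2 by omega) with rfl | rfl | rfl
    · rw [hk']; norm_num
    · rw [hk']; norm_num
    · exfalso
      have heq : zpowers q = centralizer ({j'} : Set P) :=
        eq_of_le_of_card_ge hle (by rw [Nat.card_zpowers, hk', hj]; norm_num)
      exact hjC (zpowers_le.2 hq (heq.symm ▸ mem_centralizer_singleton_iff.2 rfl))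
  -- all of `C2 j` is conjugate to `j`
  have hclass : ∀ w ∈ C2, ∃ x, x * j' * x⁻¹ = w * j' := by
    intro w hw
    let f : C → C2 := fun x => ⟨(x : P) * j' * (x : P)⁻¹ * j'⁻¹, by
      obtain ⟨i, hi⟩ := mem_zpowers_iff.1 x.2
      obtain ⟨s, hs⟩ := mem_zpowers_iff.1 (hCn.conj_mem c (mem_zpowers c) j')
      have hodd : Odd s := by
        by_contra he
        obtain ⟨t, rfl⟩ := Int.not_odd_iff_even.1 he
        have : j' * c * j'⁻¹ ∈ C2 := mem_zpowers_iff.2 ⟨t, by
          rw [← hs, ← zpow_natCast, ← zpow_mul]; congr 1; push_cast; ring⟩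
        have h8 := Subgroup.orderOf_dvd_natCard C2 this
        rw [show j' * c * j'⁻¹ = MulAut.conj j' c from rfl, MulEquiv.orderOf_eq, hc, hC2card,
          Nat.pow_dvd_pow_iff_le_right one_lt_two] at h8
        omega
      obtain ⟨t, rfl⟩ := hodd
      refine mem_zpowers_iff.2 ⟨-(t * i), ?_⟩
      have hji : j' * c ^ (-i) * j'⁻¹ = c ^ ((2 * t + 1) * -i) := by
        rw [← conj_zpow, ← hs, ← zpow_mul]
      rw [← hi, mul_assoc, mul_assoc, show j' * ((c ^ i)⁻¹ * j'⁻¹) = j' * c ^ (-i) * j'⁻¹ by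
        rw [zpow_neg, mul_assoc], hji, ← zpow_natCast, ← zpow_mul, ← zpow_add]
      congr 1
      push_cast
      ring⟩
    have hsurj : Function.Surjective f := by
      classical
      haveI : Fintype C := Fintype.ofFinite _
      haveI : Fintype C2 := Fintype.ofFinite _
      have hfib : ∀ a b : C, f a = f b → b = a ∨ (b : P) = a * z1 := by
        intro a b h
        have h' : (a : P) * j' * (a : P)⁻¹ =
            (b : P) * j' * (b : P)⁻¹ :=
          mul_right_cancel (congrArg Subtype.val h)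
        set q := (a : P)⁻¹ * b with hq
        have hqj : q * j' = j' * q := by
          calc q * j' = (a : P)⁻¹ *
                ((b : P) * j' * (b : P)⁻¹) * b := by rw [hq]; group
            _ = (a : P)⁻¹ *
                ((a : P) * j' * (a : P)⁻¹) * b := by rw [h']
            _ = j' * q := by rw [hq]; group
        have hqC : q ∈ C := mul_mem (inv_mem a.2) b.2
        rcases hCinv q hqC hqj with h1 | h1
        · left
          exact Subtype.ext (inv_mul_eq_one.1 h1).symm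
        · right
          exact eq_mul_of_inv_mul_eq h1
      have hf2 : ∀ t : C2, (Finset.univ.filter fun a => f a = t).card ≤ 2 := by
        intro t
        rcases (Finset.univ.filter fun a => f a = t).eq_empty_or_nonempty with h | ⟨a, ha⟩
        · rw [h]; simp
        · refine (Finset.card_le_card (t := {a, a * ⟨z1, hz1C⟩}) fun b hb => ?_).trans
            Finset.card_le_two
          rcases hfib a b ((Finset.mem_filter.1 ha).2.trans (Finset.mem_filter.1 hb).2.symm) with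
            h | h
          · exact Finset.mem_insert.2 (Or.inl h)
          · exact Finset.mem_insert.2 (Or.inr (Finset.mem_singleton.2 (Subtype.ext h)))
      have hcount : Fintype.card C ≤ 2 * (Finset.univ.image f).card :=
        Finset.card_le_mul_card_image _ 2 fun t _ => hf2 t
      rw [← Nat.card_eq_fintype_card, hCcard,
        show 2 ^ (n - 1) = 2 * 2 ^ (n - 2) by rw [← pow_succ']; congr 1; omega] at hcount
      have himg : Finset.univ.image f = Finset.univ := by
        refine Finset.eq_univ_of_card _ (le_antisymm (Finset.card_le_univ _) ?_)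
        rw [← Nat.card_eq_fintype_card, hC2card]
        omega
      exact fun t => by
        obtain ⟨a, -, ha⟩ := Finset.mem_image.1 (himg.symm ▸ Finset.mem_univ t : t ∈ _)
        exact ⟨a, ha⟩
    obtain ⟨a, ha⟩ := hsurj ⟨w, hw⟩
    exact ⟨a, mul_inv_eq_iff_eq_mul.1 (congrArg Subtype.val ha)⟩
  set Q := C2 ⊔ zpowers j' with hQdef
  have hQmem : ∀ x ∈ Q, x ∈ C2 ∨ ∃ w ∈ C2, x = w * j' := by
    intro x hx
    obtain ⟨a, ha, b, hb, rfl⟩ := Subgroup.mem_sup_of_normal_left.1 hx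
    obtain ⟨i, hi, rfl⟩ := Finset.mem_image.1 (mem_zpowers_iff_mem_range_orderOf.1 hb)
    rw [Finset.mem_range, hj'o] at hi
    interval_cases i
    · left; rwa [pow_zero, mul_one]
    · right; exact ⟨a, ha, by rw [pow_one]⟩
  have hQtop : c ∉ Q := fun h => by
    rcases hQmem c h with h1 | ⟨w, hw, h1⟩
    · have := Subgroup.orderOf_dvd_natCard C2 h1
      rw [hc, hC2card, Nat.pow_dvd_pow_iff_le_right one_lt_two] at this
      omega
    · exact hjC ((mul_mem_cancel_left (hC2le hw)).1 (h1 ▸ mem_zpowers c))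
  have hQidx : Q.index = 2 := by
    have h1 : Q.index ∣ 4 := hC2idx ▸ index_dvd_of_le le_sup_left
    have h2 : Q.index ≠ 1 := fun h => hQtop (index_eq_one.1 h ▸ mem_top c)
    have h3 : Q.index ≠ 4 := fun h => by
      have h6 : C2 = Q := by
        refine eq_of_le_of_card_ge le_sup_left (le_of_eq ?_)
        have a := Q.card_mul_index
        have b := C2.card_mul_index
        rw [h] at a
        rw [hC2idx] at b
        omega
      exact hjC (hC2le (h6.symm ▸ mem_sup_right (mem_zpowers j')))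
    have h4 : Q.index ≤ 4 := Nat.le_of_dvd (by norm_num) h1
    interval_cases hQi : Q.index <;> omega
  refine ⟨Q, z1, hQidx, hz1o.1, hz1Z, fun x hxQ hx2 hx1 => ?_⟩
  rcases hQmem x hxQ with h1 | ⟨w, hw, rfl⟩
  · exact Or.inl ((hcpow x (hC2le h1) hx2).resolve_left hx1)
  · obtain ⟨a, ha⟩ := hclass w hw
    exact Or.inr (IsConj.symm (isConj_iff.2 ⟨a, ha⟩))

variable {G : Type u} [Group G] (S : Setup G)

theorem mem_V {x : G} (hx : x ∈ S.V) : ∃ y ∈ VS, S.ψ y = x := by
  induction hx using Subgroup.closure_induction with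
  | mem x hx =>
    rcases hx with rfl | rfl
    · exact ⟨aK, by simp [VS], rfl⟩
    · exact ⟨bK, by simp [VS], rfl⟩
  | one => exact ⟨1, by simp [VS], map_one _⟩
  | mul x y _ _ h1 h2 =>
    obtain ⟨a, ha, rfl⟩ := h1
    obtain ⟨b, hb, rfl⟩ := h2
    exact ⟨a * b, VS_mul a ha b hb, map_mul _ _ _⟩
  | inv x _ h1 =>
    obtain ⟨a, ha, rfl⟩ := h1
    exact ⟨a, ha, eq_inv_of_mul_eq_one_left (by rw [← map_mul, VS_sq a ha, map_one])⟩

theorem V_mem {y : KK} (hy : y ∈ VS) : S.ψ y ∈ S.V := by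
  have ha : S.ψ aK ∈ S.V := Subgroup.subset_closure (Or.inl rfl)
  have hb : S.ψ bK ∈ S.V := Subgroup.subset_closure (Or.inr rfl)
  simp only [VS, Finset.mem_insert, Finset.mem_singleton] at hy
  rcases hy with rfl | rfl | rfl | rfl
  · rw [map_one]; exact one_mem _
  · exact ha
  · exact hb
  · rw [map_mul]; exact mul_mem ha hb

theorem card_V : Nat.card S.V = 4 := by
  have h : (S.V : Set G) = S.ψ '' (VS : Set KK) :=
    Set.Subset.antisymm (fun x hx => mem_V S hx) fun x hx => by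
      obtain ⟨y, hy, rfl⟩ := hx
      exact V_mem S hy
  rw [show Nat.card S.V = (S.V : Set G).ncard from Nat.card_coe_set_eq _, h,
    Set.ncard_image_of_injective _ S.inj, Set.ncard_coe_finset, VS_card]

theorem cent_z_le : centralizer ({S.ψ zK} : Set G) ≤ S.ψ.range := by
  rw [S.range_eq]
  intro x hx
  rw [Subgroup.mem_normalizer_iff]
  have hx' := mem_centralizer_singleton_iff.1 hx
  intro w
  have key : ∀ v ∈ zpowers (S.ψ zK), x * v * x⁻¹ = v := by
    intro v hv
    obtain ⟨i, rfl⟩ := mem_zpowers_iff.1 hv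
    rw [(Commute.zpow_right (show Commute x (S.ψ zK) from hx') i).eq, mul_inv_cancel_right]
  constructor
  · intro hw
    rw [key w hw]
    exact hw
  · intro hw
    have h2 := key _ hw
    have h3 : x * w * x⁻¹ = w := mul_left_cancel (mul_right_cancel h2)
    rwa [h3] at hw

/-- The image of the abelian group of order nine. -/
abbrev D : Subgroup G := DK.map S.ψ

theorem card_D : Nat.card (D S) = 9 := by
  rw [card_map_of_injective S.inj, card_DK]

theorem zK_mem : zK ∈ DK := mem_DK_of_comm _ rfl zK_comm_dK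

theorem dK_mem : dK ∈ DK := mem_DK_of_comm _ zK_comm_dK.symm rfl

theorem cent_D {x : G} (h : ∀ w ∈ D S, x * w = w * x) : x ∈ D S := by
  have hz := h _ (mem_map_of_mem _ zK_mem)
  obtain ⟨y, rfl⟩ := cent_z_le S (mem_centralizer_singleton_iff.2 hz)
  refine mem_map_of_mem _ (mem_DK_of_comm _ (S.inj ?_) (S.inj ?_))
  · rw [map_mul, map_mul, hz]
  · rw [map_mul, map_mul, h _ (mem_map_of_mem _ dK_mem)]

include S in
theorem not_nine [Finite G] {x : G} (hx : orderOf x = 2) :
    ¬ 9 ∣ Nat.card (centralizer ({x} : Set G)) := by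
  intro h
  haveI : Fact (Nat.Prime 3) := ⟨Nat.prime_three⟩
  obtain ⟨A', hA'⟩ := Sylow.exists_subgroup_card_pow_prime 3 (n := 2)
    (G := centralizer ({x} : Set G)) (by simpa using h)
  have hA : Nat.card (A'.map (centralizer ({x} : Set G)).subtype) = 3 ^ 2 := by
    rw [card_map_of_injective (subtype_injective _), hA']
  obtain ⟨k, -, hk⟩ := exists_map_conj_eq (H := ⊤) le_top le_top hA (card_D S)
    (by rw [card_top]; exact S.not_dvd)
  have hmem : k * x * k⁻¹ ∈ D S := by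
    refine cent_D S fun w hw => ?_
    rw [← hk] at hw
    obtain ⟨a, ⟨a', -, rfl⟩, rfl⟩ := hw
    have := mem_centralizer_singleton_iff.1 a'.2
    show k * x * k⁻¹ * (k * a' * k⁻¹) = k * a' * k⁻¹ * (k * x * k⁻¹)
    calc k * x * k⁻¹ * (k * a' * k⁻¹) = k * (x * a') * k⁻¹ := by group
      _ = k * (a' * x) * k⁻¹ := by rw [this]
      _ = _ := by group
  have h9 : orderOf (k * x * k⁻¹) ∣ 9 := card_D S ▸ Subgroup.orderOf_dvd_natCard _ hmem
  rw [show k * x * k⁻¹ = MulAut.conj k x from rfl, MulEquiv.orderOf_eq, hx] at h9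
  norm_num at h9

theorem conj_V_tK {y : KK} (hy : y ∈ VS) (hy1 : y ≠ 1) : IsConj (S.ψ y) (S.ψ tK) := by
  simp only [VS, Finset.mem_insert, Finset.mem_singleton] at hy
  have key : ∀ y k : KK, k * y * k⁻¹ = tK → IsConj (S.ψ y) (S.ψ tK) := fun y k h =>
    isConj_iff.2 ⟨S.ψ k, by rw [← h, map_mul, map_mul, map_inv]⟩
  rcases hy with rfl | rfl | rfl | rfl
  · exact absurd rfl hy1
  · exact key _ ⟨(1, swap 0 4 * swap 4 1), mem_KK.2 (by decide)⟩ (by decide +kernel)
  · exact key _ ⟨(1, swap 0 4 * swap 4 2 * swap 2 3 * swap 3 1), mem_KK.2 (by decide)⟩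
      (by decide +kernel)
  · exact key _ ⟨(1, swap 0 4 * swap 4 3 * swap 3 2 * swap 2 1), mem_KK.2 (by decide)⟩
      (by decide +kernel)

theorem conj_eK_tK : IsConj (S.ψ eK) (S.ψ tK) := by
  set e' := S.g * S.ψ eK * S.g⁻¹ with he'
  have hcom : e' * S.ψ zK = S.ψ zK * e' := by
    have h0 : eK * dK = dK * eK := by decide +kernel
    calc e' * S.ψ zK = S.g * (S.ψ eK * S.ψ dK) * S.g⁻¹ := by
          rw [he', ← S.g_d]; group
      _ = S.g * (S.ψ dK * S.ψ eK) * S.g⁻¹ := by rw [← map_mul, h0, map_mul]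
      _ = S.ψ zK * e' := by rw [he', ← S.g_d]; group
  obtain ⟨y, hy⟩ := cent_z_le S (mem_centralizer_singleton_iff.2 hcom)
  have hyz : y * zK = zK * y := S.inj (by rw [map_mul, map_mul, hy, hcom])
  have hyy : y * y = 1 := S.inj (by
    rw [map_mul, map_one, hy, he']
    calc S.g * S.ψ eK * S.g⁻¹ * (S.g * S.ψ eK * S.g⁻¹)
        = S.g * S.ψ (eK * eK) * S.g⁻¹ := by rw [map_mul]; group
      _ = 1 := by rw [show eK * eK = 1 by decide +kernel, map_one]; group)
  have hy1 : y ≠ 1 := by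
    rintro rfl
    rw [map_one] at hy
    have h1 : S.g * S.ψ eK * S.g⁻¹ = 1 := by rw [← he', ← hy]
    rw [mul_inv_eq_one] at h1
    have h2 : S.ψ eK = S.ψ 1 := by rw [map_one]; exact mul_eq_left.1 h1
    exact absurd (S.inj h2) (by decide +kernel)
  have hs1 := three_cent _ (congrArg (fun w : KK => w.1.1) hyz)
  have hs2 := mem_KK.1 y.2
  rw [hs1, one_mul] at hs2
  have h11 : y.1.1 = 1 := by
    refine two_pow_elim (k := 1) ?_ ?_
    · rcases three_cases _ hs1 with h | h | h <;> rw [h] <;> decide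
    · rw [pow_one, pow_two]
      exact congrArg (fun w : KK => w.1.1) hyy
  obtain ⟨r, hr, hr'⟩ := five_invol _ (congrArg (fun w : KK => w.1.2) hyy) hs2
    fun h => hy1 (Subtype.ext (Prod.ext h11 h))
  let k : KK := ⟨(1, r), mem_KK.2 (by rw [map_one, one_mul, hr])⟩
  have hk : k * y * k⁻¹ = tK := by
    refine Subtype.ext (Prod.ext ?_ ?_)
    · show 1 * y.1.1 * 1⁻¹ = 1
      rw [h11, one_mul, inv_one, mul_one]
    · exact hr'
  refine (isConj_iff.2 ⟨S.g, he'.symm⟩).trans ?_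
  rw [← hy]
  exact isConj_iff.2 ⟨S.ψ k, by rw [← hk, map_mul, map_mul, map_inv]⟩

theorem card_cent_z_ne : Nat.card (centralizer ({S.ψ zK} : Set G)) ≠ 18 := by
  intro h
  have hle : S.V ≤ centralizer ({S.ψ zK} : Set G) := by
    intro x hx
    obtain ⟨y, hy, rfl⟩ := mem_V S hx
    rw [mem_centralizer_singleton_iff, ← map_mul, ← map_mul]
    exact congrArg _ (VS_comm_z y hy)
  have := card_dvd_of_le hle
  rw [card_V, h] at this
  norm_num at this

theorem eq_pow_or_conj_zd {x : G} (hx : x ∈ D S) :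
    x = 1 ∨ x ∈ zpowers (S.ψ zK) ∨ x ∈ zpowers (S.ψ dK) ∨ IsConj (S.ψ zK * S.ψ dK) x := by
  obtain ⟨y, hy, rfl⟩ := hx
  obtain ⟨i, hi, j, hj, rfl⟩ := exists_pow_of_mem_DK y hy
  have hc : ∀ k w : KK, k * (zK * dK) * k⁻¹ = w → IsConj (S.ψ zK * S.ψ dK) (S.ψ w) :=
    fun k w h => isConj_iff.2 ⟨S.ψ k, by rw [← h, map_mul, map_mul, map_mul, map_inv]⟩
  interval_cases i <;> interval_cases j
  · left; simp
  · right; right; left; simp
  · right; right; left; simp
  · right; left; simp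
  · right; right; right
    exact hc 1 _ (by decide +kernel)
  · right; right; right
    exact hc tK _ (by decide +kernel)
  · right; left; simp
  · right; right; right
    exact hc eK _ (by decide +kernel)
  · right; right; right
    exact hc (tK * eK) _ (by decide +kernel)

theorem orderOf_ψ {y : KK} {p : ℕ} [Fact p.Prime] (h : y ^ p = 1) (h1 : y ≠ 1) :
    orderOf (S.ψ y) = p :=
  (orderOf_injective S.ψ S.inj y).trans (orderOf_eq_prime h h1)

/-- An involution centralizing `zd` is not conjugate to `(0 1)(2 3)`. -/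
theorem not_isConj [Finite G] {u : G} (hu : u * (S.ψ zK * S.ψ dK) = S.ψ zK * S.ψ dK * u) :
    ¬ IsConj u (S.ψ tK) := by
  classical
  intro hc
  haveI : Fact (Nat.Prime 2) := ⟨Nat.prime_two⟩
  haveI : Fact (Nat.Prime 3) := ⟨Nat.prime_three⟩
  obtain ⟨k, hk⟩ := isConj_iff.1 hc
  set x := k * (S.ψ zK * S.ψ dK) * k⁻¹ with hxdef
  have hxC : x ∈ centralizer ({S.ψ tK} : Set G) := by
    rw [mem_centralizer_singleton_iff, ← hk, hxdef]
    calc k * (S.ψ zK * S.ψ dK) * k⁻¹ * (k * u * k⁻¹)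
        = k * (S.ψ zK * S.ψ dK * u) * k⁻¹ := by group
      _ = k * (u * (S.ψ zK * S.ψ dK)) * k⁻¹ := by rw [hu]
      _ = _ := by group
  have hzC : S.ψ zK ∈ centralizer ({S.ψ tK} : Set G) := by
    rw [mem_centralizer_singleton_iff, ← map_mul, ← map_mul]
    exact congrArg _ (by decide +kernel)
  have hox : orderOf x = 3 := by
    rw [hxdef, show k * (S.ψ zK * S.ψ dK) * k⁻¹ = MulAut.conj k (S.ψ zK * S.ψ dK) from rfl,
      MulEquiv.orderOf_eq, ← map_mul]
    exact orderOf_ψ S (by decide +kernel) (by decide +kernel)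
  have hoz : orderOf (S.ψ zK) = 3 := orderOf_ψ S (by decide +kernel) (by decide +kernel)
  obtain ⟨m, -, hm⟩ := exists_map_conj_eq (p := 3) (m := 1) (zpowers_le.2 hxC) (zpowers_le.2 hzC)
    (by rw [Nat.card_zpowers, hox]; rfl) (by rw [Nat.card_zpowers, hoz]; rfl)
    (not_nine S (orderOf_ψ S (y := tK) (by decide +kernel) (by decide +kernel)))
  have hmem : m * x * m⁻¹ ∈ zpowers (S.ψ zK) := hm ▸ ⟨x, mem_zpowers _, rfl⟩
  have hcard : Nat.card (centralizer ({m * x * m⁻¹} : Set G)) = 18 := by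
    rw [card_cent_conj, hxdef, card_cent_conj, S.card_y]
  obtain ⟨i, hi, heq⟩ := mem_zpowers_iff_mem_range_orderOf.1 hmem |> Finset.mem_image.1
  rw [Finset.mem_range, hoz] at hi
  interval_cases i
  · have h1 : orderOf (m * x * m⁻¹) = 3 := by
      rw [show m * x * m⁻¹ = MulAut.conj m x from rfl, MulEquiv.orderOf_eq, hox]
    rw [← heq, pow_zero, orderOf_one] at h1
    norm_num at h1
  · rw [← heq, pow_one] at hcard
    exact card_cent_z_ne S hcard
  · have h2 : S.ψ zK ^ 2 = S.ψ eK * S.ψ zK * (S.ψ eK)⁻¹ := by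
      rw [← map_pow, ← map_inv, ← map_mul, ← map_mul]
      exact congrArg _ (by decide +kernel)
    rw [← heq] at hcard
    simp only [h2, card_cent_conj] at hcard
    exact card_cent_z_ne S hcard

/-- The index two subgroup missing `u`. -/
theorem exists_index_two [Finite G] (hle : centralizer (S.V : Set G) ≤ S.ψ.range) {u : G}
    (hu : orderOf u = 2) (hnc : ¬ IsConj u (S.ψ tK)) :
    ∃ M : Subgroup G, M.Normal ∧ M.index = 2 ∧ u ∉ M ∧
      ∃ w : G, w * S.ψ tK = S.ψ tK * w ∧ w ∉ M := by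
  haveI : Fact (Nat.Prime 2) := ⟨Nat.prime_two⟩
  have hVp : IsPGroup 2 S.V := IsPGroup.of_card (n := 2) (by rw [card_V]; rfl)
  obtain ⟨P, hVP⟩ := hVp.exists_le_sylow
  have hcentV : ∀ x ∈ (P : Subgroup G), (∀ v ∈ S.V, x * v = v * x) → x ∈ S.V := by
    intro x hxP hcom
    obtain ⟨y, rfl⟩ := hle (mem_centralizer_iff.2 fun v hv => (hcom v hv).symm)
    obtain ⟨k, hk⟩ := P.isPGroup' ⟨S.ψ y, hxP⟩
    refine V_mem S (cent_VK y (k := k) (S.inj ?_) (S.inj ?_) (S.inj ?_))
    · rw [map_mul, map_mul]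
      exact hcom _ (subset_closure (Or.inl rfl))
    · rw [map_mul, map_mul]
      exact hcom _ (subset_closure (Or.inr rfl))
    · rw [map_pow, map_one]
      exact congrArg Subtype.val hk
  obtain ⟨n, hn⟩ := IsPGroup.iff_card.1 P.isPGroup'
  have hn3 : 3 ≤ n := by
    have h8 : 8 ∣ Nat.card G :=
      eight_dvd_card_KK.trans (card_dvd_of_injective S.ψ S.inj)
    have h8' : 2 ^ 3 ∣ Nat.card (P : Subgroup G) :=
      P.pow_dvd_card_of_pow_dvd_card (by simpa using h8)
    rw [hn, Nat.pow_dvd_pow_iff_le_right one_lt_two] at h8'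
    exact h8'
  haveI : Nontrivial (P : Subgroup G) := Finite.one_lt_card_iff_nontrivial.1
    (hn ▸ Nat.one_lt_two_pow (by omega))
  haveI := P.isPGroup'.center_nontrivial
  obtain ⟨⟨z0, hz0Z⟩, hz0'⟩ := exists_ne (1 : center (P : Subgroup G))
  have hzne : z0 ≠ 1 := fun h => hz0' (Subtype.ext h)
  have hz0V : (z0 : G) ∈ S.V := hcentV _ z0.2 fun v hv =>
    (congrArg Subtype.val (mem_center_iff.1 hz0Z ⟨v, hVP hv⟩)).symm
  -- a non-central involution of `V`
  obtain ⟨j, hjV, hj1, hjz⟩ : ∃ j ∈ S.V, j ≠ 1 ∧ j ≠ (z0 : G) := by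
    by_cases h : S.ψ aK = z0
    · refine ⟨S.ψ bK, subset_closure (Or.inr rfl), fun h1 => ?_, fun h1 => ?_⟩
      · exact absurd (S.inj (h1.trans (map_one S.ψ).symm)) (by decide +kernel)
      · exact absurd (S.inj (h1.trans h.symm)) (by decide +kernel)
    · refine ⟨S.ψ aK, subset_closure (Or.inl rfl), fun h1 => ?_, h⟩
      exact absurd (S.inj (h1.trans (map_one S.ψ).symm)) (by decide +kernel)
  have hconjV : ∀ v ∈ S.V, v ≠ 1 → IsConj v (S.ψ tK) := by
    intro v hv hv1
    obtain ⟨y, hy, rfl⟩ := mem_V S hv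
    exact conj_V_tK S hy fun h => hv1 (by rw [h, map_one])
  have hVsq : ∀ v ∈ S.V, v * v = 1 := fun v hv => by
    obtain ⟨y, hy, rfl⟩ := mem_V S hv
    rw [← map_mul, VS_sq y hy, map_one]
  -- the four-group is generated by `j` and `z0`
  have hVgen : ∀ x : G, x * j = j * x → x * (z0 : G) = z0 * x → ∀ v ∈ S.V, x * v = v * x := by
    intro x hxj hxz v hv
    have hset : ({1, j, (z0 : G), j * z0} : Set G) = (S.V : Set G) := by
      refine Set.eq_of_subset_of_ncard_le ?_ ?_
      · rintro w (rfl | rfl | rfl | rfl)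
        exacts [one_mem _, hjV, hz0V, mul_mem hjV hz0V]
      · rw [← Nat.card_coe_set_eq, show Nat.card (S.V : Set G) = 4 from card_V S]
        have h1 : (z0 : G) ≠ 1 := fun h => hzne (Subtype.ext h)
        have h2 : j * z0 ≠ 1 := fun h => hjz (mul_right_cancel (h.trans (hVsq _ hz0V).symm))
        rw [Set.ncard_insert_of_notMem, Set.ncard_insert_of_notMem, Set.ncard_pair]
        · intro h; exact hj1 (mul_eq_right.1 h.symm)
        · rintro (h | h)
          · exact hjz h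
          · exact h1 (left_eq_mul.1 h)
        · rintro (h | h | h)
          · exact hj1 h.symm
          · exact h1 h.symm
          · exact h2 h.symm
    rw [← SetLike.mem_coe, ← hset] at hv
    rcases hv with rfl | rfl | rfl | rfl
    · simp
    · exact hxj
    · exact hxz
    · rw [← mul_assoc, hxj, mul_assoc, hxz, mul_assoc]
  let j' : (P : Subgroup G) := ⟨j, hVP hjV⟩
  have hj'o : orderOf j' = 2 := orderOf_eq_prime
    (Subtype.ext (show j ^ 2 = 1 by rw [pow_two, hVsq j hjV])) fun h => hj1 (congrArg Subtype.val h)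
  have hCj : centralizer ({j'} : Set (P : Subgroup G)) = S.V.subgroupOf (P : Subgroup G) := by
    ext x
    rw [mem_centralizer_singleton_iff, mem_subgroupOf]
    constructor
    · intro hx
      exact hcentV _ x.2 (hVgen _ (congrArg Subtype.val hx)
        (congrArg Subtype.val (mem_center_iff.1 hz0Z x)))
    · intro hx
      obtain ⟨a, ha, ha'⟩ := mem_V S hx
      obtain ⟨b, hb, hb'⟩ := mem_V S hjV
      refine Subtype.ext ?_
      show (x : G) * j = j * x
      rw [← ha', ← hb', ← map_mul, ← map_mul]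
      exact congrArg _ (VS_comm a ha b hb)
  obtain ⟨Q, z1, hQidx, hz1, hz1Z, hQ⟩ := exists_half hn3 hn hj'o
    (by rw [hCj, Nat.card_congr (subgroupOfEquivOfLe hVP).toEquiv, card_V])
  have hz1V : (z1 : G) ∈ S.V := hcentV _ z1.2 fun v hv =>
    (congrArg Subtype.val (hz1Z ⟨v, hVP hv⟩)).symm
  -- no conjugate of `u` lies in `Q`
  have hno : ∀ k : G, k * u * k⁻¹ ∉ Q.map (P : Subgroup G).subtype := by
    rintro k ⟨x, hxQ, hx⟩
    have hx2 : x * x = 1 := by
      apply Subtype.ext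
      show (x : G) * x = 1
      rw [show (x : G) = k * u * k⁻¹ from hx]
      calc k * u * k⁻¹ * (k * u * k⁻¹) = k * (u * u) * k⁻¹ := by group
        _ = 1 := by rw [← pow_two, ← hu, pow_orderOf_eq_one]; group
    have hx1 : x ≠ 1 := fun h => by
      rw [h, map_one] at hx
      have : u = 1 := by
        calc u = k⁻¹ * (k * u * k⁻¹) * k := by group
          _ = 1 := by rw [← hx]; group
      rw [this, orderOf_one] at hu
      norm_num at hu
    have hxt : IsConj (x : G) (S.ψ tK) := by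
      rcases hQ x hxQ hx2 hx1 with h1 | h1
      · exact h1 ▸ hconjV _ hz1V fun h => hz1 (Subtype.ext h)
      · exact ((P : Subgroup G).subtype.map_isConj h1).trans (hconjV j hjV hj1)
    refine hnc ((isConj_iff.2 ⟨k, ?_⟩).trans hxt)
    exact hx.symm
  obtain ⟨M, hMn, hMi, huM⟩ := CfsgLib.Transfer.exists_index_two_of_not_conj_mem P
    (Subgroup.map_subtype_le Q) (by
      show (Q.map (P : Subgroup G).subtype).relIndex (P : Subgroup G) = 2
      rw [relIndex, subgroupOf, comap_map_eq_self_of_injective (subtype_injective _), hQidx])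
    hu hno
  refine ⟨M, hMn, hMi, huM, ?_⟩
  obtain ⟨p, hpP, hpM⟩ : ∃ p ∈ (P : Subgroup G), p ∉ M := by
    by_contra h
    push Not at h
    have := index_dvd_of_le (show (P : Subgroup G) ≤ M from h)
    rw [hMi] at this
    exact P.not_dvd_index this
  obtain ⟨k, hk⟩ := isConj_iff.1 (hconjV _ hz0V fun h => hzne (Subtype.ext h))
  refine ⟨k * p * k⁻¹, ?_, fun h => hpM ?_⟩
  · rw [← hk]
    have hpz : p * (z0 : G) = z0 * p := congrArg Subtype.val (mem_center_iff.1 hz0Z ⟨p, hpP⟩)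
    calc k * p * k⁻¹ * (k * z0 * k⁻¹) = k * (p * z0) * k⁻¹ := by group
      _ = k * (z0 * p) * k⁻¹ := by rw [hpz]
      _ = _ := by group
  · have := hMn.conj_mem _ h k⁻¹
    simpa [mul_assoc] using this

end Big

open Big in
/-- The centralizer of the four-group is not inside the normalizer of the subgroup of order
three. -/
theorem Setup.not_le_range {G : Type u} [Group G] [Finite G] (S : Setup G) :
    ¬ Subgroup.centralizer (S.V : Set G) ≤ S.ψ.range := by
  classical
  intro hle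
  haveI : Fact (Nat.Prime 2) := ⟨Nat.prime_two⟩
  haveI : Fact (Nat.Prime 3) := ⟨Nat.prime_three⟩
  obtain ⟨⟨u, huC⟩, hu⟩ := exists_prime_orderOf_dvd_card' 2
    (G := centralizer ({S.ψ zK * S.ψ dK} : Set G)) (by rw [S.card_y]; norm_num)
  rw [← orderOf_coe] at hu
  have hucom := mem_centralizer_singleton_iff.1 huC
  obtain ⟨M, hMn, hMi, huM, w, hwt, hwM⟩ := exists_index_two S hle hu (not_isConj S hucom)
  refine huM ?_
  have h3 : ∀ y : KK, y ^ 3 = 1 → S.ψ y ∈ M := by
    intro y hy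
    have h2 := sq_mem_of_index_two hMi (S.ψ y)
    have : S.ψ y = (S.ψ y ^ 2)⁻¹ := eq_inv_of_mul_eq_one_left (by
      rw [← pow_succ', ← map_pow, hy, map_one])
    rw [this]
    exact inv_mem h2
  have htM : S.ψ tK ∈ M := by
    rw [show tK = (⟨(1, swap 0 1 * swap 1 2), mem_KK.2 (by decide)⟩ : KK) *
        ⟨(1, swap 1 2 * swap 2 3), mem_KK.2 (by decide)⟩ by decide +kernel, map_mul]
    exact mul_mem (h3 _ (by decide +kernel)) (h3 _ (by decide +kernel))
  obtain ⟨h, hh⟩ := isConj_iff.1 (conj_eK_tK S).symm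
  have heM : S.ψ eK ∈ M := hh ▸ hMn.conj_mem _ htM h
  -- conjugate inside `M`
  obtain ⟨h, hh, hhM⟩ : ∃ h : G, h * S.ψ tK * h⁻¹ = S.ψ eK ∧ h ∈ M := by
    by_cases hM : h ∈ M
    · exact ⟨h, hh, hM⟩
    · refine ⟨h * w, ?_, (mul_mem_iff_of_index_two hMi).2 (iff_of_false hM hwM)⟩
      rw [← hh]
      calc h * w * S.ψ tK * (h * w)⁻¹ = h * (w * S.ψ tK) * w⁻¹ * h⁻¹ := by group
        _ = h * (S.ψ tK * w) * w⁻¹ * h⁻¹ := by rw [hwt]
        _ = _ := by group
  have hzM : S.ψ zK ∈ M := h3 _ (by decide +kernel)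
  have hdM : S.ψ dK ∈ M := h3 _ (by decide +kernel)
  have hoz : orderOf (S.ψ zK) = 3 := orderOf_ψ S (by decide +kernel) (by decide +kernel)
  have hod : orderOf (S.ψ dK) = 3 := orderOf_ψ S (by decide +kernel) (by decide +kernel)
  have hxmem : h * S.ψ zK * h⁻¹ ∈ centralizer ({S.ψ eK} : Set G) ⊓ M := by
    refine ⟨mem_centralizer_singleton_iff.2 ?_, hMn.conj_mem _ hzM h⟩
    have h0 : S.ψ zK * S.ψ tK = S.ψ tK * S.ψ zK := by
      rw [← map_mul, ← map_mul]; exact congrArg _ (by decide +kernel)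
    rw [← hh]
    calc h * S.ψ zK * h⁻¹ * (h * S.ψ tK * h⁻¹) = h * (S.ψ zK * S.ψ tK) * h⁻¹ := by group
      _ = h * (S.ψ tK * S.ψ zK) * h⁻¹ := by rw [h0]
      _ = _ := by group
  have hdmem : S.ψ dK ∈ centralizer ({S.ψ eK} : Set G) ⊓ M := by
    refine ⟨mem_centralizer_singleton_iff.2 ?_, hdM⟩
    rw [← map_mul, ← map_mul]; exact congrArg _ (by decide +kernel)
  obtain ⟨k, hk, hkmap⟩ := exists_map_conj_eq (p := 3) (m := 1) (zpowers_le.2 hxmem)
    (zpowers_le.2 hdmem)
    (by rw [Nat.card_zpowers, show h * S.ψ zK * h⁻¹ = MulAut.conj h (S.ψ zK) from rfl,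
      MulEquiv.orderOf_eq, hoz]; rfl)
    (by rw [Nat.card_zpowers, hod]; rfl)
    (fun hd => not_nine S (orderOf_ψ S (y := eK) (by decide +kernel) (by decide +kernel))
      (hd.trans (card_dvd_of_le inf_le_left)))
  set n1 := k * h with hn1
  have hn1M : n1 ∈ M := mul_mem hk.2 hhM
  have hn1z : n1 * S.ψ zK * n1⁻¹ ∈ zpowers (S.ψ dK) := by
    rw [← hkmap]
    exact ⟨h * S.ψ zK * h⁻¹, mem_zpowers _, by
      show k * (h * S.ψ zK * h⁻¹) * k⁻¹ = _
      rw [hn1]; group⟩
  -- move inside the centralizer of `d`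
  set H := centralizer ({S.ψ dK} : Set G) ⊓ M with hH
  have hDM : D S ≤ M := by
    rintro _ ⟨y, hy, rfl⟩
    obtain ⟨i, -, j, -, rfl⟩ := exists_pow_of_mem_DK y hy
    rw [map_mul, map_pow, map_pow]
    exact mul_mem (pow_mem hzM i) (pow_mem hdM j)
  have hDab : ∀ a ∈ D S, ∀ b ∈ D S, a * b = b * a := by
    rintro _ ⟨a, ha, rfl⟩ _ ⟨b, hb, rfl⟩
    obtain ⟨i, -, j, -, rfl⟩ := exists_pow_of_mem_DK a ha
    obtain ⟨i', -, j', -, rfl⟩ := exists_pow_of_mem_DK b hb
    rw [← map_mul, ← map_mul]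
    refine congrArg _ ?_
    have hc : Commute zK dK := zK_comm_dK
    exact ((((Commute.refl zK).pow_pow i i').mul_right (hc.pow_pow i j')).mul_left
      (((hc.symm.pow_pow j i')).mul_right ((Commute.refl dK).pow_pow j j'))).eq
  have hdD : S.ψ dK ∈ D S := mem_map_of_mem _ dK_mem
  have hzD : S.ψ zK ∈ D S := mem_map_of_mem _ zK_mem
  have hDH : D S ≤ H := le_inf
    (fun a ha => mem_centralizer_singleton_iff.2 (hDab a ha _ hdD)) hDM
  have hdn : S.ψ dK ∈ zpowers (n1 * S.ψ zK * n1⁻¹) := by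
    have hle' : zpowers (n1 * S.ψ zK * n1⁻¹) ≤ zpowers (S.ψ dK) := zpowers_le.2 hn1z
    have := eq_of_le_of_card_ge hle' (by
      rw [Nat.card_zpowers, Nat.card_zpowers, hod,
        show n1 * S.ψ zK * n1⁻¹ = MulAut.conj n1 (S.ψ zK) from rfl, MulEquiv.orderOf_eq, hoz])
    rw [this]
    exact mem_zpowers _
  have hD'H : (D S).map (MulAut.conj n1).toMonoidHom ≤ H := by
    rintro _ ⟨a, ha, rfl⟩
    refine ⟨mem_centralizer_singleton_iff.2 ?_, hMn.conj_mem _ (hDM ha) n1⟩
    obtain ⟨i, hi⟩ := mem_zpowers_iff.1 hdn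
    rw [← hi]
    refine (Commute.zpow_right ?_ i).eq
    show n1 * a * n1⁻¹ * (n1 * S.ψ zK * n1⁻¹) = n1 * S.ψ zK * n1⁻¹ * (n1 * a * n1⁻¹)
    calc n1 * a * n1⁻¹ * (n1 * S.ψ zK * n1⁻¹) = n1 * (a * S.ψ zK) * n1⁻¹ := by group
      _ = n1 * (S.ψ zK * a) * n1⁻¹ := by rw [hDab a ha _ hzD]
      _ = _ := by group
  obtain ⟨k2, hk2, hk2map⟩ := exists_map_conj_eq (p := 3) (m := 2) hD'H hDH
    (by rw [card_map_of_injective (MulAut.conj n1).injective, card_D]; rfl)
    (by rw [card_D]; rfl) (fun hd => S.not_dvd (hd.trans (card_subgroup_dvd_card H)))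
  set n2 := k2 * n1 with hn2
  have hn2M : n2 ∈ M := mul_mem hk2.2 hn1M
  have hn2D : ∀ a ∈ D S, n2 * a * n2⁻¹ ∈ D S := by
    intro a ha
    have h7 : k2 * (n1 * a * n1⁻¹) * k2⁻¹ ∈
        ((D S).map (MulAut.conj n1).toMonoidHom).map (MulAut.conj k2).toMonoidHom :=
      ⟨n1 * a * n1⁻¹, ⟨a, ha, rfl⟩, rfl⟩
    rw [hk2map] at h7
    convert h7 using 1
    rw [hn2]; group
  have hn2z : n2 * S.ψ zK * n2⁻¹ ∈ zpowers (S.ψ dK) := by
    obtain ⟨i, hi⟩ := mem_zpowers_iff.1 hn1z
    refine mem_zpowers_iff.2 ⟨i, ?_⟩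
    have hk2d : Commute k2 (S.ψ dK) := mem_centralizer_singleton_iff.1 hk2.1
    calc S.ψ dK ^ i = k2 * (S.ψ dK ^ i) * k2⁻¹ := by
          rw [(hk2d.zpow_right i).eq, mul_inv_cancel_right]
      _ = _ := by rw [hi, hn2]; group
  -- the image of `d`
  have hoy : ∀ a : G, orderOf a = 3 → a ≠ 1 := fun a ha h1 => by
    rw [h1, orderOf_one] at ha; norm_num at ha
  have hn2d : n2 * S.ψ dK * n2⁻¹ ∈ zpowers (S.ψ zK) := by
    have ho : orderOf (n2 * S.ψ dK * n2⁻¹) = 3 :=
      (MulEquiv.orderOf_eq (MulAut.conj n2) _).trans hod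
    rcases eq_pow_or_conj_zd S (hn2D _ hdD) with h1 | h1 | h1 | h1
    · exact absurd h1 (hoy _ ho)
    · exact h1
    · exfalso
      have hle' : zpowers (n2 * S.ψ zK * n2⁻¹) = zpowers (S.ψ dK) :=
        eq_of_le_of_card_ge (zpowers_le.2 hn2z) (by
          rw [Nat.card_zpowers, Nat.card_zpowers, hod,
            show n2 * S.ψ zK * n2⁻¹ = MulAut.conj n2 (S.ψ zK) from rfl, MulEquiv.orderOf_eq, hoz])
      rw [← hle'] at h1
      obtain ⟨i, hi⟩ := mem_zpowers_iff.1 h1
      rw [conj_zpow] at hi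
      have h2 : S.ψ (zK ^ i) = S.ψ dK := by
        rw [map_zpow]
        calc S.ψ zK ^ i = n2⁻¹ * (n2 * S.ψ zK ^ i * n2⁻¹) * n2 := by group
          _ = _ := by rw [hi]; group
      have h3 := congrArg (fun w : KK => w.1.2) (S.inj h2)
      have h4 : (zK ^ i).1.2 = 1 := by
        show (1 : Perm (Fin 5)) ^ i = 1
        exact one_zpow i
      replace h3 : (zK ^ i).1.2 = dK.1.2 := h3
      rw [h4] at h3
      exact absurd h3 (by decide)
    · exfalso
      obtain ⟨m, hm⟩ := isConj_iff.1 h1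
      have h5 := S.card_y
      rw [← card_cent_conj m, hm, card_cent_conj, ← S.g_z, card_cent_conj] at h5
      exact card_cent_z_ne S h5
  have hcases : ∀ a b : G, orderOf b = 3 → orderOf a = 3 → a ∈ zpowers b → a = b ∨ a = b⁻¹ := by
    intro a b hb ha hab
    obtain ⟨i, hi, rfl⟩ := Finset.mem_image.1 (mem_zpowers_iff_mem_range_orderOf.1 hab)
    rw [Finset.mem_range, hb] at hi
    interval_cases i
    · exact absurd (pow_zero b) (hoy _ ha)
    · exact Or.inl (pow_one b)
    · refine Or.inr (eq_inv_of_mul_eq_one_left ?_)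
      rw [← pow_succ, show 2 + 1 = orderOf b by rw [hb], pow_orderOf_eq_one]
  have hconjK : ∀ k y w : KK, k * y * k⁻¹ = w → S.ψ k * S.ψ y * (S.ψ k)⁻¹ = S.ψ w :=
    fun k y w he => by rw [← he, map_mul, map_mul, map_inv]
  have he1 := hconjK tK zK zK (by decide +kernel)
  have he2 := hconjK tK dK⁻¹ dK (by decide +kernel)
  have he3 := hconjK eK zK⁻¹ zK (by decide +kernel)
  have he4 := hconjK eK dK dK (by decide +kernel)
  rw [map_inv] at he2 he3
  -- normalize the signs
  obtain ⟨n3, hn3M, hn3z, hn3d⟩ : ∃ m ∈ M, m * S.ψ zK * m⁻¹ = S.ψ dK ∧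
      m * S.ψ dK * m⁻¹ ∈ zpowers (S.ψ zK) := by
    have ho : orderOf (n2 * S.ψ zK * n2⁻¹) = 3 :=
      (MulEquiv.orderOf_eq (MulAut.conj n2) _).trans hoz
    rcases hcases _ _ hod ho hn2z with h1 | h1
    · exact ⟨n2, hn2M, h1, hn2d⟩
    · refine ⟨S.ψ tK * n2, mul_mem htM hn2M, ?_, ?_⟩
      · rw [← he2, ← h1]; group
      · obtain ⟨i, hi⟩ := mem_zpowers_iff.1 hn2d
        refine mem_zpowers_iff.2 ⟨i, ?_⟩
        calc S.ψ zK ^ i = S.ψ tK * S.ψ zK ^ i * (S.ψ tK)⁻¹ := by
              conv_lhs => rw [← he1]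
              rw [conj_zpow]
          _ = _ := by rw [hi]; group
  obtain ⟨n4, hn4M, hn4z, hn4d⟩ : ∃ m ∈ M, m * S.ψ zK * m⁻¹ = S.ψ dK ∧
      m * S.ψ dK * m⁻¹ = S.ψ zK := by
    have ho : orderOf (n3 * S.ψ dK * n3⁻¹) = 3 :=
      (MulEquiv.orderOf_eq (MulAut.conj n3) _).trans hod
    rcases hcases _ _ hoz ho hn3d with h1 | h1
    · exact ⟨n3, hn3M, hn3z, h1⟩
    · refine ⟨S.ψ eK * n3, mul_mem heM hn3M, ?_, ?_⟩
      · conv_rhs => rw [← he4, ← hn3z]
        group
      · conv_rhs => rw [← he3, ← h1]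
        group
  set K := centralizer ({S.ψ zK * S.ψ dK} : Set G) with hK
  have hn4K : n4 ∈ K ⊓ M := by
    refine ⟨mem_centralizer_singleton_iff.2 ?_, hn4M⟩
    have hcomm : S.ψ dK * S.ψ zK = S.ψ zK * S.ψ dK := hDab _ hdD _ hzD
    calc n4 * (S.ψ zK * S.ψ dK)
        = (n4 * S.ψ zK * n4⁻¹) * (n4 * S.ψ dK * n4⁻¹) * n4 := by group
      _ = _ := by rw [hn4z, hn4d, hcomm]
  have hDK' : D S ≤ K ⊓ M := le_inf
    (fun a ha => mem_centralizer_singleton_iff.2 (hDab a ha _ (mul_mem hzD hdD))) hDM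
  have hn4D : n4 ∉ D S := fun hmem => by
    have h6 := hDab _ hmem _ hzD
    rw [← mul_inv_eq_iff_eq_mul, hn4z] at h6
    exact absurd (S.inj h6) (by decide +kernel)
  have hKM : K ⊓ M = K := by
    refine eq_of_le_of_card_ge inf_le_left ?_
    rw [S.card_y]
    have h9 : 9 ∣ Nat.card (K ⊓ M : Subgroup G) := card_D S ▸ card_dvd_of_le hDK'
    have hne : Nat.card (K ⊓ M : Subgroup G) ≠ 9 := fun e =>
      hn4D ((eq_of_le_of_card_ge hDK' (by rw [e, card_D])).symm ▸ hn4K)
    obtain ⟨q, hq⟩ := h9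
    have : 0 < Nat.card (K ⊓ M : Subgroup G) := Nat.card_pos
    omega
  exact inf_eq_left.1 hKM huC

end CfsgLib.AEightThree
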