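import Cfsg.Agent.Lib.AEightThree.Involution
import Cfsg.Agent.Lib.Recog.CarmichaelPresentation

/-!
The alternating group of degree eight inside the group.
-/

set_option autoImplicit false
set_option linter.style.haveILetI false
set_option linter.unusedSectionVars false
set_option maxRecDepth 100000

namespace CfsgLib.AEightThree

open Equiv Subgroup CfsgLib.Recog

universe u

/-- The generators lying in the normalizer, as elements of `KK`. -/
def gensK : Fin 6 → KK := ![zK, 1, eK, g12, ⟨(swap 0 1, swap 2 3), mem_KK.2 (by decide)⟩, g34]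

theorem gensK_four : gensK 4 = rK := by decide +kernel

theorem gensK_rels : ∀ i j : Fin 6, i ≠ 1 → j ≠ 1 →
    (i.1 = 0 → gensK i ^ 3 = 1) ∧ (1 ≤ i.1 → gensK i ^ 2 = 1) ∧
    (j.1 = i.1 + 1 → (gensK i * gensK j) ^ 3 = 1) ∧
    (i.1 + 1 < j.1 → (gensK i * gensK j) ^ 2 = 1) := by decide +kernel

theorem perm_three_even : ∀ p : Perm (Fin 3), Perm.sign p = 1 →
    p = 1 ∨ p = swap 0 1 * swap 1 2 ∨ p = (swap 0 1 * swap 1 2)⁻¹ := by decide +kernel

theorem adjacent_snd : ∀ a : Fin 4,
    (gensK ⟨a.1 + 2, by omega⟩).1.2 = swap a.castSucc a.succ := by decide +kernel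

theorem closure_gensK : closure (gensK '' {i | i ≠ 1}) = ⊤ := by
  set H := closure (gensK '' {i | i ≠ 1}) with hH
  have hz : zK ∈ H := subset_closure ⟨0, by decide, rfl⟩
  have hsnd : H.map ((MonoidHom.snd (Perm (Fin 3)) (Perm (Fin 5))).comp KK.subtype) = ⊤ := by
    rw [eq_top_iff]
    intro σ _
    have hle : Submonoid.closure (Set.range fun a : Fin 4 => swap a.castSucc a.succ) ≤
        (H.map ((MonoidHom.snd (Perm (Fin 3)) (Perm (Fin 5))).comp KK.subtype)).toSubmonoid := by
      rw [Submonoid.closure_le]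
      rintro _ ⟨a, rfl⟩
      refine ⟨gensK ⟨a.1 + 2, by omega⟩, subset_closure ⟨_, ?_, rfl⟩, adjacent_snd a⟩
      exact fun h => by simpa using congrArg Fin.val h
    rw [Perm.mclosure_swap_castSucc_succ] at hle
    exact hle (Submonoid.mem_top σ)
  rw [eq_top_iff]
  intro k _
  obtain ⟨h, hh, hhk⟩ : k.1.2 ∈ H.map ((MonoidHom.snd (Perm (Fin 3)) (Perm (Fin 5))).comp
      KK.subtype) := hsnd ▸ Subgroup.mem_top _
  have h2 : (k * h⁻¹).1.2 = 1 := by
    show k.1.2 * h.1.2⁻¹ = 1
    rw [show h.1.2 = k.1.2 from hhk, mul_inv_cancel]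
  have h1 : Perm.sign (k * h⁻¹).1.1 = 1 := by
    have := mem_KK.1 (k * h⁻¹).2
    rwa [h2, map_one, mul_one] at this
  have hmem : k * h⁻¹ ∈ H := by
    rcases perm_three_even _ h1 with e | e | e
    · rw [show k * h⁻¹ = 1 from Subtype.ext (Prod.ext e h2)]; exact one_mem _
    · rw [show k * h⁻¹ = zK from Subtype.ext (Prod.ext e h2)]; exact hz
    · rw [show k * h⁻¹ = zK⁻¹ from Subtype.ext (Prod.ext e (h2.trans inv_one.symm))]
      exact inv_mem hz
  simpa using mul_mem hmem hh

/-- Carmichael's generators in degree eight. -/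
def gens8 (i : Fin 6) : alternatingGroup (Fin 8) :=
  ⟨carmichaelGen 6 i, carmichaelGen_mem 6 i⟩

theorem gens8_facts : gens8 0 = z8 ∧ z8 * (gens8 2 * gens8 3) = y8 ∧
    gens8 2 * gens8 3 = ⟨swap 3 4 * swap 4 5, Perm.mem_alternatingGroup.2 (by decide)⟩ := by
  decide +kernel

theorem sK_facts : sK * sK * (eK * g12) * (sK * sK)⁻¹ = dK ∧ sK * zK = zK * sK := by
  decide +kernel

/-- An element of order two centralizing `y8` and moving the support of `z8`. -/
def x8 : alternatingGroup (Fin 8) :=
  ⟨swap 0 3 * swap 1 4 * swap 2 5 * swap 6 7, Perm.mem_alternatingGroup.2 (by decide)⟩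

/-- Eighteen elements centralizing `y8`. -/
def cy8 (p : Fin 3 × Fin 3 × Fin 2) : alternatingGroup (Fin 8) :=
  z8 ^ p.1.1 * y8 ^ p.2.1.1 * x8 ^ p.2.2.1

theorem cy8_comm : ∀ p, cy8 p * y8 = y8 * cy8 p := by decide +kernel

theorem cy8_inj : Function.Injective cy8 := by decide +kernel

variable {G : Type u} [Group G] [Finite G]

/-- The homomorphism. -/
theorem Setup.exists_emb (S : Setup G) (hbig : ¬ centralizer (S.V : Set G) ≤ S.ψ.range) :
    Nonempty (Emb G) := by
  classical
  obtain ⟨v, hv1, hvv, hva, hvb, hvd, hvr, hzv, hve⟩ := S.exists_involution hbig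
  have hvd' : Commute v (S.ψ dK) := hvd
  have hva' : Commute v (S.ψ aK) := hva
  have hv34 : Commute v (S.ψ g34) := by
    rw [g34_eq, map_mul, map_mul, map_inv]
    exact (hvd'.mul_right hvr).mul_right hvd'.inv_right
  have hv12 : Commute v (S.ψ g12) := by
    rw [g12_eq, map_mul, map_mul, map_inv]
    exact (hva'.mul_right hv34).mul_right hva'.inv_right
  have hv23 : Commute v (S.ψ (gensK 4)) := by rw [gensK_four]; exact hvr
  set x : Fin 6 → G := fun i => if i = 1 then v else S.ψ (gensK i) with hx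
  have hK : ∀ i, i ≠ 1 → x i = S.ψ (gensK i) := fun i h => by simp [hx, h]
  have hxv : x 1 = v := by simp [hx]
  have hrel : ∀ r ∈ carmichaelRelators 6, FreeGroup.lift x r = 1 := by
    have key := gensK_rels
    rintro r (((⟨i, hi, rfl⟩ | ⟨i, hi, rfl⟩) | ⟨i, j, hij, rfl⟩) | ⟨i, j, hij, rfl⟩) <;>
      simp only [map_pow, map_mul, FreeGroup.lift_apply_of]
    · have h1 : i ≠ 1 := fun h => by simp [h] at hi
      rw [hK i h1, ← map_pow, (key i i h1 h1).1 hi, map_one]
    · by_cases h1 : i = 1
      · rw [h1, hxv, sq, hvv]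
      · rw [hK i h1, ← map_pow, (key i i h1 h1).2.1 hi, map_one]
    · by_cases h1 : i = 1
      · subst h1
        have hj : j = 2 := Fin.ext hij
        rw [hxv, hj, hK 2 (by decide)]
        exact hve
      · by_cases h2 : j = 1
        · subst h2
          have hi : i = 0 := Fin.ext (show i.val = 0 by simpa using hij.symm)
          rw [hxv, hi, hK 0 (by decide)]
          exact hzv
        · rw [hK i h1, hK j h2, ← map_mul, ← map_pow, (key i j h1 h2).2.2.1 hij, map_one]
    · have h2 : j ≠ 1 := fun h => by simp [h] at hij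
      by_cases h1 : i = 1
      · subst h1
        have hc : Commute v (x j) := by
          rw [hK j h2]
          obtain ⟨j, hj⟩ := j
          simp only [Fin.val_one] at hij
          interval_cases j
          exacts [hv12, hv23, hv34]
        have hxj : (gensK j) ^ 2 = 1 := (key j j h2 h2).2.1 (by omega)
        rw [hxv, hc.mul_pow, sq v, hvv, one_mul, hK j h2, ← map_pow, hxj, map_one]
      · rw [hK i h1, hK j h2, ← map_mul, ← map_pow, (key i j h1 h2).2.2.2 hij, map_one]
  set ψ' : PresentedGroup (carmichaelRelators 6) →* G := PresentedGroup.toGroup hrel with hψ'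
  set φ : PresentedGroup (carmichaelRelators 6) →* alternatingGroup (Fin 8) :=
    PresentedGroup.toGroup (f := gens8) (fun r hr => by
      refine Subtype.ext ?_
      have e : (alternatingGroup (Fin 8)).subtype.comp (FreeGroup.lift gens8) =
          FreeGroup.lift (fun i => carmichaelGen 6 i) := FreeGroup.ext_hom _ _ fun i => by
        simp [gens8]
      rw [show ((FreeGroup.lift gens8 r : alternatingGroup (Fin 8)) : Perm (Fin 8)) =
        ((alternatingGroup (Fin 8)).subtype.comp (FreeGroup.lift gens8)) r from rfl, e,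
        lift_carmichaelGen_eq_one 6 r hr]
      rfl) with hφ
  have hφs : Function.Surjective φ := by
    rintro ⟨g, hg⟩
    have hle : closure (Set.range (carmichaelGen 6)) ≤
        φ.range.map (alternatingGroup (Fin 8)).subtype := by
      rw [closure_le]
      rintro _ ⟨i, rfl⟩
      exact ⟨gens8 i, ⟨PresentedGroup.of i, PresentedGroup.toGroup.of _⟩, rfl⟩
    obtain ⟨w, ⟨p, rfl⟩, hp⟩ := hle (alternatingGroup_le_closure 6 (by norm_num) hg)
    exact ⟨p, Subtype.ext hp⟩
  obtain ⟨e0⟩ := presentation_alternating 6 (by norm_num)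
  haveI : Finite (PresentedGroup (carmichaelRelators 6)) := Finite.of_equiv _ e0.symm.toEquiv
  have hbij : Function.Bijective φ :=
    (Nat.bijective_iff_surjective_and_card φ).2 ⟨hφs, Nat.card_congr e0.toEquiv⟩
  set ι : alternatingGroup (Fin 8) →* G :=
    ψ'.comp (MulEquiv.ofBijective φ hbij).symm.toMonoidHom with hι
  have hgen : ∀ i, ι (gens8 i) = x i := fun i => by
    have e : (MulEquiv.ofBijective φ hbij).symm (gens8 i) = PresentedGroup.of i := by
      rw [MulEquiv.symm_apply_eq]
      show gens8 i = φ (PresentedGroup.of i)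
      rw [hφ, PresentedGroup.toGroup.of]
    show ψ' ((MulEquiv.ofBijective φ hbij).symm (gens8 i)) = x i
    rw [e]
    exact PresentedGroup.toGroup.of _
  have hιz : ι z8 = S.ψ zK := by rw [← gens8_facts.1, hgen, hK 0 (by decide)]; rfl
  have hinj : Function.Injective ι := by
    haveI : IsSimpleGroup (alternatingGroup (Fin 8)) := alternatingGroup.isSimpleGroup (by simp)
    rw [← MonoidHom.ker_eq_bot_iff]
    refine ((inferInstance : ι.ker.Normal).eq_bot_or_eq_top).resolve_right fun e => ?_
    have h : ι z8 = 1 := MonoidHom.mem_ker.1 (e ▸ Subgroup.mem_top _)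
    rw [hιz] at h
    exact basic_facts.2.2.2.2.1 (S.inj (h.trans (map_one S.ψ).symm))
  have hrange : S.ψ.range ≤ ι.range := by
    rw [MonoidHom.range_eq_map, ← closure_gensK, MonoidHom.map_closure, closure_le]
    rintro _ ⟨_, ⟨i, hi, rfl⟩, rfl⟩
    exact ⟨gens8 i, by rw [hgen, hK i hi]⟩
  refine ⟨⟨ι, hinj, ?_, ?_, S.not_dvd⟩⟩
  · rw [hιz]
    exact S.cent_z_le.trans hrange
  · -- the centralizer of `y` has order eighteen
    have hy : ι y8 = S.ψ zK * S.ψ (eK * g12) := by
      rw [← gens8_facts.2.1, map_mul, map_mul, hιz, hgen, hgen, hK 2 (by decide),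
        hK 3 (by decide), map_mul]
      rfl
    have hconj : S.ψ (sK * sK) * ι y8 * (S.ψ (sK * sK))⁻¹ = S.ψ zK * S.ψ dK := by
      have h1 : sK * sK * zK * (sK * sK)⁻¹ = zK := by
        have hc : Commute (sK * sK) zK :=
          (show Commute sK zK from sK_facts.2).mul_left sK_facts.2
        rw [hc.eq]; group
      rw [hy]
      calc S.ψ (sK * sK) * (S.ψ zK * S.ψ (eK * g12)) * (S.ψ (sK * sK))⁻¹
          = S.ψ (sK * sK) * S.ψ zK * (S.ψ (sK * sK))⁻¹ *
              (S.ψ (sK * sK) * S.ψ (eK * g12) * (S.ψ (sK * sK))⁻¹) := by group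
        _ = S.ψ zK * S.ψ dK := by rw [S.map_conj h1, S.map_conj sK_facts.1]
    have hcard : Nat.card (centralizer ({ι y8} : Set G)) = 18 := by
      rw [← Setup.card_cent_conj (S.ψ (sK * sK)), hconj]
      exact S.card_y
    have hle : closure (Set.range fun p => ι (cy8 p)) ≤ centralizer ({ι y8} : Set G) := by
      rw [closure_le]
      rintro _ ⟨p, rfl⟩
      exact mem_centralizer_singleton_iff.2 (by rw [← map_mul, cy8_comm, map_mul])
    have hge : 18 ≤ Nat.card (closure (Set.range fun p => ι (cy8 p))) := by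
      refine le_trans (by simp) (Nat.card_le_card_of_injective
        (fun p => (⟨ι (cy8 p), subset_closure ⟨p, rfl⟩⟩ : closure (Set.range fun p => ι (cy8 p))))
        (fun p q h => cy8_inj (hinj (congrArg Subtype.val h))))
    rw [← eq_of_le_of_card_ge hle (hcard ▸ hge), closure_le]
    rintro _ ⟨p, rfl⟩
    exact ⟨_, rfl⟩

end CfsgLib.AEightThree
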