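import Cfsg.Agent.Lib.AEightThree.Decides
import Cfsg.Agent.Lib.Coprime.Action2

/-!
The centralizer of the four-group: its normal 3-complement.
-/

set_option autoImplicit false
set_option linter.style.haveILetI false

namespace CfsgLib.AEightThree

open Subgroup

universe u

variable {G : Type u} [Group G] (S : Setup G)

namespace Setup

theorem map_comm {a b : KK} (h : a * b = b * a) : S.ψ a * S.ψ b = S.ψ b * S.ψ a := by
  rw [← map_mul, h, map_mul]

theorem map_conj {a b c : KK} (h : a * b * a⁻¹ = c) : S.ψ a * S.ψ b * (S.ψ a)⁻¹ = S.ψ c := by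
  rw [← h, map_mul, map_mul, map_inv]

theorem comm_of_map {a b : KK} (h : S.ψ a * S.ψ b = S.ψ b * S.ψ a) : a * b = b * a :=
  S.inj (by rw [map_mul, h, map_mul])

theorem cent_z_le : centralizer ({S.ψ zK} : Set G) ≤ S.ψ.range := by
  rw [S.range_eq]
  intro x hx
  have h : x * S.ψ zK = S.ψ zK * x := mem_centralizer_singleton_iff.1 hx
  have hc : x ∈ centralizer (zpowers (S.ψ zK) : Set G) := by
    rw [mem_centralizer_iff]
    intro w hw
    obtain ⟨n, rfl⟩ := mem_zpowers_iff.1 hw
    exact (Commute.zpow_right (h : Commute x (S.ψ zK)) n).eq.symm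
  exact centralizer_le_normalizer _ hc

/-- The centralizer of `d` pulled back to the centralizer of `z`. -/
theorem pull_d {x : G} (hx : x * S.ψ dK = S.ψ dK * x) :
    ∃ k : KK, S.ψ k = S.g⁻¹ * x * S.g ∧ k * zK = zK * k := by
  have hd : S.g⁻¹ * S.ψ dK * S.g = S.ψ zK := by rw [← S.g_z]; group
  have h : S.g⁻¹ * x * S.g * S.ψ zK = S.ψ zK * (S.g⁻¹ * x * S.g) := by
    rw [← hd]
    calc S.g⁻¹ * x * S.g * (S.g⁻¹ * S.ψ dK * S.g) = S.g⁻¹ * (x * S.ψ dK) * S.g := by group
      _ = S.g⁻¹ * (S.ψ dK * x) * S.g := by rw [hx]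
      _ = S.g⁻¹ * S.ψ dK * S.g * (S.g⁻¹ * x * S.g) := by group
  obtain ⟨k, hk⟩ := S.cent_z_le (mem_centralizer_singleton_iff.2 h)
  exact ⟨k, hk, S.comm_of_map (by rw [hk]; exact h)⟩

theorem mem_centV_iff {x : G} :
    x ∈ centralizer (S.V : Set G) ↔
      x * S.ψ aK = S.ψ aK * x ∧ x * S.ψ bK = S.ψ bK * x := by
  rw [Setup.V, centralizer_closure, mem_centralizer_iff]
  simp only [Set.mem_insert_iff, Set.mem_singleton_iff, forall_eq_or_imp, forall_eq]
  exact ⟨fun h => ⟨h.1.symm, h.2.symm⟩, fun h => ⟨h.1.symm, h.2.symm⟩⟩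

theorem z_mem_centV : S.ψ zK ∈ centralizer (S.V : Set G) :=
  S.mem_centV_iff.2 ⟨S.map_comm basic_facts.1, S.map_comm basic_facts.2.1⟩

/-- Conjugation by an element of the image fixing the four-group. -/
theorem conj_mem_centV {n : KK} (ha : n⁻¹ * aK * n ∈ closure ({aK, bK} : Set KK))
    (hb : n⁻¹ * bK * n ∈ closure ({aK, bK} : Set KK)) {x : G}
    (hx : x ∈ centralizer (S.V : Set G)) : S.ψ n * x * (S.ψ n)⁻¹ ∈ centralizer (S.V : Set G) := by
  have hmap : (closure ({aK, bK} : Set KK)).map S.ψ = S.V := by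
    rw [MonoidHom.map_closure, Set.image_pair]; rfl
  have key : ∀ c : KK, n⁻¹ * c * n ∈ closure ({aK, bK} : Set KK) →
      S.ψ n * x * (S.ψ n)⁻¹ * S.ψ c = S.ψ c * (S.ψ n * x * (S.ψ n)⁻¹) := by
    intro c hc
    have h1 : S.ψ (n⁻¹ * c * n) ∈ S.V := hmap ▸ mem_map_of_mem _ hc
    have h2 := (mem_centralizer_iff.1 hx _ h1)
    rw [map_mul, map_mul, map_inv] at h2
    calc S.ψ n * x * (S.ψ n)⁻¹ * S.ψ c
        = S.ψ n * (x * ((S.ψ n)⁻¹ * S.ψ c * S.ψ n)) * (S.ψ n)⁻¹ := by group
      _ = S.ψ n * ((S.ψ n)⁻¹ * S.ψ c * S.ψ n * x) * (S.ψ n)⁻¹ := by rw [h2]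
      _ = S.ψ c * (S.ψ n * x * (S.ψ n)⁻¹) := by group
  exact S.mem_centV_iff.2 ⟨key aK ha, key bK hb⟩

variable [Finite G]

/-- The normal 3-complement of the centralizer of the four-group. -/
theorem exists_complement :
    ∃ W : Subgroup G, W ≤ centralizer (S.V : Set G) ∧ ¬ 3 ∣ Nat.card W ∧
      centralizer (S.V : Set G) = W ⊔ zpowers (S.ψ zK) ∧
      ∀ x ∈ centralizer (S.V : Set G), x ^ Nat.card W = 1 → x ∈ W := by
  classical
  haveI : Fact (Nat.Prime 3) := ⟨Nat.prime_three⟩
  set C := centralizer (S.V : Set G) with hC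
  set z : C := ⟨S.ψ zK, S.z_mem_centV⟩ with hz
  have hzo : orderOf z = 3 := orderOf_eq_prime
    (Subtype.ext (by simpa [hz, ← map_pow] using congrArg S.ψ basic_facts.2.2.2.1))
    (fun h => basic_facts.2.2.2.2.1 (S.inj (by simpa [hz] using congrArg Subtype.val h)))
  have hpg : IsPGroup 3 (zpowers z) := IsPGroup.of_card (n := 1) (by rw [Nat.card_zpowers, hzo, pow_one])
  obtain ⟨P, hP⟩ := hpg.exists_le_sylow
  have hzP : z ∈ (P : Subgroup C) := hP (mem_zpowers z)
  -- elements of `P` of order three commuting with `z`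
  have hcomm : ∀ x : C, x * z = z * x → x ^ 3 = 1 → x ∈ zpowers z := by
    intro x hx h3
    have hx' : (x : G) * S.ψ zK = S.ψ zK * x := congrArg Subtype.val hx
    obtain ⟨k, hk⟩ := S.cent_z_le (mem_centralizer_singleton_iff.2 hx')
    have hV := S.mem_centV_iff.1 x.2
    rw [← hk] at hV hx'
    have h3' : k ^ 3 = 1 := S.inj (by rw [map_pow, hk, map_one]; exact congrArg Subtype.val h3)
    rcases cent_V_no_nine k (S.comm_of_map hV.1) (S.comm_of_map hV.2) (S.comm_of_map hx') h3' with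
      h | h | h
    · exact (show x = 1 from Subtype.ext (by rw [← hk, h, map_one]; rfl)) ▸ one_mem _
    · exact (show x = z from Subtype.ext (by rw [← hk, h])) ▸ mem_zpowers z
    · exact (show x = z⁻¹ from Subtype.ext (by rw [← hk, h, map_inv]; rfl)) ▸
        inv_mem (mem_zpowers z)
  have hPz : (P : Subgroup C) = zpowers z := by
    refine le_antisymm (fun x hx => ?_) hP
    obtain ⟨n, hn⟩ := IsPGroup.iff_card.1 P.2
    have hn2 : n ≤ 2 := by
      by_contra hlt
      refine S.not_dvd ((dvd_trans ?_ (Subgroup.card_subgroup_dvd_card (P : Subgroup C))).trans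
        (Subgroup.card_subgroup_dvd_card C))
      rw [hn, show 27 = 3 ^ 3 by norm_num]
      exact pow_dvd_pow 3 (by omega)
    have habel : ∀ a b : (P : Subgroup C), a * b = b * a := by
      interval_cases n
      · intro a b
        haveI : Subsingleton (P : Subgroup C) := (Nat.card_eq_one_iff_unique.1 (by simpa using hn)).1
        exact Subsingleton.elim _ _
      · haveI : IsCyclic (P : Subgroup C) := isCyclic_of_prime_card (p := 3) (by simpa using hn)
        exact fun a b => mul_comm' a b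
      · haveI := IsPGroup.isMulCommutative_of_card_eq_prime_sq (p := 3) hn
        exact fun a b => mul_comm' a b
    have hxz : x * z = z * x := congrArg Subtype.val (habel ⟨x, hx⟩ ⟨z, hzP⟩)
    have hx6 : x ^ 3 = 1 := by
      have hx' : (x : G) * S.ψ zK = S.ψ zK * x := congrArg Subtype.val hxz
      obtain ⟨k, hk⟩ := S.cent_z_le (mem_centralizer_singleton_iff.2 hx')
      have hV := S.mem_centV_iff.1 x.2
      rw [← hk] at hV hx'
      have h6 : x ^ 6 = 1 := Subtype.ext (by
        push_cast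
        rw [← hk, ← map_pow, cent_V_pow k (S.comm_of_map hV.1) (S.comm_of_map hV.2)
          (S.comm_of_map hx'), map_one])
      obtain ⟨m, hm⟩ := (Nat.dvd_prime_pow Nat.prime_three).1
        ((Subgroup.orderOf_dvd_natCard _ hx).trans (dvd_of_eq hn))
      have h3 : orderOf x ∣ 3 := by
        have h6' := orderOf_dvd_of_pow_eq_one h6
        rw [hm.2] at h6' ⊢
        rcases m with _ | _ | m
        · simp
        · simp
        · have : 3 ^ 2 ∣ 6 := (pow_dvd_pow 3 (by omega)).trans h6'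
          norm_num at this
      exact orderOf_dvd_iff_pow_eq_one.1 h3
    exact hcomm x hxz hx6
  have hNC : normalizer ((P : Subgroup C) : Set C) ≤ centralizer ((P : Subgroup C) : Set C) := by
    intro x hx
    rw [hPz] at hx ⊢
    have h1 := (mem_normalizer_iff.1 hx z).1 (mem_zpowers z)
    have hx1 : (x : G) * S.ψ zK * (x : G)⁻¹ ∈ zpowers (S.ψ zK) := by
      obtain ⟨j, hj⟩ := mem_zpowers_iff.1 h1
      exact mem_zpowers_iff.2 ⟨j, by simpa using congrArg Subtype.val hj⟩
    have hxN : (x : G) ∈ normalizer (zpowers (S.ψ zK) : Set G) := by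
      refine mem_normalizer_iff_map_conj_eq.2 (eq_of_le_of_card_ge ?_ ?_)
      · rw [MonoidHom.map_zpowers, zpowers_le]
        exact hx1
      · exact le_of_eq (card_map_of_injective (MulAut.conj (x : G)).injective).symm
    rw [← S.range_eq] at hxN
    obtain ⟨k, hk⟩ := hxN
    have hV := S.mem_centV_iff.1 x.2
    rw [← hk] at hV hx1
    have hkz : k * zK * k⁻¹ = zK ∨ k * zK * k⁻¹ = zK⁻¹ := by
      have hmem : k * zK * k⁻¹ ∈ zpowers zK := by
        rw [← map_inv, ← map_mul, ← map_mul, ← MonoidHom.map_zpowers] at hx1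
        obtain ⟨w, hw, he⟩ := hx1
        exact S.inj he ▸ hw
      obtain ⟨j, hj⟩ := mem_zpowers_iff.1 hmem
      rw [← zpow_mod_orderOf, orderOf_eq_prime basic_facts.2.2.2.1 basic_facts.2.2.2.2.1] at hj
      have h0 : (0 : ℤ) ≤ j % 3 := Int.emod_nonneg _ (by norm_num)
      have h2 : j % 3 < 3 := Int.emod_lt_of_pos _ (by norm_num)
      have hne : k * zK * k⁻¹ ≠ 1 := fun h => basic_facts.2.2.2.2.1 (conj_eq_one_iff.1 h)
      rcases (by omega : j % 3 = 0 ∨ j % 3 = 1 ∨ j % 3 = 2) with h | h | h <;>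
        simp only [Nat.cast_ofNat, h] at hj
      · exact absurd (hj.symm.trans (zpow_zero zK)) hne
      · exact Or.inl (hj.symm.trans (zpow_one zK))
      · refine Or.inr (hj.symm.trans (eq_inv_of_mul_eq_one_left ?_))
        rw [show (2 : ℤ) = ((2 : ℕ) : ℤ) from rfl, zpow_natCast, ← pow_succ, basic_facts.2.2.2.1]
    have hc := cent_V_normalizer k (S.comm_of_map hV.1) (S.comm_of_map hV.2) hkz
    have hxz : Commute x z := Subtype.ext (by
      show (x : G) * S.ψ zK = S.ψ zK * x
      rw [← hk]; exact S.map_comm hc)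
    rw [mem_centralizer_iff]
    intro w hw
    obtain ⟨j, rfl⟩ := mem_zpowers_iff.1 hw
    exact (hxz.zpow_right j).eq.symm
  set K0 := (MonoidHom.transferSylow P hNC).ker with hK0
  have hcp := MonoidHom.ker_transferSylow_isComplement' P hNC
  refine ⟨K0.map C.subtype, map_subtype_le _, ?_, ?_, ?_⟩
  · rw [card_map_of_injective C.subtype_injective]
    exact MonoidHom.not_dvd_card_ker_transferSylow P hNC
  · have h := congrArg (Subgroup.map C.subtype) hcp.sup_eq_top
    have hm : (P : Subgroup C).map C.subtype = zpowers (S.ψ zK) := by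
      rw [hPz, MonoidHom.map_zpowers]; rfl
    rw [Subgroup.map_sup, ← MonoidHom.range_eq_map, C.range_subtype, hm] at h
    exact h.symm
  · intro x hx hpow
    rw [card_map_of_injective C.subtype_injective] at hpow
    refine ⟨⟨x, hx⟩, ?_, rfl⟩
    have hi : K0.index = 3 := by
      rw [hcp.symm.index_eq_card, hPz, Nat.card_zpowers, hzo]
    have h1 : ((⟨x, hx⟩ : C) : C ⧸ K0) ^ Nat.card K0 = 1 := by
      rw [← QuotientGroup.mk_pow, show (⟨x, hx⟩ : C) ^ Nat.card K0 = 1 from Subtype.ext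
        (by simpa using hpow), QuotientGroup.mk_one]
    have h2 : ((⟨x, hx⟩ : C) : C ⧸ K0) ^ 3 = 1 := by
      have h := pow_card_eq_one' (x := ((⟨x, hx⟩ : C) : C ⧸ K0))
      rwa [← Subgroup.index_eq_card, hi] at h
    have hco : Nat.Coprime (Nat.card K0) 3 :=
      ((Nat.Prime.coprime_iff_not_dvd Nat.prime_three).2
        (MonoidHom.not_dvd_card_ker_transferSylow P hNC)).symm
    exact (QuotientGroup.eq_one_iff _).1 ((pow_eq_one_iff_of_coprime hco).1 ⟨h1, h2⟩)

end Setup

end CfsgLib.AEightThree
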