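import Cfsg.Agent.Lib.AEightThree.Basic

/-!
Finite facts about `(Sym 3 × Sym 5)⁺`.
-/

set_option autoImplicit false
set_option maxRecDepth 100000
set_option maxHeartbeats 2000000

namespace CfsgLib.AEightThree

open Equiv

instance : DecidableEq KK := fun a b => decidable_of_iff (a.1 = b.1) Subtype.ext_iff.symm

instance : Fintype KK :=
  Fintype.subtype (Finset.univ.filter fun p => Perm.sign p.1 * Perm.sign p.2 = 1)
    fun p => by simp [mem_KK]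

/-- `(0 1)(2 3)` in the second factor -/
def fK : KK := ⟨(1, swap 0 1 * swap 2 3), mem_KK.2 (by decide)⟩

/-- `(0 1)(3 4)` in the second factor -/
def tK : KK := ⟨(1, swap 0 1 * swap 3 4), mem_KK.2 (by decide)⟩

/-- Odd permutations of `Sym 5` paired with a transposition. -/
def g12 : KK := ⟨(swap 0 1, swap 1 2), mem_KK.2 (by decide)⟩

/-- The pair with `(3 4)` -/
def g34 : KK := ⟨(swap 0 1, swap 3 4), mem_KK.2 (by decide)⟩

theorem g34_eq : g34 = dK * rK * dK⁻¹ := by decide +kernel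

theorem g12_eq : g12 = aK * g34 * aK⁻¹ := by decide +kernel

/-- The elements of the two four-groups normalised by `dK`. -/
def IsFour (k : KK) : Prop :=
  k.1.1 = 1 ∧ k.1.2 ^ 2 = 1 ∧ (k.1.2 0 = 0 ∨ k.1.2 1 = 1) ∧
    k * (dK * k * dK⁻¹) = dK * k * dK⁻¹ * k

instance (k : KK) : Decidable (IsFour k) := by unfold IsFour; infer_instance

theorem isFour_of_orders : ∀ k : KK, k * zK = zK * k → k ^ 20 = 1 → k ≠ 1 →
    (k * (dK * k * dK⁻¹) * k * (dK * k * dK⁻¹)⁻¹) ^ 20 = 1 →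
    (k * (dK * k * dK⁻¹) * k * (dK * (dK * k * dK⁻¹) * dK⁻¹)) ^ 20 = 1 → IsFour k := by
  decide +kernel

theorem exists_fixed : ∀ k : KK, IsFour k → k ≠ 1 →
    k * rK = rK * k ∨ dK * k * dK⁻¹ * rK = rK * (dK * k * dK⁻¹) ∨
      dK * (dK * k * dK⁻¹) * dK⁻¹ * rK = rK * (dK * (dK * k * dK⁻¹) * dK⁻¹) := by
  decide +kernel

theorem isFour_conj : ∀ k : KK, IsFour k → IsFour (dK * k * dK⁻¹) := by decide +kernel

theorem fixed_rels : ∀ k : KK, IsFour k → k ≠ 1 → k * rK = rK * k →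
    k * k = 1 ∧ (dK * k) ^ 3 = 1 ∧ (k * fK) ^ 3 = 1 := by decide +kernel

theorem eq_fK : ∀ k : KK, k * zK = zK * k → k * rK = rK * k → k * k = 1 →
    k * dK * k⁻¹ = dK⁻¹ → k = fK := by decide +kernel

theorem cent_V_normalizer : ∀ k : KK, k * aK = aK * k → k * bK = bK * k →
    (k * zK * k⁻¹ = zK ∨ k * zK * k⁻¹ = zK⁻¹) → k * zK = zK * k := by decide +kernel

theorem cent_V_pow : ∀ k : KK, k * aK = aK * k → k * bK = bK * k → k * zK = zK * k →
    k ^ 6 = 1 := by decide +kernel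

theorem cent_V_no_nine : ∀ k : KK, k * aK = aK * k → k * bK = bK * k → k * zK = zK * k →
    k ^ 3 = 1 → k = 1 ∨ k = zK ∨ k = zK⁻¹ := by decide +kernel

theorem cent_D_V : ∀ k : KK, k * aK = aK * k → k * bK = bK * k → k * zK = zK * k →
    k * dK = dK * k → k * k = 1 → k = 1 := by decide +kernel

theorem basic_facts : zK * aK = aK * zK ∧ zK * bK = bK * zK ∧ zK * dK = dK * zK ∧
    zK ^ 3 = 1 ∧ zK ≠ 1 ∧ dK ^ 3 = 1 ∧ dK ≠ 1 ∧ dK ≠ zK ∧ dK ≠ zK⁻¹ ∧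
    dK * aK * dK⁻¹ = aK * bK ∧ dK * bK * dK⁻¹ = aK ∧
    rK * aK * rK⁻¹ = aK ∧ rK * bK * rK⁻¹ = aK * bK ∧
    tK * zK * tK⁻¹ = zK ∧ tK * dK * tK⁻¹ = dK⁻¹ ∧
    eK * zK * eK⁻¹ = zK⁻¹ ∧ eK * dK = dK * eK ∧ eK * rK = rK * eK ∧ eK * eK = 1 ∧
    rK * zK * rK⁻¹ = zK⁻¹ := by decide +kernel

theorem y8_perm : (y8 : Perm (Fin 8)) = swap 0 1 * swap 1 2 * (swap 3 4 * swap 4 5) := rfl

/-- The five-cycle moving `dK` to the first three points. -/
def sK : KK := ⟨(1, swap 0 1 * swap 1 2 * swap 2 3 * swap 3 4), mem_KK.2 (by decide)⟩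

theorem sK_conj : sK * sK * (eK * g12) * (sK * sK)⁻¹ = dK := by decide +kernel

theorem sK_zK : sK * zK = zK * sK := by decide +kernel

end CfsgLib.AEightThree
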