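import Cfsg.Agent.Lib.AEightThree.Decides

/-!
More finite facts about `(Sym 3 × Sym 5)⁺`.
-/

set_option autoImplicit false
set_option maxRecDepth 100000

namespace CfsgLib.AEightThree

theorem torus_cases : ∀ k : KK, k * zK = zK * k → k * dK = dK * k →
    k = 1 ∨ k = zK ∨ k = zK⁻¹ ∨ k = dK ∨ k = dK⁻¹ ∨ k = zK * dK ∨ k = (zK * dK)⁻¹ ∨
      k = zK * dK⁻¹ ∨ k = (zK * dK⁻¹)⁻¹ := by decide +kernel

theorem norm_facts :
    (zK⁻¹ * aK * zK = aK ∧ zK⁻¹ * bK * zK = bK) ∧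
    (dK⁻¹ * aK * dK = bK ∧ dK⁻¹ * bK * dK = aK * bK) ∧
    (rK⁻¹ * aK * rK = aK ∧ rK⁻¹ * bK * rK = aK * bK) ∧
    tK * (zK * dK⁻¹) * tK⁻¹ = zK * dK ∧ zK ^ 3 = 1 ∧ dK ^ 3 = 1 := by decide +kernel

theorem eK_facts : eK * dK = dK * eK ∧ eK * rK = rK * eK ∧ eK * eK = 1 ∧
    eK * zK * eK⁻¹ = zK⁻¹ := by decide +kernel

theorem gen_diag : ∀ k : KK, k * zK = zK * k → k * (zK * dK) = zK * dK * k → k * dK = dK * k := by
  decide +kernel

theorem gen_diag' : ∀ k : KK, k * zK = zK * k → k * (zK * dK⁻¹) = zK * dK⁻¹ * k →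
    k * dK = dK * k := by decide +kernel

theorem torus_facts : zK * (zK * dK) = zK * dK * zK ∧ zK * (zK * dK⁻¹) = zK * dK⁻¹ * zK ∧
    zK * dK = dK * zK := by decide +kernel

theorem torus_cube : ∀ k : KK, k * zK = zK * k → k * dK = dK * k → k ^ 3 = 1 := by decide +kernel

theorem four_inj : Function.Injective ![1, zK, zK⁻¹, dK] := by decide +kernel

theorem four_comm : ∀ i : Fin 4, zK * ![1, zK, zK⁻¹, dK] i = ![1, zK, zK⁻¹, dK] i * zK ∧
    dK * ![1, zK, zK⁻¹, dK] i = ![1, zK, zK⁻¹, dK] i * dK := by decide +kernel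

theorem pow_thirty' : ∀ k : KK, k * zK = zK * k → ((k ^ 2) ^ 3) ^ 5 = 1 := by decide +kernel

theorem pow_thirty (k : KK) (h : k * zK = zK * k) : k ^ 30 = 1 := by
  have := pow_thirty' k h
  rwa [← pow_mul, ← pow_mul] at this

end CfsgLib.AEightThree
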