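import Cfsg.Agent.Lib.AEightThree.Tables
import Cfsg.Agent.Lib.Coprime.Action2

/-!
Fusion of involutions in a group with an alternating subgroup of degree eight containing the
centralizers of its elements of order three: the two classes of involutions stay apart, the
2-part of the order is 64, and the centralizer of the group of order eight stays inside.
-/

set_option autoImplicit false
set_option linter.style.haveILetI false

namespace CfsgLib.AEightThree

open Equiv Subgroup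

universe u

/-! ### inside the alternating group -/

theorem app_comm {k l : A8} (h : k * l = l * k) (i : Fin 8) :
    (k : Perm (Fin 8)) ((l : Perm (Fin 8)) i) = (l : Perm (Fin 8)) ((k : Perm (Fin 8)) i) :=
  DFunLike.congr_fun (congrArg Subtype.val h) i

theorem sign_ne_neg_one (k : A8) : Perm.sign (k : Perm (Fin 8)) ≠ -1 := by
  rw [Perm.mem_alternatingGroup.1 k.2]
  decide

theorem y_five {k : A8} (hy : k * y8 = y8 * k) (h5 : k ^ 5 = 1) : k = 1 := by
  let σ : Perm (Fin 8) := k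
  let y : Perm (Fin 8) := y8
  have hc : ∀ i, σ (y i) = y (σ i) := app_comm hy
  have hf : ∀ i, (![σ 0, y (σ 0), y (y (σ 0)), σ 3, y (σ 3), y (y (σ 3)), σ 6, σ 7] :
      Fin 8 → Fin 8) i = σ i := by
    intro i
    fin_cases i
    · rfl
    · exact (hc 0).symm
    · exact ((hc (y 0)).trans (congrArg y (hc 0))).symm
    · rfl
    · exact (hc 3).symm
    · exact ((hc (y 3)).trans (congrArg y (hc 3))).symm
    · rfl
    · rfl
  have h5' : ∀ i, σ (σ (σ (σ (σ i)))) = i := by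
    intro i
    have e : k * k * k * k * k = 1 := by
      rw [← h5]; simp only [pow_succ, pow_zero, one_mul]
    exact DFunLike.congr_fun (congrArg Subtype.val e) i
  dsimp only [y] at hf
  have := cand_y_five (σ 0) (σ 3) (σ 6) (σ 7) (hc 6).symm (hc 7).symm
    (fun i => by simp only [hf]; exact h5' i)
  exact Subtype.ext (Equiv.ext fun i => (hf i).symm.trans (this i))

theorem D_two {k : A8} (hz : k * z8 = z8 * k) (hc : k * c8 = c8 * k) (h2 : k * k = 1) :
    k = 1 := by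
  let σ : Perm (Fin 8) := k
  let z : Perm (Fin 8) := z8
  let c : Perm (Fin 8) := c8
  have hz' : ∀ i, σ (z i) = z (σ i) := app_comm hz
  have hc' : ∀ i, σ (c i) = c (σ i) := app_comm hc
  have hf : ∀ i, (![σ 0, z (σ 0), z (z (σ 0)), σ 3, σ 4, c (σ 4), c (c (σ 4)), σ 7] :
      Fin 8 → Fin 8) i = σ i := by
    intro i
    fin_cases i
    · rfl
    · exact (hz' 0).symm
    · exact ((hz' (z 0)).trans (congrArg z (hz' 0))).symm
    · rfl
    · rfl
    · exact (hc' 4).symm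
    · exact ((hc' (c 4)).trans (congrArg c (hc' 4))).symm
    · rfl
  have h2' : ∀ i, σ (σ i) = i := fun i => DFunLike.congr_fun (congrArg Subtype.val h2) i
  dsimp only [z, c] at hf
  rcases cand_D_two (σ 0) (hc' 0).symm
      (fun h => absurd (σ.injective ((hz' 0).trans h) : z 0 = 0) (by decide +kernel))
      (σ 4) (hz' 4).symm
      (fun h => absurd (σ.injective ((hc' 4).trans h) : c 4 = 4) (by decide +kernel))
      (σ 3) ⟨(hz' 3).symm, (hc' 3).symm⟩ (σ 7) ⟨(hz' 7).symm, (hc' 7).symm⟩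
      (fun i => by simp only [hf]; exact h2' i) with h | h
  · exact Subtype.ext (Equiv.ext fun i => (hf i).symm.trans (h i))
  · have e : (k : Perm (Fin 8)) = swap 3 7 := Equiv.ext fun i => (hf i).symm.trans (h i)
    refine absurd ?_ (sign_ne_neg_one k)
    rw [e, Perm.sign_swap (by decide)]

theorem V_inv {k : A8} (ht : k * t8 = t8 * k) (ha : k * a8 = a8 * k)
    (hc : k * c8 * k⁻¹ = c8⁻¹) : False := by
  let σ : Perm (Fin 8) := k
  let t : Perm (Fin 8) := t8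
  let a : Perm (Fin 8) := a8
  let c : Perm (Fin 8) := c8
  have ht' : ∀ i, σ (t i) = t (σ i) := app_comm ht
  have ha' : ∀ i, σ (a i) = a (σ i) := app_comm ha
  have h3 : c8 * c8 = c8⁻¹ := by decide +kernel
  have hc' : ∀ i, σ (c i) = c (c (σ i)) := fun i =>
    DFunLike.congr_fun (congrArg Subtype.val
      (show k * c8 = c8 * c8 * k by rw [h3, ← hc]; group)) i
  have hccc : ∀ x, c (c (c x)) = x := fun x =>
    DFunLike.congr_fun (congrArg Subtype.val (show c8 * c8 * c8 = 1 by decide +kernel)) x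
  have hf : ∀ i, (![σ 0, t (σ 0), a (σ 0), t (a (σ 0)), σ 4, c (c (σ 4)), c (σ 4), σ 7] :
      Fin 8 → Fin 8) i = σ i := by
    intro i
    fin_cases i
    · rfl
    · exact (ht' 0).symm
    · exact (ha' 0).symm
    · exact ((ht' (a 0)).trans (congrArg t (ha' 0))).symm
    · rfl
    · exact (hc' 4).symm
    · refine ((hc' (c 4)).trans ?_).symm
      rw [hc' 4, hccc]
      rfl
    · rfl
  dsimp only [t, a, c] at hf
  obtain ⟨v, -, τ, hτ, h⟩ := cand_V_inv (σ 0) (σ 4) (σ 7)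
    (fun i j hij => σ.injective (((hf i).symm.trans hij).trans (hf j)))
    (fun i => by simp only [hf]; exact ht' i) (fun i => by simp only [hf]; exact ha' i)
    (fun i => by simp only [hf]; exact hc' i)
  have e : (k : Perm (Fin 8)) = (v : Perm (Fin 8)) * τ :=
    Equiv.ext fun i => (hf i).symm.trans (h i)
  refine absurd ?_ (sign_ne_neg_one k)
  rw [e, map_mul, Perm.mem_alternatingGroup.1 v.2, one_mul]
  simp only [List.mem_cons, List.not_mem_nil, or_false] at hτ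
  rcases hτ with rfl | rfl | rfl <;> exact Perm.sign_swap (by decide)

theorem E_self {k : A8} (ht : k * t8 = t8 * k) (hv : k * v8 = v8 * k) (he : k * e8 = e8 * k) :
    k ∈ L8 := by
  let σ : Perm (Fin 8) := k
  let t : Perm (Fin 8) := t8
  let v : Perm (Fin 8) := v8
  let e : Perm (Fin 8) := e8
  have ht' : ∀ i, σ (t i) = t (σ i) := app_comm ht
  have hv' : ∀ i, σ (v i) = v (σ i) := app_comm hv
  have he' : ∀ i, σ (e i) = e (σ i) := app_comm he
  have hf : ∀ i, (![σ 0, t (σ 0), σ 2, t (σ 2), σ 4, v (σ 4), σ 6, v (σ 6)] :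
      Fin 8 → Fin 8) i = σ i := by
    intro i
    fin_cases i
    · rfl
    · exact (ht' 0).symm
    · rfl
    · exact (ht' 2).symm
    · rfl
    · exact (hv' 4).symm
    · rfl
    · exact (hv' 6).symm
  obtain ⟨x, hx, τ, hτ, h⟩ := cand_E (σ 0) ⟨(ht' 0).symm.trans (he' 0), (hv' 0).symm⟩
    (σ 2) ⟨(he' 2).symm, (hv' 2).symm⟩ (σ 4) ⟨(hv' 4).symm.trans (he' 4), (ht' 4).symm⟩
    (σ 6) ⟨(he' 6).symm, (ht' 6).symm⟩
  have hk : (k : Perm (Fin 8)) = (x : Perm (Fin 8)) * τ :=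
    Equiv.ext fun i => (hf i).symm.trans (h i)
  simp only [List.mem_cons, List.not_mem_nil, or_false] at hτ
  rcases hτ with rfl | rfl
  · rw [mul_one] at hk
    rw [Subtype.ext hk]
    exact hx
  · refine absurd ?_ (sign_ne_neg_one k)
    rw [hk, map_mul, Perm.mem_alternatingGroup.1 x.2, one_mul, Perm.sign_swap (by decide)]

theorem LD_T0 : ∀ k ∈ LD, k⁻¹ * t8 * k ∈ T0 ∧ k⁻¹ * a8 * k ∈ T0 := by
  have key : LD.all (fun k => decide (k⁻¹ * t8 * k ∈ T0) && decide (k⁻¹ * a8 * k ∈ T0)) = true := by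
    decide +kernel
  intro k hk
  simpa using List.all_eq_true.1 key k hk

/-- the subgroup on a list closed under multiplication -/
def listSubgroup (L : List A8) (h1 : (1 : A8) ∈ L) (hm : ∀ a ∈ L, ∀ b ∈ L, a * b ∈ L) :
    Subgroup A8 where
  carrier := {x | x ∈ L}
  one_mem' := h1
  mul_mem' ha hb := hm _ ha _ hb
  inv_mem' := by
    intro x hx
    have hp : ∀ n : ℕ, x ^ n ∈ L := by
      intro n
      induction n with
      | zero => simpa using h1
      | succ n ih => rw [pow_succ]; exact hm _ ih _ hx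
    have h0 : x ^ (orderOf x - 1) * x = 1 := by
      rw [← pow_succ, Nat.sub_add_cancel (orderOf_pos x), pow_orderOf_eq_one]
    show x⁻¹ ∈ L
    rw [inv_eq_of_mul_eq_one_left h0]
    exact hp _

theorem card_listSubgroup (L : List A8) (h1 : (1 : A8) ∈ L) (hm : ∀ a ∈ L, ∀ b ∈ L, a * b ∈ L)
    (hn : L.Nodup) : Nat.card (listSubgroup L h1 hm) = L.length := by
  have : ((listSubgroup L h1 hm : Subgroup A8) : Set A8) = ↑L.toFinset := by
    ext x; simp [listSubgroup]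
  rw [← List.toFinset_card_of_nodup hn, ← SetLike.coe_sort_coe, this, Nat.card_coe_set_eq,
    Set.ncard_coe_finset]

/-! ### in the ambient group -/

theorem zpowers_three {M : Type*} [Group M] {c x : M} (h3 : c ^ 3 = 1) (hx : x ∈ zpowers c) :
    x = 1 ∨ x = c ∨ x = c⁻¹ := by
  obtain ⟨n, rfl⟩ := mem_zpowers_iff.1 hx
  have h : c ^ n = c ^ (n % 3) := by
    conv_lhs => rw [← Int.emod_add_mul_ediv n 3]
    rw [zpow_add, zpow_mul, show c ^ (3 : ℤ) = 1 from by exact_mod_cast h3, one_zpow, mul_one]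
  rw [h]
  have : n % 3 = 0 ∨ n % 3 = 1 ∨ n % 3 = 2 := by omega
  rcases this with e | e | e <;> rw [e]
  · simp
  · simp
  · refine Or.inr (Or.inr (eq_inv_of_mul_eq_one_left ?_))
    rw [← zpow_add_one]
    exact_mod_cast h3

theorem invert_mod {M : Type*} [Group M] [Finite M] {C E : Subgroup M} (hEC : E ≤ C)
    (hc : ∀ e ∈ E, ∀ x ∈ C, e * x = x * e) {n : M} (hn : n * n = 1)
    (hnC : ∀ x ∈ C, n * x * n⁻¹ ∈ C) (hnE : ∀ x ∈ E, n * x * n⁻¹ ∈ E)
    (hfix : ∀ x ∈ C, x⁻¹ * (n * x * n⁻¹) ∈ E → x ∈ E) :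
    ∀ z ∈ C, n * z * n⁻¹ * z ∈ E := by
  let φ : C → C := fun x => ⟨(x : M)⁻¹ * (n * x * n⁻¹), C.mul_mem (C.inv_mem x.2) (hnC _ x.2)⟩
  let f : C ⧸ E.subgroupOf C → C ⧸ E.subgroupOf C := fun q => QuotientGroup.mk (φ q.out)
  have hinj : Function.Injective f := by
    intro q r hqr
    generalize hx : q.out = x
    generalize hy : r.out = y
    have h1 := QuotientGroup.eq.1 (show
      (QuotientGroup.mk (φ x) : C ⧸ E.subgroupOf C) = QuotientGroup.mk (φ y) by
        simpa [f, hx, hy] using hqr)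
    rw [mem_subgroupOf] at h1
    simp only [φ, coe_mul, coe_inv] at h1
    set e1 := ((x : M)⁻¹ * (n * x * n⁻¹))⁻¹ * ((y : M)⁻¹ * (n * y * n⁻¹)) with he1
    have hxy : (x : M) * (y : M)⁻¹ * (n * y * n⁻¹) * (n * (x : M)⁻¹ * n⁻¹) = e1 := by
      calc (x : M) * (y : M)⁻¹ * (n * y * n⁻¹) * (n * (x : M)⁻¹ * n⁻¹)
          = (n * x * n⁻¹) * e1 * (n * x * n⁻¹)⁻¹ := by rw [he1]; group
        _ = e1 := by rw [← hc e1 h1 _ (hnC _ x.2), mul_inv_cancel_right]
    have hw : (y : M) * (x : M)⁻¹ ∈ E := by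
      refine hfix _ (C.mul_mem y.2 (C.inv_mem x.2)) ?_
      have : ((y : M) * (x : M)⁻¹)⁻¹ * (n * ((y : M) * (x : M)⁻¹) * n⁻¹) = e1 := by
        rw [← hxy]; group
      rw [this]; exact h1
    have hq : (QuotientGroup.mk x : C ⧸ E.subgroupOf C) = QuotientGroup.mk y := by
      rw [QuotientGroup.eq, mem_subgroupOf, coe_mul, coe_inv]
      have : (x : M)⁻¹ * y = y * (x : M)⁻¹ := by
        calc (x : M)⁻¹ * y = (x : M)⁻¹ * (y * (x : M)⁻¹ * x) := by group
          _ = (x : M)⁻¹ * (x * (y * (x : M)⁻¹)) := by rw [hc _ hw _ x.2]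
          _ = y * (x : M)⁻¹ := by group
      rw [this]; exact hw
    rw [← hx, ← hy] at hq
    simpa using hq
  intro z hz
  obtain ⟨q, hq⟩ := (Finite.injective_iff_surjective.1 hinj) (QuotientGroup.mk ⟨z, hz⟩)
  generalize hx : q.out = x at *
  have h1 := QuotientGroup.eq.1 (show
      (QuotientGroup.mk (φ x) : C ⧸ E.subgroupOf C) = QuotientGroup.mk ⟨z, hz⟩ by
        simpa [f, hx] using hq)
  rw [mem_subgroupOf] at h1
  simp only [φ, coe_mul, coe_inv] at h1
  set e := ((x : M)⁻¹ * (n * x * n⁻¹))⁻¹ * z with he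
  have hz' : z = (x : M)⁻¹ * (n * x * n⁻¹) * e := by rw [he]; group
  have hn' : n⁻¹ = n := inv_eq_of_mul_eq_one_right hn
  have hxn : n * ((x : M)⁻¹ * (n * x * n⁻¹)) * n⁻¹ = ((x : M)⁻¹ * (n * x * n⁻¹))⁻¹ := by
    simp only [mul_inv_rev, inv_inv, mul_assoc, hn']
    rw [hn, mul_one]
  have he' := hnE _ h1
  have e2 : n * z * n⁻¹ = ((x : M)⁻¹ * (n * x * n⁻¹))⁻¹ * (n * e * n⁻¹) := by
    rw [← hxn, hz']; group
  have hm : (x : M)⁻¹ * (n * x * n⁻¹) ∈ C := C.mul_mem (C.inv_mem x.2) (hnC _ x.2)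
  have e3 : n * z * n⁻¹ * z = (n * e * n⁻¹) * e := by
    rw [e2, hz']
    generalize (x : M)⁻¹ * (n * x * n⁻¹) = m at hm ⊢
    calc m⁻¹ * (n * e * n⁻¹) * (m * e) = m⁻¹ * ((n * e * n⁻¹) * m) * e := by group
      _ = (n * e * n⁻¹) * e := by rw [hc _ he' _ hm]; group
  rw [e3]
  exact E.mul_mem he' h1

variable {G : Type u} [Group G] (S : Emb G)

/-- the centraliser of the image lies in the image of the alternating group -/
def Emb.Inside (k : A8) : Prop := ∀ g : G, g * S.ι k = S.ι k * g → g ∈ S.ι.range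

theorem Emb.ι_conj (k l : A8) : S.ι (k * l * k⁻¹) = S.ι k * S.ι l * (S.ι k)⁻¹ := by simp

theorem Emb.inside_z : S.Inside z8 := fun _ hg =>
  S.cent_z (mem_centralizer_singleton_iff.2 hg)

theorem Emb.inside_y : S.Inside y8 := fun _ hg =>
  S.cent_y (mem_centralizer_singleton_iff.2 hg)

theorem Emb.inside_conj {k : A8} (h : S.Inside k) (b : A8) : S.Inside (b * k * b⁻¹) := by
  intro g hg
  rw [S.ι_conj] at hg
  have hk : (S.ι b)⁻¹ * g * S.ι b * S.ι k = S.ι k * ((S.ι b)⁻¹ * g * S.ι b) := by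
    calc (S.ι b)⁻¹ * g * S.ι b * S.ι k
        = (S.ι b)⁻¹ * (g * (S.ι b * S.ι k * (S.ι b)⁻¹)) * S.ι b := by group
      _ = (S.ι b)⁻¹ * ((S.ι b * S.ι k * (S.ι b)⁻¹) * g) * S.ι b := by rw [hg]
      _ = _ := by group
  have e : g = S.ι b * ((S.ι b)⁻¹ * g * S.ι b) * (S.ι b)⁻¹ := by group
  rw [e]
  exact mul_mem (mul_mem ⟨b, rfl⟩ (h _ hk)) (inv_mem ⟨b, rfl⟩)

theorem Emb.inside_inv {k : A8} (h : S.Inside k) : S.Inside k⁻¹ := by
  intro g hg
  rw [map_inv] at hg
  refine h g ?_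
  have := Commute.inv_right (show Commute g (S.ι k)⁻¹ from hg)
  rwa [inv_inv] at this

theorem Emb.inside_LD {k : A8} (hk : k ∈ LD) (hne : k ≠ 1) : S.Inside k := by
  obtain ⟨b, -, h⟩ := (LD_conj k hk).resolve_left hne
  rcases h with h | h | h | h <;> rw [← h]
  · exact S.inside_conj S.inside_z b
  · exact S.inside_inv (S.inside_conj S.inside_z b)
  · exact S.inside_conj S.inside_y b
  · exact S.inside_inv (S.inside_conj S.inside_y b)

theorem Emb.not_isConj_zy : ¬ IsConj (S.ι z8) (S.ι y8) := by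
  intro h
  obtain ⟨g, hg⟩ := isConj_iff.1 h
  have hF : g * S.ι f8 * g⁻¹ * S.ι y8 = S.ι y8 * (g * S.ι f8 * g⁻¹) := by
    have e : S.ι z8 * S.ι f8 = S.ι f8 * S.ι z8 := by rw [← map_mul, ← map_mul, z_comm_f]
    rw [← hg]
    calc g * S.ι f8 * g⁻¹ * (g * S.ι z8 * g⁻¹) = g * (S.ι f8 * S.ι z8) * g⁻¹ := by group
      _ = g * (S.ι z8 * S.ι f8) * g⁻¹ := by rw [e]
      _ = _ := by group
  obtain ⟨k, hk⟩ := S.inside_y _ hF
  have hky : k * y8 = y8 * k := S.inj (by rw [map_mul, map_mul, hk, hF])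
  have hk5 : k ^ 5 = 1 := S.inj (by
    rw [map_pow, hk, conj_pow, ← map_pow, f_pow.1, map_one, mul_one, mul_inv_cancel])
  rw [y_five hky hk5, map_one] at hk
  exact f_pow.2 (S.inj (by rw [map_one]; exact conj_eq_one_iff.1 hk.symm))

variable [Finite G]

theorem Emb.card_map {L : List A8} (h1 : (1 : A8) ∈ L) (hm : ∀ a ∈ L, ∀ b ∈ L, a * b ∈ L)
    (hn : L.Nodup) : Nat.card ((listSubgroup L h1 hm).map S.ι) = L.length :=
  (Nat.card_congr ((listSubgroup L h1 hm).equivMapOfInjective S.ι S.inj).toEquiv).symm.trans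
    (card_listSubgroup L h1 hm hn)

/-- the subgroup `⟨(0 1 2), (4 5 6)⟩` -/
def Emb.D : Subgroup G := (listSubgroup LD LD_one LD_mul).map S.ι

omit [Finite G] in
theorem Emb.mem_D {x : G} : x ∈ S.D ↔ ∃ k ∈ LD, S.ι k = x := mem_map

theorem Emb.card_D : Nat.card S.D = 9 := S.card_map LD_one LD_mul LD_nodup

include S in
theorem Emb.factorization_three : (Nat.card G).factorization 3 = 2 := by
  have h9 : 3 ^ 2 ∣ Nat.card G := by
    have h := card_subgroup_dvd_card S.D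
    rw [S.card_D] at h
    simpa using h
  have hp : Nat.Prime 3 := by norm_num
  apply le_antisymm
  · by_contra h
    refine S.not_dvd ?_
    have := (hp.pow_dvd_iff_le_factorization Nat.card_pos.ne').2
      (show 3 ≤ (Nat.card G).factorization 3 by omega)
    simpa using this
  · exact (hp.pow_dvd_iff_le_factorization Nat.card_pos.ne').1 h9

theorem Emb.not_nine_cent_t : ¬ 9 ∣ Nat.card (centralizer ({S.ι t8} : Set G)) := by
  intro h
  haveI : Fact (Nat.Prime 3) := ⟨by norm_num⟩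
  obtain ⟨Q0, hQ0⟩ := Sylow.exists_subgroup_card_pow_prime 3
    (show 3 ^ 2 ∣ Nat.card (centralizer ({S.ι t8} : Set G)) by simpa using h)
  let Q : Sylow 3 G := Sylow.ofCard (Q0.map (centralizer ({S.ι t8} : Set G)).subtype) (by
    rw [S.factorization_three,
      ← Nat.card_congr (Q0.equivMapOfInjective _ (subtype_injective _)).toEquiv, hQ0])
  let P : Sylow 3 G := Sylow.ofCard S.D (by rw [S.factorization_three, S.card_D]; norm_num)
  obtain ⟨g, hg⟩ := MulAction.exists_smul_eq G Q P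
  have hcomm : ∀ k ∈ LD, g * S.ι t8 * g⁻¹ * S.ι k = S.ι k * (g * S.ι t8 * g⁻¹) := by
    intro k hk
    have hkP : S.ι k ∈ (P : Subgroup G) := by
      rw [Sylow.coe_ofCard]
      exact S.mem_D.2 ⟨k, hk, rfl⟩
    rw [← hg, Sylow.coe_subgroup_smul, Subgroup.mem_pointwise_smul_iff_inv_smul_mem,
      ← map_inv, MulAut.smul_def, MulAut.conj_apply, inv_inv, Sylow.coe_ofCard] at hkP
    obtain ⟨⟨m, hm⟩, -, hm'⟩ := mem_map.1 hkP
    change m = g⁻¹ * S.ι k * g at hm'
    have hm2 := mem_centralizer_singleton_iff.1 hm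
    rw [hm'] at hm2
    calc g * S.ι t8 * g⁻¹ * S.ι k = g * (S.ι t8 * (g⁻¹ * S.ι k * g)) * g⁻¹ := by group
      _ = g * (g⁻¹ * S.ι k * g * S.ι t8) * g⁻¹ := by rw [hm2]
      _ = _ := by group
  obtain ⟨k, hk⟩ := S.inside_z _ (hcomm z8 LD_mem.1)
  have ht2 : S.ι t8 * S.ι t8 = 1 := by
    rw [← map_mul, L16_sq t8 L16_mem.1, map_one]
  have h1 : k = 1 := D_two (S.inj (by rw [map_mul, map_mul, hk, hcomm z8 LD_mem.1]))
    (S.inj (by rw [map_mul, map_mul, hk, hcomm c8 LD_mem.2]))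
    (S.inj (by
      rw [map_mul, hk, map_one,
        show g * S.ι t8 * g⁻¹ * (g * S.ι t8 * g⁻¹) = g * (S.ι t8 * S.ι t8) * g⁻¹ by group, ht2,
        mul_one, mul_inv_cancel]))
  rw [h1, map_one] at hk
  have : t8 = 1 := S.inj (by rw [map_one]; exact conj_eq_one_iff.1 hk.symm)
  exact absurd this (by decide +kernel)

theorem card_zpowers_three {M : Type*} [Group M] [Finite M] (h9 : ¬ 9 ∣ Nat.card M) {x : M}
    (h3 : x ^ 3 = 1) (hne : x ≠ 1) : Nat.card (zpowers x) = 3 ^ (Nat.card M).factorization 3 := by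
  haveI : Fact (Nat.Prime 3) := ⟨by norm_num⟩
  have ho : orderOf x = 3 := orderOf_eq_prime h3 hne
  have hd : 3 ∣ Nat.card M := ho ▸ orderOf_dvd_natCard x
  have hp : Nat.Prime 3 := by norm_num
  have h1 : 1 ≤ (Nat.card M).factorization 3 :=
    (hp.pow_dvd_iff_le_factorization Nat.card_pos.ne').1 (by simpa using hd)
  have h2 : ¬ 2 ≤ (Nat.card M).factorization 3 := fun h =>
    h9 (by simpa using (hp.pow_dvd_iff_le_factorization Nat.card_pos.ne').2 h)
  rw [Nat.card_zpowers, ho, show (Nat.card M).factorization 3 = 1 by omega, pow_one]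

/-- The two classes of involutions of the alternating subgroup are not fused. -/
theorem Emb.not_isConj : ¬ IsConj (S.ι t8) (S.ι u8) := by
  intro h
  obtain ⟨g, hg⟩ := isConj_iff.1 h
  haveI : Fact (Nat.Prime 3) := ⟨by norm_num⟩
  set C := centralizer ({S.ι t8} : Set G) with hC
  have hcC : S.ι c8 ∈ C := mem_centralizer_singleton_iff.2
    (by rw [← map_mul, ← map_mul, t_comm_c])
  have hYC : g⁻¹ * S.ι (a8 * b8) * g ∈ C := by
    refine mem_centralizer_singleton_iff.2 ?_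
    have e : S.ι u8 * S.ι (a8 * b8) = S.ι (a8 * b8) * S.ι u8 := by
      rw [← map_mul S.ι u8, ← map_mul S.ι _ u8, ab_comm]
    calc g⁻¹ * S.ι (a8 * b8) * g * S.ι t8
        = g⁻¹ * (S.ι (a8 * b8) * (g * S.ι t8 * g⁻¹)) * g := by group
      _ = g⁻¹ * ((g * S.ι t8 * g⁻¹) * S.ι (a8 * b8)) * g := by rw [hg, e]
      _ = _ := by group
  have h9 := S.not_nine_cent_t
  let c : C := ⟨S.ι c8, hcC⟩
  let Y : C := ⟨g⁻¹ * S.ι (a8 * b8) * g, hYC⟩
  have hc3 : c ^ 3 = 1 := Subtype.ext (by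
    rw [coe_pow]; show S.ι c8 ^ 3 = 1; rw [← map_pow, c_cube, map_one])
  have hc1 : c ≠ 1 := fun e => c_ne.1 (S.inj ((congrArg Subtype.val e).trans (map_one S.ι).symm))
  have hab3 : (a8 * b8) ^ 3 = 1 ∧ a8 * b8 ≠ 1 := by decide +kernel
  have hY3 : Y ^ 3 = 1 := Subtype.ext (by
    rw [coe_pow]; show (g⁻¹ * S.ι (a8 * b8) * g) ^ 3 = 1
    have := conj_pow (i := 3) (a := g⁻¹) (b := S.ι (a8 * b8))
    rw [inv_inv] at this
    rw [this, ← map_pow, hab3.1, map_one, mul_one, inv_mul_cancel])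
  have hY1 : Y ≠ 1 := fun e => hab3.2 (S.inj (by
    have h' : g⁻¹ * S.ι (a8 * b8) * g⁻¹⁻¹ = 1 := by rw [inv_inv]; exact congrArg Subtype.val e
    rw [map_one]; exact conj_eq_one_iff.1 h'))
  let PY : Sylow 3 C := Sylow.ofCard (zpowers Y) (card_zpowers_three h9 hY3 hY1)
  let Pc : Sylow 3 C := Sylow.ofCard (zpowers c) (card_zpowers_three h9 hc3 hc1)
  obtain ⟨k, hk⟩ := MulAction.exists_smul_eq C PY Pc
  have hmem : k * Y * k⁻¹ ∈ (Pc : Subgroup C) := by
    rw [← hk, Sylow.coe_subgroup_smul, Subgroup.mem_pointwise_smul_iff_inv_smul_mem,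
      ← map_inv, MulAut.smul_def, MulAut.conj_apply, inv_inv, Sylow.coe_ofCard]
    have : k⁻¹ * (k * Y * k⁻¹) * k = Y := by group
    rw [this]; exact mem_zpowers Y
  rw [Sylow.coe_ofCard] at hmem
  have hconj : IsConj (S.ι y8) ((k : G) * (g⁻¹ * S.ι (a8 * b8) * g) * (k : G)⁻¹) := by
    refine isConj_iff.2 ⟨(k : G) * g⁻¹ * S.ι r8, ?_⟩
    rw [← ab_conj, S.ι_conj]
    group
  have hcz : IsConj (S.ι z8) (S.ι c8) :=
    isConj_iff.2 ⟨S.ι s8, by rw [← S.ι_conj, s_conj_z]⟩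
  rcases zpowers_three hc3 hmem with e | e | e
  · exact hY1 (conj_eq_one_iff.1 e)
  · have e' := congrArg Subtype.val e
    simp only [coe_mul, coe_inv, Y, c] at e'
    rw [e'] at hconj
    exact S.not_isConj_zy (hcz.trans hconj.symm)
  · have e' := congrArg Subtype.val e
    simp only [coe_mul, coe_inv, Y, c] at e'
    rw [e'] at hconj
    have : IsConj (S.ι c8) (S.ι c8)⁻¹ :=
      isConj_iff.2 ⟨S.ι e8, by rw [← S.ι_conj, e_inv_c, map_inv]⟩
    exact S.not_isConj_zy ((hcz.trans this).trans hconj.symm)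

/-- the centraliser of the four-group on the first four letters -/
def Emb.CV : Subgroup G := centralizer ({S.ι t8, S.ι a8} : Set G)

omit [Finite G] in
theorem Emb.mem_CV {x : G} :
    x ∈ S.CV ↔ x * S.ι t8 = S.ι t8 * x ∧ x * S.ι a8 = S.ι a8 * x := by
  simp [Emb.CV, mem_centralizer_iff, eq_comm]

omit [Finite G] in
theorem Emb.CV_comm_T0 {x : G} (hx : x ∈ S.CV) : ∀ p ∈ T0, x * S.ι p = S.ι p * x := by
  intro p hp
  obtain ⟨h1, h2⟩ := S.mem_CV.1 hx
  simp only [T0, List.mem_cons, List.not_mem_nil, or_false] at hp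
  rcases hp with rfl | rfl | rfl
  · exact h1
  · exact h2
  · rw [map_mul]; exact Commute.mul_right h1 h2

theorem Emb.CV_le : S.CV ≤ S.ι.range := by
  haveI : Fact (Nat.Prime 3) := ⟨by norm_num⟩
  have h9 : ¬ 9 ∣ Nat.card S.CV := fun h => S.not_nine_cent_t
    (h.trans (card_dvd_of_le fun x hx => mem_centralizer_singleton_iff.2 (S.mem_CV.1 hx).1))
  let c : S.CV := ⟨S.ι c8, S.mem_CV.2 ⟨by rw [← map_mul, ← map_mul, t_comm_c],
    by rw [← map_mul, ← map_mul, a_comm_c]⟩⟩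
  have hc3 : c ^ 3 = 1 := Subtype.ext (by
    rw [coe_pow]; show S.ι c8 ^ 3 = 1; rw [← map_pow, c_cube, map_one])
  have hc1 : c ≠ 1 := fun e => c_ne.1 (S.inj ((congrArg Subtype.val e).trans (map_one S.ι).symm))
  let P : Sylow 3 S.CV := Sylow.ofCard (zpowers c) (card_zpowers_three h9 hc3 hc1)
  have hPc : (P : Subgroup S.CV) = zpowers c := Sylow.coe_ofCard _ _
  have hP : normalizer ((P : Subgroup S.CV) : Set S.CV) ≤
      centralizer ((P : Subgroup S.CV) : Set S.CV) := by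
    rw [hPc]
    intro n hn
    have hm : n * c * n⁻¹ ∈ zpowers c := (mem_normalizer_iff.1 hn c).1 (mem_zpowers c)
    rcases zpowers_three hc3 hm with e | e | e
    · exact absurd (conj_eq_one_iff.1 e) hc1
    · rw [mem_centralizer_iff]
      rintro _ ⟨j, rfl⟩
      exact (Commute.zpow_left (mul_inv_eq_iff_eq_mul.1 e).symm j)
    · exfalso
      have e' : (n : G) * S.ι c8 * (n : G)⁻¹ = (S.ι c8)⁻¹ := by
        simpa [c] using congrArg Subtype.val e
      have hcomm : (S.ι e8)⁻¹ * (n : G) * S.ι c8 = S.ι c8 * ((S.ι e8)⁻¹ * (n : G)) := by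
        have e2 : S.ι e8 * S.ι c8 * (S.ι e8)⁻¹ = (S.ι c8)⁻¹ := by
          rw [← S.ι_conj, e_inv_c, map_inv]
        calc (S.ι e8)⁻¹ * (n : G) * S.ι c8
            = (S.ι e8)⁻¹ * ((n : G) * S.ι c8 * (n : G)⁻¹) * (n : G) := by group
          _ = (S.ι e8)⁻¹ * (S.ι e8 * S.ι c8 * (S.ι e8)⁻¹) * (n : G) := by rw [e', e2]
          _ = _ := by group
      have hsc : S.Inside c8 := S.inside_LD LD_mem.2 c_ne.1
      obtain ⟨m, hm⟩ := hsc _ hcomm
      have hn' : (n : G) = S.ι (e8 * m) := by rw [map_mul, hm]; group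
      obtain ⟨h1, h2⟩ := S.mem_CV.1 n.2
      rw [hn'] at h1 h2 e'
      refine V_inv (k := e8 * m) ?_ ?_ ?_ <;> apply S.inj
      · rw [map_mul S.ι _ t8, h1, ← map_mul]
      · rw [map_mul S.ι _ a8, h2, ← map_mul]
      · rw [S.ι_conj, e', map_inv]
  have hK := MonoidHom.ker_transferSylow_isComplement' P hP
  set φ := MonoidHom.transferSylow P hP with hφ
  have hcP : Nat.card (P : Subgroup S.CV) = 3 := by
    rw [hPc, Nat.card_zpowers, orderOf_eq_prime hc3 hc1]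
  have hK3 : ¬ 3 ∣ Nat.card φ.ker := by
    rintro ⟨j, hj⟩
    apply h9
    rw [← hK.card_mul, hj, hcP]
    exact ⟨j, by ring⟩
  let W : Subgroup G := φ.ker.map S.CV.subtype
  have hW : Nat.card W = Nat.card φ.ker :=
    (Nat.card_congr (φ.ker.equivMapOfInjective _ (subtype_injective _)).toEquiv).symm
  have hDW : S.D ≤ normalizer (W : Set G) := by
    have key : ∀ x ∈ S.D, ∀ w ∈ W, x * w * x⁻¹ ∈ W := by
      intro x hx w hw
      obtain ⟨k, hk, rfl⟩ := S.mem_D.1 hx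
      obtain ⟨w, hwK, rfl⟩ := mem_map.1 hw
      have hCV : S.ι k * (w : G) * (S.ι k)⁻¹ ∈ S.CV := by
        obtain ⟨hkt, hka⟩ := LD_T0 k hk
        have move : ∀ p : A8, (w : G) * S.ι (k⁻¹ * p * k) = S.ι (k⁻¹ * p * k) * (w : G) →
            S.ι k * (w : G) * (S.ι k)⁻¹ * S.ι p = S.ι p * (S.ι k * (w : G) * (S.ι k)⁻¹) := by
          intro p hp
          simp only [map_mul, map_inv] at hp
          calc S.ι k * (w : G) * (S.ι k)⁻¹ * S.ι p
              = S.ι k * ((w : G) * ((S.ι k)⁻¹ * S.ι p * S.ι k)) * (S.ι k)⁻¹ := by group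
            _ = S.ι k * ((S.ι k)⁻¹ * S.ι p * S.ι k * (w : G)) * (S.ι k)⁻¹ := by rw [hp]
            _ = _ := by group
        exact S.mem_CV.2 ⟨move _ (S.CV_comm_T0 w.2 _ hkt), move _ (S.CV_comm_T0 w.2 _ hka)⟩
      refine mem_map.2 ⟨⟨_, hCV⟩, MonoidHom.mem_ker.2 ?_, rfl⟩
      let y : S.CV := ⟨_, hCV⟩
      have hyo : orderOf y = orderOf w := by
        rw [← Subgroup.orderOf_coe y, ← Subgroup.orderOf_coe w]
        show orderOf (MulAut.conj (S.ι k) (w : G)) = _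
        exact MulEquiv.orderOf_eq _ _
      have h1 : orderOf (φ y) ∣ orderOf w := hyo ▸ orderOf_map_dvd φ y
      have h2 : orderOf w ∣ Nat.card φ.ker := by
        have := orderOf_dvd_natCard (⟨w, hwK⟩ : φ.ker)
        rwa [orderOf_mk] at this
      have h3 : orderOf (φ y) ∣ 3 := by
        have := orderOf_dvd_natCard (φ y)
        rwa [hcP] at this
      rcases (Nat.dvd_prime (by norm_num)).1 h3 with h | h
      · exact orderOf_eq_one_iff.1 h
      · exact absurd ((h ▸ h1).trans h2) hK3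
    intro x hx
    refine mem_normalizer_iff.2 fun w => ⟨key x hx w, fun hw => ?_⟩
    have h := key x⁻¹ (inv_mem hx) _ hw
    simpa [mul_assoc] using h
  haveI : IsMulCommutative S.D := ⟨⟨fun ⟨a, ha⟩ ⟨b, hb⟩ => by
    obtain ⟨k, hk, rfl⟩ := S.mem_D.1 ha
    obtain ⟨l, hl, rfl⟩ := S.mem_D.1 hb
    exact Subtype.ext (by show S.ι k * S.ι l = _; rw [← map_mul, LD_comm k hk l hl, map_mul]; rfl)⟩⟩
  have hWle : W ≤ S.ι.range := by
    refine CfsgLib.Coprime.le_of_centralizer_le_of_not_isCyclic (A := S.D) ?_ hDW ?_ ?_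
    · intro hcyc
      obtain ⟨⟨a, ha⟩, hord⟩ := IsCyclic.exists_ofOrder_eq_natCard (α := S.D)
      rw [S.card_D, orderOf_mk] at hord
      obtain ⟨k, hk, rfl⟩ := S.mem_D.1 ha
      have hdvd : orderOf (S.ι k) ∣ 3 := orderOf_dvd_of_pow_eq_one (by
        rw [pow_succ, pow_two, ← map_mul, ← map_mul, LD_cube k hk, map_one])
      rw [hord] at hdvd
      exact absurd (Nat.le_of_dvd (by norm_num) hdvd) (by norm_num)
    · rw [S.card_D, hW, show (9 : ℕ) = 3 ^ 2 by norm_num]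
      exact ((Nat.Prime.coprime_iff_not_dvd (by norm_num)).2 hK3).pow_left 2
    · intro a ha hne x hx
      obtain ⟨k, hk, rfl⟩ := S.mem_D.1 ha
      exact S.inside_LD hk (fun e => hne (by rw [e, map_one])) x
        (mem_centralizer_singleton_iff.1 hx.2)
  intro x hx
  obtain ⟨⟨⟨k, hk⟩, ⟨p, hp⟩⟩, he⟩ := hK.2 ⟨x, hx⟩
  have e := congrArg Subtype.val he
  simp only [coe_mul] at e
  rw [← e]
  refine mul_mem (hWle (mem_map.2 ⟨k, hk, rfl⟩)) ?_
  replace hp : p ∈ zpowers c := hPc ▸ hp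
  rcases zpowers_three hc3 hp with rfl | rfl | rfl
  · exact one_mem _
  · exact ⟨c8, rfl⟩
  · exact inv_mem ⟨c8, rfl⟩

theorem Emb.normV {x : G} (hp : ∃ p ∈ T0, x * S.ι t8 * x⁻¹ = S.ι p)
    (hq : ∃ q ∈ T0, x * S.ι a8 * x⁻¹ = S.ι q) : x ∈ S.ι.range := by
  obtain ⟨p, hp, ep⟩ := hp
  obtain ⟨q, hq, eq'⟩ := hq
  have hne : p ≠ q := by
    rintro rfl
    have : S.ι t8 = S.ι a8 := conj_injective (x := x) (ep.trans eq'.symm)
    exact absurd (S.inj this) (by decide +kernel)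
  obtain ⟨k, -, kp, kq⟩ := T0_pair p hp q hq hne
  have fix : ∀ {w r : A8}, k * w * k⁻¹ = r → x * S.ι w * x⁻¹ = S.ι r →
      (S.ι k)⁻¹ * x * S.ι w = S.ι w * ((S.ι k)⁻¹ * x) := by
    intro w r h1 h2
    rw [← h1, S.ι_conj] at h2
    calc (S.ι k)⁻¹ * x * S.ι w = (S.ι k)⁻¹ * (x * S.ι w * x⁻¹) * x := by group
      _ = (S.ι k)⁻¹ * (S.ι k * S.ι w * (S.ι k)⁻¹) * x := by rw [h2]
      _ = _ := by group
  have hCV : (S.ι k)⁻¹ * x ∈ S.CV := S.mem_CV.2 ⟨fix kp ep, fix kq eq'⟩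
  have e : x = S.ι k * ((S.ι k)⁻¹ * x) := by group
  rw [e]
  exact mul_mem ⟨k, rfl⟩ (S.CV_le hCV)

theorem Emb.isConj_t_T0 {p : A8} (hp : p ∈ T0) : IsConj (S.ι t8) (S.ι p) := by
  obtain ⟨k, -, rfl⟩ := T0_conj p hp
  exact isConj_iff.2 ⟨S.ι k, (S.ι_conj k t8).symm⟩

theorem Emb.normW {g : G} (hg : ∀ w ∈ L16, ∃ w' ∈ L16, g * S.ι w * g⁻¹ = S.ι w') :
    g ∈ S.ι.range := by
  have img : ∀ w ∈ T0, w ∈ L16 → ∃ w' ∈ T0 ++ T1, g * S.ι w * g⁻¹ = S.ι w' := by
    intro w hw hw16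
    obtain ⟨w', hw', e⟩ := hg w hw16
    refine ⟨w', ?_, e⟩
    rcases L16_type w' hw' with rfl | h | h | ⟨k, -, k', -, h⟩
    · exfalso
      rw [map_one] at e
      have hw1 : w = 1 := S.inj (by rw [map_one]; exact conj_eq_one_iff.1 e)
      subst hw1
      exact absurd hw (by decide +kernel)
    · exact List.mem_append_left _ h
    · exact List.mem_append_right _ h
    · exfalso
      refine S.not_isConj (((S.isConj_t_T0 hw).trans (isConj_iff.2 ⟨g, e⟩)).trans ?_)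
      rw [← h]
      exact (isConj_iff.2 ⟨S.ι (k * (s8 * k' * s8)), (S.ι_conj _ u8).symm⟩).symm
  obtain ⟨p, hp, ep⟩ := img t8 (by simp [T0]) L16_mem.1
  obtain ⟨q, hq, eq'⟩ := img a8 (by simp [T0]) L16_mem.2.1
  obtain ⟨r, hr, er⟩ := img (t8 * a8) (by simp [T0]) L16_mem.2.2
  have hpq : r = p * q := S.inj (by rw [← er, map_mul, map_mul, ← ep, ← eq']; group)
  rcases T_sides p hp q hq (hpq ▸ hr) with ⟨h1, h2⟩ | ⟨h1, h2⟩
  · exact S.normV ⟨p, h1, ep⟩ ⟨q, h2, eq'⟩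
  · have hs : S.ι s8 * g ∈ S.ι.range := by
      refine S.normV ⟨s8 * p * s8⁻¹, T1_swap p h1, ?_⟩ ⟨s8 * q * s8⁻¹, T1_swap q h2, ?_⟩
      · rw [S.ι_conj, ← ep]; group
      · rw [S.ι_conj, ← eq']; group
    have e : g = (S.ι s8)⁻¹ * (S.ι s8 * g) := by group
    rw [e]
    exact mul_mem (inv_mem ⟨s8, rfl⟩) hs

theorem Emb.normR {g : G} (hg : ∀ x ∈ L64, ∃ x' ∈ L64, g * S.ι x * g⁻¹ = S.ι x') :
    g ∈ S.ι.range := by
  classical
  refine S.normW fun w hw => ?_
  let f : A8 → A8 := fun w => Function.invFun S.ι (g * S.ι w * g⁻¹)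
  have hf : ∀ w ∈ L16, f w ∈ L64 ∧ S.ι (f w) = g * S.ι w * g⁻¹ := by
    intro w hw
    obtain ⟨x', hx', e⟩ := hg w (L16_sub w hw)
    have h : S.ι (f w) = g * S.ι w * g⁻¹ := Function.invFun_eq ⟨x', e.symm⟩
    exact ⟨(S.inj (h.trans e)) ▸ hx', h⟩
  obtain ⟨hwm, hwe⟩ := hf w hw
  refine ⟨f w, ?_, hwe.symm⟩
  have hsq : ∀ v ∈ L16, f v * f v = 1 := fun v hv => S.inj (by
    rw [map_mul, (hf v hv).2, map_one,
      show g * S.ι v * g⁻¹ * (g * S.ι v * g⁻¹) = g * S.ι (v * v) * g⁻¹ by rw [map_mul]; group,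
      L16_sq v hv, map_one, mul_one, mul_inv_cancel])
  by_contra hout
  have hlen := (L64_few (f w) hwm (hsq w hw)).resolve_left hout
  have hmaps : Set.MapsTo f ↑L16.toFinset
      ↑(L64.filter fun y => decide (y * y = 1) && decide (f w * y = y * f w)).toFinset := by
    intro v hv
    simp only [Finset.mem_coe, List.mem_toFinset] at hv ⊢
    refine List.mem_filter.2 ⟨(hf v hv).1, ?_⟩
    simp only [Bool.and_eq_true, decide_eq_true_eq]
    refine ⟨hsq v hv, S.inj ?_⟩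
    rw [map_mul, map_mul, (hf v hv).2, hwe,
      show g * S.ι w * g⁻¹ * (g * S.ι v * g⁻¹) = g * S.ι (w * v) * g⁻¹ by rw [map_mul]; group,
      L16_comm w hw v hv, map_mul]
    group
  have hinj : Set.InjOn f ↑L16.toFinset := by
    intro v hv v' hv' h
    simp only [Finset.mem_coe, List.mem_toFinset] at hv hv'
    exact S.inj (conj_injective (x := g)
      ((hf v hv).2.symm.trans ((congrArg S.ι h).trans (hf v' hv').2)))
  have h16 := Finset.card_le_card_of_injOn f hmaps hinj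
  rw [List.toFinset_card_of_nodup L16_nodup] at h16
  have := (List.toFinset_card_le _).trans hlen
  have h : L16.length = 16 := rfl
  omega

include S in
/-- The Sylow 2-subgroups have order at most 64. -/
theorem Emb.not_dvd_two_pow : ¬ 128 ∣ Nat.card G := by
  intro h
  haveI : Fact (Nat.Prime 2) := ⟨Nat.prime_two⟩
  set R : Subgroup G := (listSubgroup L64 L64_one L64_mul).map S.ι with hR
  have hcR : Nat.card R = 64 := S.card_map L64_one L64_mul L64_nodup
  obtain ⟨P, hP⟩ := (IsPGroup.of_card (p := 2) (n := 6) (G := R) (by rw [hcR]; norm_num))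
    |>.exists_le_sylow
  have h128 : 128 ≤ Nat.card P := by
    rw [P.card_eq_multiplicity, show (128 : ℕ) = 2 ^ 7 by norm_num]
    exact Nat.pow_le_pow_right (by norm_num)
      ((Nat.prime_two.pow_dvd_iff_le_factorization Nat.card_pos.ne').1 (by simpa using h))
  set R' : Subgroup P := R.subgroupOf P with hR'
  have hcR' : Nat.card R' = 64 := by
    rw [Nat.card_congr (subgroupOfEquivOfLe hP).toEquiv, hcR]
  have hlt : R' < ⊤ := lt_top_iff_ne_top.2 fun e => by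
    rw [e, card_top] at hcR'
    omega
  haveI : Group.IsNilpotent (P : Subgroup G) := P.2.isNilpotent
  have hnc : R' < normalizer (R' : Set P) := Group.normalizerCondition_of_isNilpotent R' hlt
  set N : Subgroup P := normalizer (R' : Set P) with hN
  have hle : N.map (P : Subgroup G).subtype ≤ S.ι.range := by
    rintro _ ⟨n, hn, rfl⟩
    refine S.normR fun x hx => ?_
    have hxR : S.ι x ∈ R := mem_map.2 ⟨x, hx, rfl⟩
    have := (mem_normalizer_iff.1 hn ⟨S.ι x, hP hxR⟩).1 (mem_subgroupOf.2 hxR)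
    obtain ⟨x', hx', e⟩ := mem_map.1 (mem_subgroupOf.1 this)
    exact ⟨x', hx', e.symm⟩
  have hd := card_dvd_of_le hle
  rw [← Nat.card_congr (N.equivMapOfInjective _ (subtype_injective _)).toEquiv,
    ← Nat.card_congr (MonoidHom.ofInjective S.inj).toEquiv, nat_card_alternatingGroup,
    Nat.card_eq_fintype_card (α := Fin 8), Fintype.card_fin] at hd
  obtain ⟨j, hj⟩ := IsPGroup.iff_card.1 (P.2.to_subgroup N)
  rw [hj] at hd
  have hj6 : j ≤ 6 := by
    by_contra hlt'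
    have := (pow_dvd_pow 2 (show 7 ≤ j by omega)).trans hd
    norm_num [Nat.factorial] at this
  have hle64 : Nat.card N ≤ 64 := by
    rw [hj]; exact (Nat.pow_le_pow_right (by norm_num) hj6).trans (by norm_num)
  exact hnc.ne (eq_of_le_of_card_ge hnc.le (by omega))

/-- the image of the subgroup of order eight -/
def Emb.E : Subgroup G := (listSubgroup L8 L8_mem.2.2.2 L8_mul).map S.ι

omit [Finite G] in
theorem Emb.mem_E {x : G} : x ∈ S.E ↔ ∃ k ∈ L8, S.ι k = x := mem_map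

/-- The centralizer of the subgroup of order eight lies in the alternating subgroup. -/
theorem Emb.cent_E : centralizer ({S.ι t8, S.ι v8, S.ι e8} : Set G) ≤ S.ι.range := by
  set C := centralizer ({S.ι t8, S.ι v8, S.ι e8} : Set G) with hC
  have hgen : ∀ x, x ∈ C ↔ (x * S.ι t8 = S.ι t8 * x ∧ x * S.ι v8 = S.ι v8 * x ∧
      x * S.ι e8 = S.ι e8 * x) := by
    intro x
    simp [hC, mem_centralizer_iff, eq_comm]
  have hall : ∀ x, x ∈ C ↔ ∀ l ∈ L8, x * S.ι l = S.ι l * x := by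
    intro x
    refine ⟨fun hx l hl => ?_, fun h => (hgen x).2 ⟨h _ L8_mem.1, h _ L8_mem.2.1, h _ L8_mem.2.2.1⟩⟩
    obtain ⟨h1, h2, h3⟩ := (hgen x).1 hx
    obtain ⟨w, hw, d, hd, rfl⟩ := mem_prods.1 hl
    obtain ⟨a, ha, b, hb, rfl⟩ := mem_prods.1 hw
    have two : ∀ {p q : A8}, x * S.ι p = S.ι p * x → q ∈ [1, p] → Commute x (S.ι q) := by
      intro p q hpx hq
      simp only [List.mem_cons, List.not_mem_nil, or_false] at hq
      rcases hq with rfl | rfl
      · rw [map_one]; exact Commute.one_right x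
      · exact hpx
    rw [map_mul, map_mul]
    exact ((two h1 ha).mul_right (two h2 hb)).mul_right (two h3 hd)
  have hEC : S.E ≤ C := by
    intro x hx
    obtain ⟨k, hk, rfl⟩ := S.mem_E.1 hx
    refine (hall _).2 fun l hl => ?_
    have e : k * l = l * k := by
      have h1 := L8_sq _ (L8_mul k hk l hl)
      have hki : k⁻¹ = k := inv_eq_of_mul_eq_one_right (L8_sq k hk)
      have hli : l⁻¹ = l := inv_eq_of_mul_eq_one_right (L8_sq l hl)
      rw [← inv_eq_of_mul_eq_one_right h1, mul_inv_rev, hki, hli]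
    rw [← map_mul, e, map_mul]
  have hcE : ∀ e ∈ S.E, ∀ x ∈ C, e * x = x * e := by
    intro e he x hx
    obtain ⟨k, hk, rfl⟩ := S.mem_E.1 he
    exact ((hall x).1 hx k hk).symm
  have hEsq : ∀ e ∈ S.E, e * e = 1 := by
    intro e he
    obtain ⟨k, hk, rfl⟩ := S.mem_E.1 he
    rw [← map_mul, L8_sq k hk, map_one]
  have hHC : ∀ x ∈ C, x ∈ S.ι.range → x ∈ S.E := by
    rintro _ hx ⟨k, rfl⟩
    obtain ⟨h1, h2, h3⟩ := (hgen _).1 hx
    exact S.mem_E.2 ⟨k, E_self (S.inj (by rw [map_mul, map_mul, h1]))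
      (S.inj (by rw [map_mul, map_mul, h2])) (S.inj (by rw [map_mul, map_mul, h3])), rfl⟩
  have nrmE : ∀ {n : A8}, (∀ x ∈ L8, n * x * n⁻¹ ∈ L8) →
      ∀ x ∈ S.E, S.ι n * x * (S.ι n)⁻¹ ∈ S.E := by
    intro n hn x hx
    obtain ⟨k, hk, rfl⟩ := S.mem_E.1 hx
    exact S.mem_E.2 ⟨_, hn k hk, S.ι_conj n k⟩
  have nrmC : ∀ {n : A8}, n * n = 1 → (∀ x ∈ L8, n * x * n⁻¹ ∈ L8) →
      ∀ x ∈ C, S.ι n * x * (S.ι n)⁻¹ ∈ C := by
    intro n hn2 hn x hx
    refine (hall _).2 fun l hl => ?_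
    have h := (hall x).1 hx _ (hn l hl)
    rw [S.ι_conj] at h
    have hi : S.ι n * S.ι n = 1 := by rw [← map_mul, hn2, map_one]
    have hi' : (S.ι n)⁻¹ = S.ι n := inv_eq_of_mul_eq_one_right hi
    calc S.ι n * x * (S.ι n)⁻¹ * S.ι l
        = S.ι n * (x * ((S.ι n)⁻¹ * S.ι l * S.ι n)) * (S.ι n)⁻¹ := by group
      _ = S.ι n * (((S.ι n)⁻¹ * S.ι l * S.ι n) * x) * (S.ι n)⁻¹ := by
          rw [hi'] at h ⊢
          rw [h]
      _ = _ := by group
  have fixA : ∀ x ∈ C, x⁻¹ * (S.ι a8 * x * (S.ι a8)⁻¹) ∈ S.E → x ∈ S.E := by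
    intro x hx he
    obtain ⟨l, hl, e⟩ := S.mem_E.1 he
    have ex : x⁻¹ * S.ι a8 * x = S.ι (l * a8) := by rw [map_mul, e]; group
    have ha2 : S.ι a8 * S.ι a8 = 1 := by rw [← map_mul, a_sq, map_one]
    have hl2 : l * a8 * (l * a8) = 1 := S.inj (by
      rw [map_mul, ← ex, map_one,
        show x⁻¹ * S.ι a8 * x * (x⁻¹ * S.ι a8 * x) = x⁻¹ * (S.ι a8 * S.ι a8) * x by group,
        ha2, mul_one, inv_mul_cancel])
    have hT : l * a8 ∈ T0 := by
      rcases L8_a_inv l hl hl2 with rfl | rfl | ⟨k, -, k', -, h⟩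
      · simp [T0]
      · simp [T0]
      · exfalso
        refine S.not_isConj ((S.isConj_t_T0 (p := a8) (by simp [T0])).trans ?_)
        refine IsConj.trans (isConj_iff.2 ⟨x⁻¹, by rw [inv_inv]⟩ :
          IsConj (S.ι a8) (x⁻¹ * S.ι a8 * x)) ?_
        rw [ex, ← h]
        exact (isConj_iff.2 ⟨S.ι (k * (s8 * k' * s8)), (S.ι_conj _ u8).symm⟩).symm
    have hr : x⁻¹ ∈ S.ι.range := by
      refine S.normV ⟨t8, by simp [T0], ?_⟩ ⟨l * a8, hT, by rw [inv_inv]; exact ex⟩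
      rw [inv_inv, mul_assoc, ← (hall x).1 hx t8 L8_mem.1, inv_mul_cancel_left]
    exact hHC x hx (by simpa using inv_mem hr)
  have fixB : ∀ x ∈ C, x⁻¹ * (S.ι b8 * x * (S.ι b8)⁻¹) ∈ S.E → x ∈ S.E := by
    intro x hx he
    have hk2 : S.ι k8 * S.ι k8 = 1 := by rw [← map_mul, k_sq, map_one]
    have hki : (S.ι k8)⁻¹ = S.ι k8 := inv_eq_of_mul_eq_one_right hk2
    have hba : S.ι k8 * S.ι b8 * (S.ι k8)⁻¹ = S.ι a8 := by
      rw [← S.ι_conj, show k8 * b8 * k8⁻¹ = a8 by decide +kernel]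
    have e : (S.ι k8 * x * (S.ι k8)⁻¹)⁻¹ *
        (S.ι a8 * (S.ι k8 * x * (S.ι k8)⁻¹) * (S.ι a8)⁻¹) =
          S.ι k8 * (x⁻¹ * (S.ι b8 * x * (S.ι b8)⁻¹)) * (S.ι k8)⁻¹ := by
      rw [← hba]; group
    have h1 := fixA _ (nrmC k_sq L8_k x hx) (by rw [e]; exact nrmE L8_k _ he)
    have := nrmE L8_k _ h1
    rw [hki] at this
    rwa [show S.ι k8 * (S.ι k8 * x * S.ι k8) * S.ι k8 =
      S.ι k8 * S.ι k8 * x * (S.ι k8 * S.ι k8) by group, hk2, one_mul, mul_one] at this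
  have invA := invert_mod hEC hcE (by rw [← map_mul, a_sq, map_one]) (nrmC a_sq L8_a)
    (nrmE L8_a) fixA
  have invB := invert_mod hEC hcE (by rw [← map_mul, b_sq, map_one]) (nrmC b_sq L8_b)
    (nrmE L8_b) fixB
  intro z hz
  have hzE : z ∈ S.E := by
    have h2E := invA z hz
    have h1E := invB z hz
    set A := S.ι a8 with hA
    set B := S.ι b8 with hB
    set e1 := B * z * B⁻¹ * z with he1
    set e2 := A * z * A⁻¹ * z with he2
    set e1' := A * e1 * A⁻¹ with he1'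
    have h1E' : e1' ∈ S.E := nrmE L8_a _ h1E
    have hY : A * B * z * (A * B)⁻¹ = z * (e1' * e2⁻¹) := by
      calc A * B * z * (A * B)⁻¹ = e1' * z * e2⁻¹ := by rw [he1', he1, he2]; group
        _ = z * (e1' * e2⁻¹) := by rw [hcE _ h1E' z hz, mul_assoc]
    generalize he3 : e1' * e2⁻¹ = e3 at hY
    have h3E : e3 ∈ S.E := he3 ▸ mul_mem h1E' (inv_mem h2E)
    have hY2 : A * B * (z * z) * (A * B)⁻¹ = z * z := by
      calc A * B * (z * z) * (A * B)⁻¹
          = (A * B * z * (A * B)⁻¹) * (A * B * z * (A * B)⁻¹) := by group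
        _ = z * (e3 * z) * e3 := by rw [hY]; group
        _ = z * z * (e3 * e3) := by rw [hcE _ h3E z hz]; group
        _ = z * z := by rw [hEsq _ h3E, mul_one]
    have hY3 : z * z * S.ι (a8 * b8) = S.ι (a8 * b8) * (z * z) := by
      rw [map_mul]
      calc z * z * (A * B) = (A * B * (z * z) * (A * B)⁻¹) * (A * B) := by rw [hY2]
        _ = A * B * (z * z) := by group
    have hzz : z * z ∈ S.E := by
      refine hHC _ (mul_mem hz hz) ?_
      have h := S.inside_conj S.inside_y r8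
      rw [ab_conj] at h
      exact h _ hY3
    apply fixA z hz
    have : z⁻¹ * (A * z * A⁻¹) = e2 * (z * z)⁻¹ := by
      calc z⁻¹ * (A * z * A⁻¹) = z⁻¹ * e2 * z⁻¹ := by rw [he2]; group
        _ = e2 * (z * z)⁻¹ := by rw [← hcE _ h2E _ (inv_mem hz)]; group
    rw [this]
    exact mul_mem h2E (inv_mem hzz)
  obtain ⟨k, -, rfl⟩ := S.mem_E.1 hzE
  exact ⟨k, rfl⟩

end CfsgLib.AEightThree
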