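import Cfsg.Agent.Lib.AEightThree.Complement
import Cfsg.Agent.Lib.AEightThree.Decides2
import Cfsg.Agent.Lib.Coprime.Action2

/-!
The involution outside the normalizer of a subgroup of order three.
-/

set_option autoImplicit false
set_option linter.style.haveILetI false
set_option linter.unusedSectionVars false
set_option maxRecDepth 100000

namespace CfsgLib.AEightThree

open Subgroup

universe u

variable {G : Type u} [Group G] (S : Setup G)

namespace Setup

/-- Conjugation by `g`. -/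
theorem g_inv_conj {a b : G} (h : S.g * a * S.g⁻¹ = b) : S.g⁻¹ * b * S.g = a := by
  rw [← h]; group

theorem card_cent_conj (n x : G) :
    Nat.card (centralizer ({n * x * n⁻¹} : Set G)) = Nat.card (centralizer ({x} : Set G)) := by
  refine (Nat.card_congr ((MulAut.conj n).toEquiv.subtypeEquiv fun w => ?_)).symm
  show w ∈ centralizer ({x} : Set G) ↔ n * w * n⁻¹ ∈ centralizer ({n * x * n⁻¹} : Set G)
  rw [mem_centralizer_singleton_iff, mem_centralizer_singleton_iff, conj_mul, conj_mul,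
    mul_left_inj, mul_right_inj]

theorem card_y' : Nat.card (centralizer ({S.ψ (zK * dK⁻¹)} : Set G)) = 18 := by
  rw [← card_cent_conj (S.ψ tK), S.map_conj norm_facts.2.2.2.1, map_mul]
  exact S.card_y

variable [Finite G]

/-- An element of `W` centralising a diagonal element is trivial. -/
theorem diag_trivial {W : Subgroup G} (hW3 : ¬ 3 ∣ Nat.card W)
    (hWC : W ≤ centralizer (S.V : Set G))
    (hz : ∀ x ∈ W, S.ψ zK * x * (S.ψ zK)⁻¹ ∈ W) {kc : KK}
    (hkc : Nat.card (centralizer ({S.ψ kc} : Set G)) = 18) (hzc : zK * kc = kc * zK)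
    (hgen : ∀ k : KK, k * zK = zK * k → k * kc = kc * k → k * dK = dK * k)
    {x : G} (hx : x ∈ W) (hxy : x * S.ψ kc = S.ψ kc * x) : x = 1 := by
  set c := S.ψ kc with hc
  set U := W ⊓ centralizer ({c} : Set G) with hU
  have hxU : x ∈ U := ⟨hx, mem_centralizer_singleton_iff.2 hxy⟩
  have hcard : Nat.card U ∣ 18 := hkc ▸ card_dvd_of_le inf_le_right
  have hne : ¬ 3 ∣ Nat.card U := fun h => hW3 (h.trans (card_dvd_of_le inf_le_left))
  have h2 : Nat.card U ≤ 2 := by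
    have hle := Nat.le_of_dvd (by norm_num) hcard
    interval_cases h : Nat.card U <;> omega
  have e : S.ψ zK * c * (S.ψ zK)⁻¹ = c := by rw [hc, S.map_comm hzc]; group
  have hconj : S.ψ zK * x * (S.ψ zK)⁻¹ ∈ U := ⟨hz x hx, mem_centralizer_singleton_iff.2 (by
    calc S.ψ zK * x * (S.ψ zK)⁻¹ * c
        = S.ψ zK * x * (S.ψ zK)⁻¹ * (S.ψ zK * c * (S.ψ zK)⁻¹) := by rw [e]
      _ = S.ψ zK * (x * c) * (S.ψ zK)⁻¹ := by group
      _ = S.ψ zK * (c * x) * (S.ψ zK)⁻¹ := by rw [hxy]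
      _ = S.ψ zK * c * (S.ψ zK)⁻¹ * (S.ψ zK * x * (S.ψ zK)⁻¹) := by group
      _ = c * (S.ψ zK * x * (S.ψ zK)⁻¹) := by rw [e])⟩
  by_contra hx1
  have hU2 : Nat.card U = 2 := le_antisymm h2 ((one_lt_card_iff_ne_bot U).2 fun hb =>
    hx1 (mem_bot.1 (hb ▸ hxU)))
  obtain ⟨w, -, hw⟩ := (Nat.card_eq_two_iff' (1 : U)).1 hU2
  have e1 := hw ⟨x, hxU⟩ (fun h => hx1 (congrArg Subtype.val h))
  have e2 := hw ⟨_, hconj⟩ (fun h => hx1 (conj_eq_one_iff.1 (congrArg Subtype.val h)))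
  have hxz : S.ψ zK * x = x * S.ψ zK :=
    mul_inv_eq_iff_eq_mul.1 (congrArg Subtype.val (e2.trans e1.symm))
  obtain ⟨k, hk⟩ := S.cent_z_le (mem_centralizer_singleton_iff.2 hxz.symm)
  have hV := S.mem_centV_iff.1 (hWC hx)
  rw [← hk] at hV hxy hxz
  have hkz := S.comm_of_map hxz.symm
  have hk2 : k * k = 1 := S.inj (by
    rw [map_mul, hk, map_one]
    have h : (⟨x, hxU⟩ : U) ^ 2 = 1 := hU2 ▸ pow_card_eq_one'
    simpa [pow_two] using congrArg Subtype.val h)
  exact hx1 (by rw [← hk, cent_D_V k (S.comm_of_map hV.1) (S.comm_of_map hV.2) hkz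
    (hgen k hkz (S.comm_of_map hxy)) hk2, map_one])

theorem exists_mem_U (hbig : ¬ centralizer (S.V : Set G) ≤ S.ψ.range) :
    ∃ U : Subgroup G, U ≠ ⊥ ∧ ¬ 3 ∣ Nat.card U ∧ U ≤ centralizer (S.V : Set G) ∧
      U ≤ centralizer ({S.ψ dK} : Set G) ∧
      (∀ x ∈ U, S.ψ zK * x * (S.ψ zK)⁻¹ ∈ U) := by
  classical
  haveI : Fact (Nat.Prime 3) := ⟨Nat.prime_three⟩
  obtain ⟨W, hWC, hW3, hsup, hWmem⟩ := S.exists_complement
  have hnorm : ∀ n : KK, n⁻¹ * aK * n ∈ closure ({aK, bK} : Set KK) →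
      n⁻¹ * bK * n ∈ closure ({aK, bK} : Set KK) →
      ∀ x ∈ W, S.ψ n * x * (S.ψ n)⁻¹ ∈ W := fun n ha hb x hx => by
    refine hWmem _ (S.conj_mem_centV ha hb (hWC hx)) ?_
    rw [conj_pow, show x ^ Nat.card W = 1 from congrArg Subtype.val
      (pow_card_eq_one' (x := (⟨x, hx⟩ : W))), mul_one, mul_inv_cancel]
  have ha : aK ∈ closure ({aK, bK} : Set KK) := subset_closure (Or.inl rfl)
  have hb : bK ∈ closure ({aK, bK} : Set KK) := subset_closure (Or.inr rfl)
  have hz := hnorm zK (norm_facts.1.1.symm ▸ ha) (norm_facts.1.2.symm ▸ hb)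
  have hd := hnorm dK (norm_facts.2.1.1.symm ▸ hb) (norm_facts.2.1.2.symm ▸ mul_mem ha hb)
  set U := W ⊓ centralizer ({S.ψ dK} : Set G) with hUdef
  refine ⟨U, ?_, fun h => hW3 (h.trans (card_dvd_of_le inf_le_left)), inf_le_left.trans hWC,
    inf_le_right, fun x hx => ⟨hz x hx.1, mem_centralizer_singleton_iff.2 ?_⟩⟩
  · intro hU
    refine hbig ?_
    set AK : Subgroup KK := centralizer ({zK, dK} : Set KK) with hAK
    have hAcases : ∀ k ∈ AK, k * zK = zK * k ∧ k * dK = dK * k := fun k hk =>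
      ⟨(mem_centralizer_iff.1 hk zK (Or.inl rfl)).symm,
        (mem_centralizer_iff.1 hk dK (Or.inr rfl)).symm⟩
    set A := AK.map S.ψ with hA
    have hAcomm : ∀ k ∈ AK, ∀ l ∈ AK, k * l = l * k := by
      intro k hk l hl
      have hl' := hAcases l hl
      have hz' : Commute l zK := hl'.1
      have hd' : Commute l dK := hl'.2
      rcases torus_cases k (hAcases k hk).1 (hAcases k hk).2 with
        rfl | rfl | rfl | rfl | rfl | rfl | rfl | rfl | rfl
      all_goals first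
        | exact (one_mul l).trans (mul_one l).symm
        | exact hz'.eq.symm
        | exact hz'.inv_right.eq.symm
        | exact hd'.eq.symm
        | exact hd'.inv_right.eq.symm
        | exact (hz'.mul_right hd').eq.symm
        | exact (hz'.mul_right hd').inv_right.eq.symm
        | exact (hz'.mul_right hd'.inv_right).eq.symm
        | exact (hz'.mul_right hd'.inv_right).inv_right.eq.symm
    haveI : IsMulCommutative A := ⟨⟨by
      rintro ⟨_, k, hk, rfl⟩ ⟨_, l, hl, rfl⟩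
      exact Subtype.ext (S.map_comm (hAcomm k hk l hl))⟩⟩
    have hexp : ∀ a : A, a ^ 3 = 1 := by
      rintro ⟨_, k, hk, rfl⟩
      refine Subtype.ext ?_
      show S.ψ k ^ 3 = 1
      rw [← map_pow, torus_cube k (hAcases k hk).1 (hAcases k hk).2, map_one]
    have hnc : ¬ IsCyclic A := by
      intro hcyc
      haveI := hcyc
      have h1 : Nat.card A ∣ 3 := IsCyclic.exponent_eq_card (α := A) ▸
        Monoid.exponent_dvd_of_forall_pow_eq_one hexp
      have h2 : Nat.card A = Nat.card AK := card_map_of_injective S.inj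
      have h3 : 4 ≤ Nat.card AK := by
        refine le_of_eq_of_le (Nat.card_fin 4).symm (Nat.card_le_card_of_injective
          (fun i => (⟨![1, zK, zK⁻¹, dK] i, ?_⟩ : AK))
          (fun i j h => four_inj (congrArg Subtype.val h)))
        rw [mem_centralizer_iff]
        rintro w (rfl | rfl)
        exacts [(four_comm i).1, (four_comm i).2]
      have := Nat.le_of_dvd (by norm_num) h1
      omega
    have hAn : A ≤ normalizer (W : Set G) := by
      rintro _ ⟨k, hk, rfl⟩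
      have hn : ∀ n : KK, (∀ x ∈ W, S.ψ n * x * (S.ψ n)⁻¹ ∈ W) →
          S.ψ n ∈ normalizer (W : Set G) := fun n h => by
        refine mem_normalizer_iff_map_conj_eq.2 (eq_of_le_of_card_ge ?_ ?_)
        · rintro _ ⟨x, hx, rfl⟩
          exact h x hx
        · exact le_of_eq (card_map_of_injective (MulAut.conj (S.ψ n)).injective).symm
      have hzn := hn zK hz
      have hdn := hn dK hd
      rcases torus_cases k (hAcases k hk).1 (hAcases k hk).2 with
        rfl | rfl | rfl | rfl | rfl | rfl | rfl | rfl | rfl <;>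
        (try simp only [map_mul, map_inv, map_one])
      exacts [one_mem _, hzn, inv_mem hzn, hdn, inv_mem hdn, mul_mem hzn hdn,
        inv_mem (mul_mem hzn hdn), mul_mem hzn (inv_mem hdn), inv_mem (mul_mem hzn (inv_mem hdn))]
    have hcop : (Nat.card A).Coprime (Nat.card W) := by
      obtain ⟨n, hn⟩ := IsPGroup.iff_card.1
        (show IsPGroup 3 A from fun a => ⟨1, by rw [pow_one]; exact hexp a⟩)
      rw [hn]
      exact Nat.Coprime.pow_left n ((Nat.Prime.coprime_iff_not_dvd Nat.prime_three).2 hW3)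
    have hWz : W ≤ centralizer ({S.ψ zK} : Set G) := by
      refine (CfsgLib.Coprime.le_of_centralizer_le_of_not_isCyclic (A := A) (K := W)
        (R := W ⊓ centralizer ({S.ψ zK} : Set G)) hnc hAn hcop ?_).trans inf_le_right
      rintro _ ⟨k, hk, rfl⟩ ha1 x ⟨hxW, hxa⟩
      have hx : Commute x (S.ψ k) := mem_centralizer_singleton_iff.1 hxa
      refine ⟨hxW, mem_centralizer_singleton_iff.2 ?_⟩
      have hd0 : Commute x (S.ψ dK) → x * S.ψ zK = S.ψ zK * x := fun h => by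
        have h1 : x = 1 := mem_bot.1 (hU ▸ ⟨hxW, mem_centralizer_singleton_iff.2 h⟩)
        simp [h1]
      have hd1 : Commute x (S.ψ (zK * dK)) → x * S.ψ zK = S.ψ zK * x := fun h => by
        simp [S.diag_trivial hW3 hWC hz (by rw [map_mul]; exact S.card_y) torus_facts.1 gen_diag
          hxW h]
      have hd2 : Commute x (S.ψ (zK * dK⁻¹)) → x * S.ψ zK = S.ψ zK * x := fun h => by
        simp [S.diag_trivial hW3 hWC hz S.card_y' torus_facts.2.1 gen_diag' hxW h]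
      rcases torus_cases k (hAcases k hk).1 (hAcases k hk).2 with
        rfl | rfl | rfl | rfl | rfl | rfl | rfl | rfl | rfl <;> (try simp only [map_inv] at hx)
      · exact absurd (map_one S.ψ) ha1
      · exact hx
      · exact (inv_inv (S.ψ zK) ▸ hx.inv_right : Commute x (S.ψ zK))
      · exact hd0 hx
      · exact hd0 (inv_inv (S.ψ dK) ▸ hx.inv_right)
      · exact hd1 hx
      · exact hd1 (inv_inv (S.ψ (zK * dK)) ▸ hx.inv_right)
      · exact hd2 hx
      · exact hd2 (inv_inv (S.ψ (zK * dK⁻¹)) ▸ hx.inv_right)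
    rw [hsup]
    exact sup_le (hWz.trans S.cent_z_le) (zpowers_le.2 ⟨zK, rfl⟩)
  · have h : x * S.ψ dK = S.ψ dK * x := mem_centralizer_singleton_iff.1 hx.2
    have hc : Commute (S.ψ zK) (S.ψ dK) := S.map_comm torus_facts.2.2
    exact ((hc.mul_left h).mul_left hc.inv_left).eq

/-- The involution. -/
theorem exists_involution (hbig : ¬ centralizer (S.V : Set G) ≤ S.ψ.range) :
    ∃ v : G, v ≠ 1 ∧ v * v = 1 ∧ v * S.ψ aK = S.ψ aK * v ∧ v * S.ψ bK = S.ψ bK * v ∧
      v * S.ψ dK = S.ψ dK * v ∧ v * S.ψ rK = S.ψ rK * v ∧ (S.ψ zK * v) ^ 3 = 1 ∧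
      (v * S.ψ eK) ^ 3 = 1 := by
  obtain ⟨U, hUne, hU3, hUV, hUd, hUz⟩ := S.exists_mem_U hbig
  obtain ⟨⟨x, hxU⟩, hx1⟩ := Subgroup.ne_bot_iff_exists_ne_one.1 hUne
  have hx1' : x ≠ 1 := fun h => hx1 (Subtype.ext h)
  -- pull back to the centralizer of `z`
  have hz : S.g⁻¹ * S.ψ zK * S.g = S.ψ dK := S.g_inv_conj S.g_d
  have hr : S.g⁻¹ * S.ψ rK * S.g = S.ψ rK := S.g_inv_conj S.g_r
  have pull : ∀ w ∈ U, ∃ k : KK, S.ψ k = S.g⁻¹ * w * S.g ∧ k * zK = zK * k ∧
      k ^ 20 = 1 ∧ S.g⁻¹ * (S.ψ zK * w * (S.ψ zK)⁻¹) * S.g = S.ψ (dK * k * dK⁻¹) := by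
    intro w hw
    obtain ⟨k, hk, hkz⟩ := S.pull_d (mem_centralizer_singleton_iff.1 (hUd hw))
    refine ⟨k, hk, hkz, ?_, ?_⟩
    · have hm : k ^ Nat.card U = 1 := S.inj (by
        rw [map_pow, hk, map_one, show S.g⁻¹ * w * S.g = S.g⁻¹ * w * S.g⁻¹⁻¹ by rw [inv_inv],
          conj_pow, show w ^ Nat.card U = 1 from congrArg Subtype.val
            (pow_card_eq_one' (x := (⟨w, hw⟩ : U))), mul_one, mul_inv_cancel])
      have hg : k ^ Nat.gcd (Nat.card U) 30 = 1 := pow_gcd_eq_one.2 ⟨hm, pow_thirty k hkz⟩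
      refine orderOf_dvd_iff_pow_eq_one.1 ((orderOf_dvd_iff_pow_eq_one.2 hg).trans ?_)
      have hco : (Nat.gcd (Nat.card U) 30).Coprime 3 :=
        Nat.Coprime.coprime_dvd_left (Nat.gcd_dvd_left _ _)
          ((Nat.Prime.coprime_iff_not_dvd Nat.prime_three).2 hU3).symm
      exact (hco.dvd_of_dvd_mul_right (m := 10) (Nat.gcd_dvd_right _ _)).trans (by norm_num)
    · rw [map_mul, map_mul, map_inv, hk, ← hz]; group
  obtain ⟨k, hk, hkz, hk20, hk'⟩ := pull x hxU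
  have hk1 : k ≠ 1 := fun h => hx1' (conj_eq_one_iff.1
    (show S.g⁻¹ * x * S.g⁻¹⁻¹ = 1 by rw [inv_inv, ← hk, h, map_one]))
  have back : ∀ l : KK, ∀ w : G, S.ψ l = S.g⁻¹ * w * S.g → w = S.g * S.ψ l * S.g⁻¹ := by
    intro l w h; rw [h]; group
  set x1 := S.ψ zK * x * (S.ψ zK)⁻¹ with hx1def
  set x2 := S.ψ zK * x1 * (S.ψ zK)⁻¹ with hx2def
  obtain ⟨k1, hk1', -, -, hk1''⟩ := pull x1 (hUz x hxU)
  have e1 : k1 = dK * k * dK⁻¹ := S.inj (hk1'.trans hk')
  have w1 : ∀ w : G, w ∈ U → ∀ l : KK, S.ψ l = S.g⁻¹ * w * S.g → l ^ 20 = 1 := by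
    intro w hw l hl
    obtain ⟨l', hl', -, h20, -⟩ := pull w hw
    rw [S.inj (hl.trans hl'.symm)]
    exact h20
  have hfour : IsFour k := by
    refine isFour_of_orders k hkz hk20 hk1
      (w1 (x * x1 * x * x1⁻¹) (mul_mem (mul_mem (mul_mem hxU (hUz x hxU)) hxU)
        (inv_mem (hUz x hxU))) _ ?_)
      (w1 (x * x1 * x * x2) (mul_mem (mul_mem (mul_mem hxU (hUz x hxU)) hxU)
        (hUz _ (hUz x hxU))) _ ?_)
    · rw [map_mul, map_mul, map_mul, map_inv, ← e1, hk, hk1']; group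
    · rw [map_mul, map_mul, map_mul, ← e1, ← hk1'', hk, hk1', hx2def]; group
  -- the fixed element
  obtain ⟨l, v, hvU, hl, hlf, hl1, hlr⟩ : ∃ (l : KK) (v : G), v ∈ U ∧ S.ψ l = S.g⁻¹ * v * S.g ∧
      IsFour l ∧ l ≠ 1 ∧ l * rK = rK * l := by
    have hne : ∀ l : KK, l ≠ 1 → dK * l * dK⁻¹ ≠ 1 := fun l hl h => hl (conj_eq_one_iff.1 h)
    rcases exists_fixed k hfour hk1 with h | h | h
    · exact ⟨k, x, hxU, hk, hfour, hk1, h⟩
    · exact ⟨_, x1, hUz x hxU, hk'.symm, isFour_conj k hfour, hne k hk1, h⟩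
    · refine ⟨_, x2, hUz _ (hUz x hxU), ?_, isFour_conj _ (isFour_conj k hfour),
        hne _ (hne k hk1), h⟩
      rw [← e1]; exact hk1''.symm
  obtain ⟨hll, hl3, hlf3⟩ := fixed_rels l hlf hl1 hlr
  have hv := back l v hl
  have hvV := S.mem_centV_iff.1 (hUV hvU)
  -- the image of `eK`
  obtain ⟨f, hf, hfz⟩ := S.pull_d (S.map_comm eK_facts.1)
  have hff : f = fK := by
    refine eq_fK f hfz (S.comm_of_map ?_) (S.inj ?_) (S.inj ?_)
    · rw [hf]
      calc S.g⁻¹ * S.ψ eK * S.g * S.ψ rK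
          = S.g⁻¹ * S.ψ eK * S.g * (S.g⁻¹ * S.ψ rK * S.g) := by rw [hr]
        _ = S.g⁻¹ * (S.ψ eK * S.ψ rK) * S.g := by group
        _ = S.g⁻¹ * (S.ψ rK * S.ψ eK) * S.g := by rw [S.map_comm eK_facts.2.1]
        _ = S.g⁻¹ * S.ψ rK * S.g * (S.g⁻¹ * S.ψ eK * S.g) := by group
        _ = S.ψ rK * (S.g⁻¹ * S.ψ eK * S.g) := by rw [hr]
    · rw [map_mul, hf, map_one]
      calc S.g⁻¹ * S.ψ eK * S.g * (S.g⁻¹ * S.ψ eK * S.g)
          = S.g⁻¹ * (S.ψ eK * S.ψ eK) * S.g := by group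
        _ = 1 := by rw [← map_mul, eK_facts.2.2.1, map_one]; group
    · rw [map_mul, map_mul, map_inv, hf, map_inv]
      calc S.g⁻¹ * S.ψ eK * S.g * S.ψ dK * (S.g⁻¹ * S.ψ eK * S.g)⁻¹
          = S.g⁻¹ * S.ψ eK * S.g * (S.g⁻¹ * S.ψ zK * S.g) * (S.g⁻¹ * S.ψ eK * S.g)⁻¹ := by rw [hz]
        _ = S.g⁻¹ * (S.ψ eK * S.ψ zK * (S.ψ eK)⁻¹) * S.g := by group
        _ = S.g⁻¹ * (S.ψ zK)⁻¹ * S.g := by rw [S.map_conj eK_facts.2.2.2, map_inv]
        _ = (S.ψ dK)⁻¹ := by rw [← hz]; group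
  have hfe : S.ψ eK = S.g * S.ψ fK * S.g⁻¹ := hff ▸ back f _ hf
  refine ⟨v, fun h => hl1 (S.inj (by rw [hl, h, map_one]; group)), ?_, hvV.1, hvV.2,
    mem_centralizer_singleton_iff.1 (hUd hvU), ?_, ?_, ?_⟩
  · rw [hv, conj_mul, ← map_mul, hll, map_one]; group
  · rw [hv, ← S.g_r, conj_mul, conj_mul, S.map_comm hlr]
  · rw [hv, ← S.g_d, conj_mul, conj_pow, ← map_mul, ← map_pow, hl3, map_one]; group
  · rw [hv, hfe, conj_mul, conj_pow, ← map_mul, ← map_pow, hlf3, map_one]; group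

end Setup

end CfsgLib.AEightThree
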