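import Cfsg.Agent.Lib.AEightThree.RecogniseModel
import Cfsg.Agent.Lib.AEightThree.Fusion
import Cfsg.Agent.Lib.CharsMore.SCOrder3.Main
import Cfsg.Agent.Lib.CNGroups.Basic
import Cfsg.Agent.Lib.ThreeTransp.LargeQuotient
import Cfsg.Agent.Lib.Fusion.MaxClassGroups
import Cfsg.Agent.Lib.KnownA.MathieuOut.Main
import Cfsg.Agent.S3344

/-!
Recognition of the alternating group of degree eight from the embedded subgroup: the centralizer of
an involution without fixed points is an extraspecial group of order `32` extended by `Sym 3`.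
-/

set_option autoImplicit false
set_option maxRecDepth 100000
set_option linter.style.haveILetI false
set_option maxHeartbeats 2000000

namespace CfsgLib.AEightThree

open Cfsg

universe u

theorem perm_three_facts : ∀ σ τ : Equiv.Perm (Fin 3), τ * τ * τ = 1 → τ ≠ 1 →
    (σ * σ = 1 → σ * (τ * σ * τ⁻¹) = τ * σ * τ⁻¹ * σ → σ = 1) ∧
      ((σ * τ * σ⁻¹ * τ⁻¹) ^ 3 = 1 ∧ (σ * τ * σ⁻¹ * τ⁻¹ = 1 → σ * σ * σ = 1)) := by
  decide +kernel

/-- The outcomes for a group with an embedded alternating group of degree eight in which the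
centralizer of the elementary group of order eight and that of `⟨yp8, u8⟩` stay inside. -/
theorem centralizer_cases {G : Type u} [Group G] [Finite G] (ι : alternatingGroup (Fin 8) →* G)
    (hinj : Function.Injective ι)
    (hyrange : ∀ g : G, g * ι yp8 = ι yp8 * g → g * ι u8 = ι u8 * g → g ∈ ι.range)
    (h128 : ¬ 128 ∣ Nat.card G)
    (hE : Subgroup.centralizer ({ι t8, ι v8, ι e8} : Set G) ≤ ι.range) :
    (∃ (N : Subgroup G) (_ : N.Normal), IsMulCommutative N ∧ (∀ n ∈ N, n ^ 2 = 1) ∧
        Nat.card N = 8 ∧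
        Nonempty (G ⧸ N ≃* Matrix.ProjectiveSpecialLinearGroup (Fin 3) (ZMod 2))) ∨
      Nonempty (G ≃* alternatingGroup (Fin 8)) ∨ Nonempty (G ≃* alternatingGroup (Fin 9)) ∨
        Cfsg.Spor.IsoM12 G := by
  classical
  haveI : Fact (Nat.Prime 2) := ⟨Nat.prime_two⟩
  haveI : Fact (Nat.Prime 3) := ⟨Nat.prime_three⟩
  haveI : Fact (Nat.Prime 5) := ⟨Nat.prime_five⟩
  obtain ⟨hy3, hy1, hgy, hyu, hwu, hwy⟩ := y_facts
  obtain ⟨huu, hu1, hhu, hau, hea⟩ := u_facts
  set s := ι u8 with hsdef
  have hs1 : s ≠ 1 := fun h => hu1 (hinj (by rw [map_one]; exact h))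
  have hss : s * s = 1 := by rw [hsdef, ← map_mul, huu, map_one]
  have hos : orderOf s = 2 := orderOf_eq_prime (by rw [pow_two, hss]) hs1
  set L := Subgroup.centralizer ({s} : Set G) with hL
  have inL : ∀ g : alternatingGroup (Fin 8), g * u8 = u8 * g → ι g ∈ L := fun g hg => by
    rw [hL, Subgroup.mem_centralizer_singleton_iff, hsdef, ← map_mul, ← map_mul, hg]
  have hLs : ∀ g : L, (g : G) * s = s * (g : G) := fun g =>
    Subgroup.mem_centralizer_singleton_iff.1 g.2
  set sL : L := ⟨s, Subgroup.mem_centralizer_singleton_iff.2 rfl⟩ with hsL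
  set yL : L := ⟨ι yp8, inL _ hyu⟩ with hyL
  set K := Subgroup.zpowers sL with hK
  have hcen : ∀ g : L, g * sL = sL * g := fun g => Subtype.ext (hLs g)
  haveI hKn : K.Normal := by
    refine ⟨fun n hn g => ?_⟩
    obtain ⟨i, rfl⟩ := Subgroup.mem_zpowers_iff.1 hn
    rw [Commute.zpow_right (hcen g) i, mul_inv_cancel_right]
    exact hn
  have hKcard : Nat.card K = 2 := by
    rw [hK, Nat.card_zpowers, ← Subgroup.orderOf_coe]; exact hos
  have hKmem : ∀ m ∈ K, (m : G) = 1 ∨ (m : G) = s := by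
    intro m hm
    obtain ⟨i, rfl⟩ := Subgroup.mem_zpowers_iff.1 hm
    rcases Int.even_or_odd i with ⟨j, rfl⟩ | ⟨j, rfl⟩
    · left
      rw [← two_mul, zpow_mul, zpow_two, show sL * sL = 1 from Subtype.ext hss, one_zpow]; rfl
    · right
      rw [zpow_add, zpow_mul, zpow_two, show sL * sL = 1 from Subtype.ext hss, one_zpow, zpow_one,
        one_mul]
  set π0 := QuotientGroup.mk' K with hπ0
  set xb := π0 yL with hxb
  have hy3L : yL * yL * yL = 1 := Subtype.ext (by
    show ι yp8 * ι yp8 * ι yp8 = 1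
    rw [← map_mul, ← map_mul, hy3, map_one])
  have hyL1 : yL ≠ 1 := fun h => hy1 (hinj (by rw [map_one]; exact congrArg Subtype.val h))
  have hmemK : ∀ m : L, π0 m = 1 ↔ m ∈ K := fun m => QuotientGroup.eq_one_iff m
  have hxord : orderOf xb = 3 := by
    refine orderOf_eq_prime (by rw [hxb, ← map_pow, pow_succ, pow_two, hy3L, map_one]) fun h => ?_
    rcases hKmem _ ((hmemK _).1 h) with e | e
    · exact hyL1 (Subtype.ext e)
    · have h1 : ι yp8 * ι yp8 * ι yp8 = 1 := by rw [← map_mul, ← map_mul, hy3, map_one]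
      rw [show ι yp8 = s from e, hss, one_mul] at h1
      exact hs1 h1
  -- the element of order three is self-centralizing modulo the involution
  have hSC : CfsgLib.CharsMore.SCOrder3.SC xb := by
    refine ⟨hxord, fun gb hgb => ?_⟩
    obtain ⟨g, rfl⟩ := QuotientGroup.mk'_surjective K gb
    have hm : π0 (g * yL * g⁻¹ * yL⁻¹) = 1 := by
      rw [map_mul, map_mul, map_mul, map_inv, map_inv, ← hxb, hgb.eq, mul_inv_cancel_right,
        mul_inv_cancel]
    rcases hKmem _ ((hmemK _).1 hm) with e | e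
    · have e' : (g : G) * ι yp8 * (g : G)⁻¹ * (ι yp8)⁻¹ = 1 := e
      have hc : (g : G) * ι yp8 = ι yp8 * (g : G) :=
        mul_inv_eq_iff_eq_mul.1 (mul_inv_eq_one.1 e')
      obtain ⟨σ, hσ⟩ := hyrange _ hc (hLs g)
      have h1 : σ * yp8 = yp8 * σ := hinj (by rw [map_mul, map_mul, hσ]; exact hc)
      have h2 : σ * u8 = u8 * σ := hinj (by rw [map_mul, map_mul, hσ]; exact hLs g)
      have hmem := cent_y_model h1 h2
      have hsK : π0 sL = 1 := (hmemK _).2 (Subgroup.mem_zpowers _)
      simp only [sixList, List.mem_cons, List.not_mem_nil, or_false] at hmem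
      rcases hmem with rfl | rfl | rfl | rfl | rfl | rfl
      · left; rw [show g = 1 from Subtype.ext (by rw [← hσ, map_one]; rfl), map_one]
      · right; left; rw [show g = yL from Subtype.ext hσ.symm]
      · right; right
        rw [show g = yL * yL from Subtype.ext (by rw [← hσ, map_mul]; rfl), map_mul, pow_two]
      · left; rw [show g = sL from Subtype.ext hσ.symm, hsK]
      · right; left
        rw [show g = yL * sL from Subtype.ext (by rw [← hσ, map_mul]; rfl), map_mul, hsK, mul_one]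
      · right; right
        rw [show g = yL * yL * sL from Subtype.ext (by rw [← hσ, map_mul, map_mul]; rfl), map_mul,
          map_mul, hsK, mul_one, pow_two]
    · exfalso
      have e' : (g : G) * ι yp8 * (g : G)⁻¹ * (ι yp8)⁻¹ = s := e
      have h3 : ((g : G) * ι yp8 * (g : G)⁻¹) ^ 3 = 1 := by
        rw [conj_pow, ← map_pow, pow_succ, pow_two, hy3, map_one]; group
      have hys : (ι yp8) ^ 3 = 1 := by rw [← map_pow, pow_succ, pow_two, hy3, map_one]
      have hs3 : s ^ 3 = s := by rw [pow_succ, pow_two, hss, one_mul]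
      rw [mul_inv_eq_iff_eq_mul.1 e', (show Commute s (ι yp8) from (hLs yL).symm).mul_pow,
        hys, mul_one, hs3] at h3
      exact hs1 h3
  -- the two-group of order 32
  have hWL : W32.map ι ≤ L := by
    rw [Subgroup.map_le_iff_le_comap]
    exact W32_le fun g hg => inL g (five_facts g hg).2.1
  have hWcard : Nat.card ((W32.map ι).subgroupOf L) = 32 := by
    rw [Nat.card_congr (Subgroup.subgroupOfEquivOfLe hWL).toEquiv,
      Subgroup.card_map_of_injective hinj, card_W32]
  have h32L : 32 ∣ Nat.card L := hWcard ▸ Subgroup.card_subgroup_dvd_card _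
  have hLdvd : Nat.card L ∣ Nat.card G := Subgroup.card_subgroup_dvd_card _
  have hLq : Nat.card L = Nat.card (L ⧸ K) * 2 := by
    rw [Subgroup.card_eq_card_quotient_mul_card_subgroup K, hKcard]
  rcases hSC.classification with ⟨N, hNn, hnil, hcop, hq⟩ | ⟨N, hNn, hNc, hN2, ⟨e⟩⟩ | ⟨⟨e⟩⟩
  rotate_left
  · -- extension of the alternating group of degree five
    exfalso
    haveI := hNn
    have hNp : IsPGroup 2 N := fun a => ⟨1, Subtype.ext (hN2 a a.2)⟩
    obtain ⟨n, hn⟩ := IsPGroup.iff_card.1 hNp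
    have hqc : Nat.card (L ⧸ K) = 60 * 2 ^ n := by
      rw [Subgroup.card_eq_card_quotient_mul_card_subgroup N, hn, Nat.card_congr e.toEquiv,
        nat_card_alternatingGroup, Nat.card_fin]
      rfl
    have hn3 : n ≤ 3 := by
      by_contra hc
      refine h128 (dvd_trans ?_ hLdvd)
      rw [hLq, hqc]
      obtain ⟨m, rfl⟩ := Nat.exists_eq_add_of_le (show 4 ≤ n by omega)
      exact ⟨15 * 2 ^ m, by rw [pow_add]; ring⟩
    obtain ⟨g, hg⟩ := exists_prime_orderOf_dvd_card' 5
      (show 5 ∣ Nat.card (L ⧸ K) from ⟨12 * 2 ^ n, by rw [hqc]; ring⟩)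
    have hgN : g ∉ N := fun hgN => by
      have h := Subgroup.orderOf_dvd_natCard N hgN
      rw [hg, hn] at h
      exact absurd (Nat.prime_five.dvd_of_dvd_pow h) (by norm_num)
    -- the element of order five centralises the normal subgroup
    letI : MulAction (Subgroup.zpowers g) N :=
      MulAction.compHom N ((MulAut.conjNormal (H := N)).comp (Subgroup.zpowers g).subtype)
    have hP : IsPGroup 5 (Subgroup.zpowers g) :=
      IsPGroup.of_card (n := 1) (by rw [Nat.card_zpowers, hg, pow_one])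
    have hfix : (MulAction.fixedPoints (Subgroup.zpowers g) N : Set N) =
        ((Subgroup.centralizer ({g} : Set (L ⧸ K))).subgroupOf N : Set N) := by
      ext a
      rw [SetLike.mem_coe, Subgroup.mem_subgroupOf, Subgroup.mem_centralizer_singleton_iff,
        MulAction.mem_fixedPoints]
      constructor
      · intro h
        have := congrArg Subtype.val (h ⟨g, Subgroup.mem_zpowers g⟩)
        change g * (a : L ⧸ K) * g⁻¹ = a at this
        exact (mul_inv_eq_iff_eq_mul.1 this).symm
      · rintro h ⟨k, hk⟩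
        obtain ⟨i, rfl⟩ := Subgroup.mem_zpowers_iff.1 hk
        refine Subtype.ext ?_
        show g ^ i * (a : L ⧸ K) * (g ^ i)⁻¹ = a
        rw [((show Commute g (a : L ⧸ K) from h.symm).zpow_left i).eq, mul_inv_cancel_right]
    have hmod := hP.card_modEq_card_fixedPoints (α := N)
    rw [Nat.card_congr (Equiv.setCongr hfix), hn] at hmod
    obtain ⟨m, hm, hmc⟩ := (Nat.dvd_prime_pow Nat.prime_two).1
      (hn ▸ Subgroup.card_subgroup_dvd_card ((Subgroup.centralizer ({g} : Set (L ⧸ K))).subgroupOf N))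
    have hmc' : Nat.card ((Subgroup.centralizer ({g} : Set (L ⧸ K))).subgroupOf N :
        Set N) = 2 ^ m := hmc
    rw [hmc'] at hmod
    have hmn : m = n := by
      interval_cases n <;> interval_cases m <;> first | rfl | exact absurd hmod (by decide)
    have htop : (Subgroup.centralizer ({g} : Set (L ⧸ K))).subgroupOf N = ⊤ :=
      Subgroup.eq_top_of_card_eq _ (by rw [hmc, hn, hmn])
    have hgc : g ∈ Subgroup.centralizer (N : Set (L ⧸ K)) := Subgroup.mem_centralizer_iff.2 fun a ha => by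
      have h := (Subgroup.subgroupOf_eq_top.1 htop) ha
      exact (Subgroup.mem_centralizer_singleton_iff.1 h)
    haveI : (Subgroup.centralizer (N : Set (L ⧸ K))).Normal := inferInstance
    haveI : IsSimpleGroup (alternatingGroup (Fin 5)) := alternatingGroup.isSimpleGroup (by simp)
    set θ := e.toMonoidHom.comp (QuotientGroup.mk' N) with hθ
    have hθs : Function.Surjective θ := e.surjective.comp (QuotientGroup.mk'_surjective N)
    have hmap : (Subgroup.centralizer (N : Set (L ⧸ K))).map θ = ⊤ := by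
      refine ((‹(Subgroup.centralizer (N : Set (L ⧸ K))).Normal›.map θ hθs).eq_bot_or_eq_top
        ).resolve_left fun hb => hgN ?_
      have h1 : θ g ∈ (⊥ : Subgroup (alternatingGroup (Fin 5))) := hb ▸ ⟨g, hgc, rfl⟩
      rw [Subgroup.mem_bot, hθ, MonoidHom.comp_apply] at h1
      exact (QuotientGroup.eq_one_iff g).1 (e.injective (h1.trans (map_one _).symm))
    obtain ⟨c, hc, hce⟩ : θ xb ∈ (Subgroup.centralizer (N : Set (L ⧸ K))).map θ :=
      hmap ▸ Subgroup.mem_top _
    have hcn : c⁻¹ * xb ∈ N := by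
      refine (QuotientGroup.eq_one_iff _).1 (e.injective ?_)
      show θ (c⁻¹ * xb) = e 1
      rw [map_mul, map_inv, hce, inv_mul_cancel, map_one]
    have hxc : xb ∈ Subgroup.centralizer (N : Set (L ⧸ K)) := by
      refine Subgroup.mem_centralizer_iff.2 fun a ha => ?_
      have h1 := Subgroup.mem_centralizer_iff.1 hc a ha
      have h2 : a * (c⁻¹ * xb) = c⁻¹ * xb * a :=
        congrArg Subtype.val (hNc.is_comm.comm ⟨a, ha⟩ ⟨_, hcn⟩)
      calc a * xb = (a * c) * (c⁻¹ * xb) := by group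
        _ = c * (a * (c⁻¹ * xb)) := by rw [h1]; group
        _ = _ := by rw [h2]; group
    have hn0 : n = 0 := by
      by_contra hne
      haveI : Nontrivial N := Finite.one_lt_card_iff_nontrivial.1 (by
        rw [hn]; exact Nat.one_lt_two_pow hne)
      obtain ⟨⟨a, ha⟩, hane⟩ := exists_ne (1 : N)
      have ha1 : a ≠ 1 := fun h => hane (Subtype.ext h)
      have h2 := hN2 a ha
      have hx3 : xb ^ 3 = 1 := hxord ▸ pow_orderOf_eq_one xb
      rcases hSC.cent a (Subgroup.mem_centralizer_iff.1 hxc a ha) with h | h | h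
      · exact ha1 h
      · exact absurd (hxord ▸ orderOf_dvd_of_pow_eq_one (h ▸ h2)) (by norm_num)
      · refine ha1 ?_
        rw [h] at h2 ⊢
        rw [← pow_mul, pow_succ] at h2
        rw [show (xb : L ⧸ K) = 1 by rwa [hx3, one_mul] at h2, one_pow]
    rw [hLq, hqc, hn0] at h32L
    exact absurd h32L (by norm_num)
  · -- the simple group of order 168
    exfalso
    haveI : Fact (Nat.Prime 7) := ⟨by norm_num⟩
    have h := CfsgLib.Fusion.card_PSL2_eq (F := ZMod 7) (by rw [Nat.card_zmod]; decide)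
    rw [Nat.card_zmod, ← Nat.card_congr e.toEquiv] at h
    norm_num at h
    rw [hLq] at h32L
    omega
  -- the main case
  haveI := hNn
  set ρ := (QuotientGroup.mk' N).comp π0 with hρ
  have hxN : xb ∉ N := fun h => by
    have := Subgroup.orderOf_dvd_natCard N h
    rw [hxord] at this
    exact (Nat.prime_three.coprime_iff_not_dvd.1 hcop.symm) this
  have hρy : ρ yL ≠ 1 := fun h => hxN ((QuotientGroup.eq_one_iff _).1 h)
  set wL : L := ⟨ι w8, inL _ hwu⟩ with hwL
  have hwyL : wL * yL * wL⁻¹ = yL⁻¹ := Subtype.ext (by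
    show ι w8 * ι yp8 * (ι w8)⁻¹ = (ι yp8)⁻¹
    rw [← map_inv, ← map_mul, ← map_mul, hwy, map_inv])
  rcases hq with hq | ⟨⟨e⟩⟩
  · exfalso
    haveI : IsCyclic ((L ⧸ K) ⧸ N) := isCyclic_of_prime_card hq
    have hcom : ∀ a b : (L ⧸ K) ⧸ N, a * b = b * a := fun a b => by
      obtain ⟨q, hq'⟩ := IsCyclic.exists_generator (α := (L ⧸ K) ⧸ N)
      obtain ⟨i, rfl⟩ := Subgroup.mem_zpowers_iff.1 (hq' a)
      obtain ⟨j, rfl⟩ := Subgroup.mem_zpowers_iff.1 (hq' b)
      rw [← zpow_add, ← zpow_add, add_comm]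
    have h := congrArg ρ hwyL
    rw [map_mul, map_mul, map_inv, map_inv, hcom (ρ wL), mul_inv_cancel_right] at h
    have h2 : ρ yL * ρ yL = 1 := eq_inv_iff_mul_eq_one.1 h
    refine hρy ?_
    have h3 : ρ yL * ρ yL * ρ yL = 1 := by rw [← map_mul, ← map_mul, hy3L, map_one]
    rwa [h2, one_mul] at h3
  set π := e.toMonoidHom.comp ρ with hπ
  have hπs : Function.Surjective π :=
    e.surjective.comp ((QuotientGroup.mk'_surjective N).comp (QuotientGroup.mk'_surjective K))
  have hπy : π yL ≠ 1 := fun h => hρy (e.injective (h.trans (map_one _).symm))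
  have hπy3 : π yL * π yL * π yL = 1 := by rw [← map_mul, ← map_mul, hy3L, map_one]
  set Q := π.ker with hQdef
  have hQmem : ∀ m : L, m ∈ Q ↔ π0 m ∈ N := fun m => by
    rw [hQdef, MonoidHom.mem_ker, hπ, MonoidHom.comp_apply]
    exact ⟨fun h => (QuotientGroup.eq_one_iff _).1 (e.injective (h.trans (map_one _).symm)),
      fun h => by
        show e ((π0 m : L ⧸ K) : (L ⧸ K) ⧸ N) = 1
        rw [(QuotientGroup.eq_one_iff _).2 h, map_one]⟩
  have hfive : ∀ g ∈ [t8, v8, e8, ap8, bp8], ∀ hg : g * u8 = u8 * g,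
      (⟨ι g, inL g hg⟩ : L) ∈ Q := by
    intro g hg hgu
    obtain ⟨g2, -, gc⟩ := five_facts g hg
    set gL : L := ⟨ι g, inL g hgu⟩ with hgL
    refine MonoidHom.mem_ker.2 ((perm_three_facts (π gL) (π yL) hπy3 hπy).1 ?_ ?_)
    · rw [← map_mul, show gL * gL = 1 from Subtype.ext (by
        show ι g * ι g = 1
        rw [← map_mul, g2, map_one]), map_one]
    · rw [← map_inv, ← map_mul, ← map_mul, ← map_mul, ← map_mul]
      refine congrArg π (Subtype.ext ?_)
      show ι g * (ι yp8 * ι g * (ι yp8)⁻¹) = ι yp8 * ι g * (ι yp8)⁻¹ * ι g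
      rw [← map_inv, ← map_mul, ← map_mul, ← map_mul, ← map_mul, gc]
  have hWQ : (W32.map ι).subgroupOf L ≤ Q := by
    intro m hm
    obtain ⟨g, hg, hgm⟩ := Subgroup.mem_map.1 (Subgroup.mem_subgroupOf.1 hm)
    have hle : W32 ≤ (Q.map L.subtype).comap ι :=
      W32_le fun a ha => ⟨_, hfive a ha (five_facts a ha).2.1, rfl⟩
    obtain ⟨m', hm', e'⟩ := hle hg
    rwa [← show m' = m from Subtype.ext (e'.trans hgm)]
  -- the odd part of the kernel is trivial
  have hQnil : Group.IsNilpotent Q := by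
    haveI : Group.IsNilpotent N := hnil
    refine Subgroup.isNilpotent_of_ker_le_center
      ((π0.comp Q.subtype).codRestrict N fun m => (hQmem _).1 m.2) ?_
    intro m hm
    have hmK : (m : L) ∈ K := (hmemK _).1 (congrArg Subtype.val (MonoidHom.mem_ker.1 hm))
    refine Subgroup.mem_center_iff.2 fun r => Subtype.ext (Subtype.ext ?_)
    show ((r : L) : G) * ((m : L) : G) = ((m : L) : G) * ((r : L) : G)
    rcases hKmem _ hmK with h | h
    · rw [h, mul_one, one_mul]
    · rw [h]; exact hLs r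
  have hQ2 : IsPGroup 2 Q := by
    obtain ⟨k, hk⟩ : ∃ k, Nat.card Q = 2 ^ k := by
      refine ⟨_, Nat.eq_prime_pow_of_unique_prime_dvd Nat.card_pos.ne' fun {p} hp hpd => ?_⟩
      by_contra hp2
      haveI : Fact p.Prime := ⟨hp⟩
      obtain ⟨o, ho⟩ := exists_prime_orderOf_dvd_card' (G := Q) p hpd
      have hcomm : ∀ g ∈ [t8, v8, e8], ((o : L) : G) * ι g = ι g * ((o : L) : G) := by
        intro g hg
        have hg5 : g ∈ [t8, v8, e8, ap8, bp8] := List.mem_append_left [ap8, bp8] hg
        obtain ⟨g2, gu, -⟩ := five_facts g hg5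
        have hmemQ := hfive g hg5 gu
        have hord : orderOf (⟨_, hmemQ⟩ : Q) ∣ 2 := orderOf_dvd_of_pow_eq_one
          (Subtype.ext (Subtype.ext (by
            show (ι g) ^ 2 = 1
            rw [← map_pow, pow_two, g2, map_one])))
        have h := CfsgLib.CNGroups.commute_of_coprime (G := L) hQnil o.2 hmemQ (by
          rw [Subgroup.orderOf_mk] at hord
          rw [Subgroup.orderOf_coe, ho]
          exact Nat.Coprime.of_dvd_right hord
            ((Nat.coprime_primes hp Nat.prime_two).2 hp2))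
        exact congrArg Subtype.val h.eq
      obtain ⟨σ, hσ⟩ := hE (Subgroup.mem_centralizer_iff.2 (by
        intro x hx
        simp only [Set.mem_insert_iff, Set.mem_singleton_iff] at hx
        rcases hx with rfl | rfl | rfl <;> exact (hcomm _ (by simp)).symm))
      have hc : ∀ g ∈ [t8, v8, e8], σ * g = g * σ := fun g hg =>
        hinj (by rw [map_mul, map_mul, hσ]; exact hcomm g hg)
      have h2 := (cent_model (hc _ (by simp)) (hc _ (by simp)) (hc _ (by simp))).1
      have : o ^ 2 = 1 := Subtype.ext (Subtype.ext (by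
        show ((o : L) : G) ^ 2 = 1
        rw [← hσ, ← map_pow, pow_two, h2, map_one]))
      have := orderOf_dvd_of_pow_eq_one this
      rw [ho] at this
      exact hp2 ((Nat.prime_dvd_prime_iff_eq hp Nat.prime_two).1 this)
    exact IsPGroup.of_card hk
  obtain ⟨k, hk⟩ := IsPGroup.iff_card.1 hQ2
  have hLcard : Nat.card L = 6 * 2 ^ k := by
    rw [Subgroup.card_eq_card_quotient_mul_card_subgroup Q, hk,
      Nat.card_congr (QuotientGroup.quotientKerEquivOfSurjective π hπs).toEquiv, Nat.card_perm,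
      Nat.card_fin]
    rfl
  have hQ32 : Nat.card Q = 32 := by
    have h1 := Subgroup.card_dvd_of_le hWQ
    rw [hWcard, hk, show (32 : ℕ) = 2 ^ 5 from rfl] at h1
    have h5 := (Nat.pow_dvd_pow_iff_le_right (show 1 < 2 by norm_num)).1 h1
    rcases Nat.lt_or_ge k 6 with hk6 | hk6
    · rw [hk, show k = 5 by omega]; rfl
    · exfalso
      refine h128 (dvd_trans ?_ hLdvd)
      rw [hLcard]
      obtain ⟨m, rfl⟩ := Nat.exists_eq_add_of_le hk6
      exact ⟨3 * 2 ^ m, by rw [pow_add]; ring⟩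
  have hQW : Q = (W32.map ι).subgroupOf L :=
    (Subgroup.eq_of_le_of_card_ge hWQ (by rw [hQ32, hWcard])).symm
  have hcore : Cfsg.pCore 2 L = Q := by
    haveI : Q.Normal := π.normal_ker
    refine le_antisymm (fun m hm => MonoidHom.mem_ker.2 ?_) (CfsgLib.Base.le_pCore hQ2)
    haveI : (Cfsg.pCore 2 L).Normal := Cfsg.pCore_normal 2 _
    have hcm : m * yL * m⁻¹ * yL⁻¹ ∈ Cfsg.pCore 2 L := by
      rw [show m * yL * m⁻¹ * yL⁻¹ = m * (yL * m⁻¹ * yL⁻¹) by group]
      exact mul_mem hm (Subgroup.Normal.conj_mem inferInstance _ (inv_mem hm) yL)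
    have two : ∀ a ∈ Cfsg.pCore 2 L, (π a) ^ 3 = 1 → π a = 1 := by
      intro a ha h3
      obtain ⟨j, hj⟩ := (CfsgLib.Base.isPGroup_pCore 2 L) ⟨a, ha⟩
      have h2 : (π a) ^ 2 ^ j = 1 := by
        rw [← map_pow, show a ^ 2 ^ j = 1 from congrArg Subtype.val hj, map_one]
      have := Nat.eq_one_of_dvd_coprimes (Nat.Coprime.pow_right j (show Nat.Coprime 3 2 by norm_num))
        (orderOf_dvd_of_pow_eq_one h3) (orderOf_dvd_of_pow_eq_one h2)
      exact orderOf_eq_one_iff.1 this
    obtain ⟨-, hf3, hf1⟩ := perm_three_facts (π m) (π yL) hπy3 hπy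
    have e1 : π (m * yL * m⁻¹ * yL⁻¹) = π m * π yL * (π m)⁻¹ * (π yL)⁻¹ := by
      simp only [map_mul, map_inv]
    refine two m hm ?_
    rw [pow_succ, pow_two]
    exact hf1 (e1 ▸ two _ hcm (e1.symm ▸ hf3))
  have hQG : (Cfsg.pCore 2 L).map L.subtype = W32.map ι := by
    rw [hcore, hQW, Subgroup.map_subgroupOf_eq_of_le hWL]
  -- extraspecial
  have hmemW : ∀ {d : G}, d ∈ W32.map ι → ∃ i, ι (el32 i) = d := fun hd => by
    obtain ⟨g, ⟨i, rfl⟩, e⟩ := Subgroup.mem_map.1 hd; exact ⟨i, e⟩
  have hw5 : ∀ g ∈ [t8, v8, e8, ap8, bp8, u8], ι g ∈ W32.map ι := fun g hg =>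
    ⟨g, five_mem g hg, rfl⟩
  have hWp : IsPGroup 2 (W32.map ι : Subgroup G) :=
    IsPGroup.of_card (n := 5) (by rw [Subgroup.card_map_of_injective hinj, card_W32]; rfl)
  obtain ⟨hext, -⟩ := CfsgLib.ThreeTransp.isExtraspecial_of (W32.map ι) (z := s) hWp
    (hw5 u8 (by simp)) hs1 hss (fun d hd => Subgroup.mem_centralizer_singleton_iff.1 (hWL hd))
    (fun d hd d' hd' => by
      obtain ⟨i, rfl⟩ := hmemW hd
      obtain ⟨j, rfl⟩ := hmemW hd'
      rw [← map_inv, ← map_inv, ← map_mul, ← map_mul, ← map_mul]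
      rcases el32_extra.1 i j with h | h <;> rw [h]
      · exact Or.inl (map_one _)
      · exact Or.inr rfl)
    (fun d hd => by
      obtain ⟨i, rfl⟩ := hmemW hd
      rw [← map_mul]
      rcases el32_extra.2 i with h | h <;> rw [h]
      · exact Or.inl (map_one _)
      · exact Or.inr rfl)
    (fun d hd hc => by
      obtain ⟨i, rfl⟩ := hmemW hd
      rcases el32_center i (fun g hg => hinj (by
        rw [map_mul, map_mul]
        exact (hc _ (hw5 g (List.mem_append_left [u8] hg))).symm)) with h | h <;>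
        rw [h]
      · exact Or.inl (map_one _)
      · exact Or.inr rfl)
    ⟨_, hw5 e8 (by simp), _, hw5 ap8 (by simp), fun h => hea (hinj (by rw [map_mul, map_mul]; exact h))⟩
  -- fixed points of an element of order three
  let eS : L ⧸ Cfsg.pCore 2 L ≃* Equiv.Perm (Fin 3) :=
    (QuotientGroup.quotientMulEquivOfEq hcore).trans
      (QuotientGroup.quotientKerEquivOfSurjective π hπs)
  obtain ⟨X⟩ : Nonempty (Sylow 3 L) := inferInstance
  have hX : (W32.map ι) ⊓ Subgroup.centralizer
      (((X : Subgroup L).map L.subtype : Subgroup G) : Set G) = Subgroup.zpowers s := by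
    refine le_antisymm (fun d hd => ?_) (Subgroup.zpowers_le.2 ⟨hw5 u8 (by simp),
      Subgroup.mem_centralizer_iff.2 ?_⟩)
    · obtain ⟨hdW, hdC⟩ := hd
      set dL : L := ⟨d, hWL hdW⟩ with hdL
      have hdQ : dL ∈ Q := hQW ▸ Subgroup.mem_subgroupOf.2 hdW
      obtain ⟨Y, hY⟩ := (IsPGroup.of_card (p := 3) (n := 1) (G := Subgroup.zpowers yL) (by
        rw [Nat.card_zpowers, pow_one]
        exact orderOf_eq_prime (by rw [pow_succ, pow_two, hy3L]) hyL1)).exists_le_sylow
      obtain ⟨c, hc⟩ := MulAction.exists_smul_eq L Y X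
      have hcy : c * yL * c⁻¹ ∈ (X : Subgroup L) := by
        rw [← hc, Sylow.coe_subgroup_smul]
        exact ⟨yL, hY (Subgroup.mem_zpowers yL), rfl⟩
      have hcomm : (c⁻¹ * dL * c) * yL = yL * (c⁻¹ * dL * c) := by
        have h := Subgroup.mem_centralizer_iff.1 hdC _ ⟨_, hcy, rfl⟩
        have h' : c * yL * c⁻¹ * dL = dL * (c * yL * c⁻¹) := Subtype.ext h
        calc (c⁻¹ * dL * c) * yL = c⁻¹ * (dL * (c * yL * c⁻¹)) * c := by group
          _ = c⁻¹ * (c * yL * c⁻¹ * dL) * c := by rw [h']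
          _ = _ := by group
      haveI : Q.Normal := π.normal_ker
      have hQc : c⁻¹ * dL * c ∈ Q := by
        have := Subgroup.Normal.conj_mem inferInstance _ hdQ c⁻¹
        rwa [inv_inv] at this
      have hN' := (hQmem _).1 hQc
      have hK' : c⁻¹ * dL * c ∈ K := by
        refine (hmemK _).1 ?_
        rcases hSC.cent (π0 (c⁻¹ * dL * c)) (by
          show _ * xb = xb * _
          rw [hxb, ← map_mul, ← map_mul, hcomm]) with h | h | h
        · exact h
        · exact absurd (h ▸ hN') hxN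
        · refine absurd ?_ hxN
          have h4 : xb = (xb ^ 2) ^ 2 := by
            rw [← pow_mul, show 2 * 2 = 3 + 1 from rfl, pow_succ, ← hxord, pow_orderOf_eq_one,
              one_mul]
          rw [h4, ← h]
          exact pow_mem hN' 2
      have hd' : dL ∈ K := by
        have := hKn.conj_mem _ hK' c
        rwa [show c * (c⁻¹ * dL * c) * c⁻¹ = dL by group] at this
      rcases hKmem _ hd' with h | h
      · rw [show d = 1 from h]; exact one_mem _
      · rw [show d = s from h]; exact Subgroup.mem_zpowers _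
    · intro x hx
      obtain ⟨x', -, rfl⟩ := Subgroup.mem_map.1 hx
      exact hLs x'
  have hnwc : ∃ g : G, g * s * g⁻¹ ∈ W32.map ι ∧ g * s * g⁻¹ ≠ s := by
    refine ⟨ι h8, ?_, ?_⟩
    · rw [hsdef, ← map_inv, ← map_mul, ← map_mul, hhu]; exact hw5 ap8 (by simp)
    · rw [hsdef, ← map_inv, ← map_mul, ← map_mul, hhu]; exact fun h => hau (hinj h)
  exact Cfsg.Agent.S3344.result s hos L rfl (W32.map ι) hQG.symm hext
    (by rw [Subgroup.card_map_of_injective hinj, card_W32]) eS X hX hnwc

/-- recognition from the facts about the fusion and the centralizer of the elementary subgroup -/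
theorem Emb.iso_of_facts {G : Type u} [Group G] [Finite G] (S : Emb G)
    (h128 : ¬ 128 ∣ Nat.card G)
    (hE : Subgroup.centralizer ({S.ι t8, S.ι v8, S.ι e8} : Set G) ≤ S.ι.range) :
    Nonempty (G ≃* alternatingGroup (Fin 8)) := by
  obtain ⟨-, -, hgy, -, -, -⟩ := y_facts
  have hyrange : ∀ g : G, g * S.ι yp8 = S.ι yp8 * g → g * S.ι u8 = S.ι u8 * g → g ∈ S.ι.range := by
    intro g hg _
    have h : (S.ι g8)⁻¹ * g * S.ι g8 ∈ S.ι.range := by
      refine S.cent_y (Subgroup.mem_centralizer_singleton_iff.2 ?_)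
      rw [← hgy, map_mul, map_mul, map_inv] at hg
      calc (S.ι g8)⁻¹ * g * S.ι g8 * S.ι y8
          = (S.ι g8)⁻¹ * (g * (S.ι g8 * S.ι y8 * (S.ι g8)⁻¹)) * S.ι g8 := by group
        _ = (S.ι g8)⁻¹ * (S.ι g8 * S.ι y8 * (S.ι g8)⁻¹ * g) * S.ι g8 := by rw [hg]
        _ = _ := by group
    have := mul_mem (mul_mem (⟨g8, rfl⟩ : S.ι g8 ∈ S.ι.range) h)
      (inv_mem (⟨g8, rfl⟩ : S.ι g8 ∈ S.ι.range))
    rwa [show S.ι g8 * ((S.ι g8)⁻¹ * g * S.ι g8) * (S.ι g8)⁻¹ = g by group] at this
  have h20160 : 20160 ∣ Nat.card G := by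
    have h := Subgroup.card_subgroup_dvd_card S.ι.range
    rw [← Nat.card_congr (MonoidHom.ofInjective S.inj).toEquiv, nat_card_alternatingGroup,
      Nat.card_fin] at h
    exact h
  rcases centralizer_cases S.ι S.inj hyrange h128 hE with
    ⟨M, hM, -, -, hMc, ⟨eM⟩⟩ | h | ⟨⟨e9⟩⟩ | ⟨⟨e12⟩⟩
  · exfalso
    have h : Nat.card G = Nat.card (Matrix.ProjectiveSpecialLinearGroup (Fin 3) (ZMod 2)) * 8 := by
      rw [Subgroup.card_eq_card_quotient_mul_card_subgroup M, hMc, Nat.card_congr eM.toEquiv]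
    have h1 : Nat.card (Matrix.ProjectiveSpecialLinearGroup (Fin 3) (ZMod 2)) ≤ 512 := by
      calc _ ≤ Nat.card (Matrix.SpecialLinearGroup (Fin 3) (ZMod 2)) :=
            Nat.card_le_card_of_surjective _ (QuotientGroup.mk'_surjective _)
        _ ≤ Nat.card (Matrix (Fin 3) (Fin 3) (ZMod 2)) :=
            Nat.card_le_card_of_injective (fun A => A.1) Subtype.val_injective
        _ = 512 := by
            rw [show Nat.card (Matrix (Fin 3) (Fin 3) (ZMod 2)) = Nat.card (Fin 3 → Fin 3 → ZMod 2)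
              from rfl, Nat.card_fun, Nat.card_fun, Nat.card_fin, Nat.card_zmod]
            rfl
    have h2 := Nat.le_of_dvd Nat.card_pos h20160
    omega
  · exact h
  · exfalso
    refine S.not_dvd ?_
    rw [Nat.card_congr e9.toEquiv, nat_card_alternatingGroup, Nat.card_fin]
    exact ⟨6720, rfl⟩
  · exfalso
    refine S.not_dvd ?_
    rw [Nat.card_congr e12.toEquiv, CfsgLib.MathieuOut.natCard_M12]
    exact ⟨3520, rfl⟩

/-- a group with such a subgroup is alternating of degree eight -/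
theorem Emb.iso {G : Type u} [Group G] [Finite G] (S : Emb G) :
    Nonempty (G ≃* alternatingGroup (Fin 8)) :=
  S.iso_of_facts S.not_dvd_two_pow S.cent_E

end CfsgLib.AEightThree
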