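import Cfsg.Agent.Lib.AEightThree.Basic

/-!
Elements of the alternating group of degree eight around the centralizer of an involution without
fixed points.
-/

set_option autoImplicit false
set_option maxRecDepth 100000
set_option maxHeartbeats 2000000

namespace CfsgLib.AEightThree

open Equiv

/-- `(0 2 4)(1 3 5)` -/
def yp8 : alternatingGroup (Fin 8) :=
  ⟨swap 0 2 * swap 2 4 * (swap 1 3 * swap 3 5), Perm.mem_alternatingGroup.2 (by decide)⟩

/-- `(0 2)(1 3)(4 6)(5 7)` -/
def ap8 : alternatingGroup (Fin 8) :=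
  ⟨swap 0 2 * swap 1 3 * (swap 4 6 * swap 5 7), Perm.mem_alternatingGroup.2 (by decide)⟩

/-- `(2 4)(3 5)(0 6)(1 7)` -/
def bp8 : alternatingGroup (Fin 8) :=
  ⟨swap 2 4 * swap 3 5 * (swap 0 6 * swap 1 7), Perm.mem_alternatingGroup.2 (by decide)⟩

/-- `(2 4)(3 5)` -/
def w8 : alternatingGroup (Fin 8) :=
  ⟨swap 2 4 * swap 3 5, Perm.mem_alternatingGroup.2 (by decide)⟩

/-- carries `y8` to `yp8` -/
def g8 : alternatingGroup (Fin 8) :=
  ⟨swap 1 2 * swap 2 4 * (swap 4 3 * swap 6 7), Perm.mem_alternatingGroup.2 (by decide)⟩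

/-- carries `u8` to `ap8` -/
def h8 : alternatingGroup (Fin 8) :=
  ⟨swap 1 2 * swap 5 6, Perm.mem_alternatingGroup.2 (by decide)⟩

/-- one element or the identity -/
def bitPow (x : alternatingGroup (Fin 8)) (n : ℕ) : alternatingGroup (Fin 8) :=
  if n % 2 = 1 then x else 1

/-- the thirty-two elements of the two-group -/
def el32 (i : Fin 32) : alternatingGroup (Fin 8) :=
  bitPow t8 i * bitPow v8 (i / 2) * bitPow e8 (i / 4) * bitPow ap8 (i / 8) * bitPow bp8 (i / 16)

theorem y_facts : yp8 * yp8 * yp8 = 1 ∧ yp8 ≠ 1 ∧ g8 * y8 * g8⁻¹ = yp8 ∧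
    yp8 * u8 = u8 * yp8 ∧ w8 * u8 = u8 * w8 ∧ w8 * yp8 * w8⁻¹ = yp8⁻¹ := by
  decide +kernel

theorem u_facts : u8 * u8 = 1 ∧ u8 ≠ 1 ∧ h8 * u8 * h8⁻¹ = ap8 ∧ ap8 ≠ u8 ∧
    e8 * ap8 ≠ ap8 * e8 := by
  decide +kernel

theorem five_facts : ∀ g ∈ [t8, v8, e8, ap8, bp8], g * g = 1 ∧ g * u8 = u8 * g ∧
    g * (yp8 * g * yp8⁻¹) = yp8 * g * yp8⁻¹ * g := by
  simp only [List.forall_mem_cons]
  refine ⟨?_, ?_, ?_, ?_, ?_, fun g hg => nomatch hg⟩ <;> decide +kernel

/-- the codes of the thirty-two elements -/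
def code32 : List ℕ :=
  [16434824, 16434369, 14571144, 14570689, 16406145, 16405704, 14599809, 14599368, 11788826, 11788371, 9925146, 9924691, 9953370, 9953811, 11759706, 11760147, 2206526, 342846, 2206071, 342391, 371070, 2177406, 371511, 2177847, 6852524, 4988844, 6852069, 4988389, 6823845, 5017509, 6823404, 5017068]

/-- the rows of the multiplication table, five bits for an entry -/
def rows32 : List ℕ :=
  [1459980823972598128486511383358617792788444579872, 1415692895568631373389430024791457701283719351297, 1365874377081047306436322896569081520303282094178, 1321586448677080551339241538001921428798556865603, 1271400327231899863282374197566336355603147102372, 1227112398827933108185292838999176264098421873797, 1177293880340349041232185710776800083117984616678, 1133005951936382286135104352209639991613259388103, 944424867801214140231029908273291476223175010600, 988712711732741763119880307966933328895479721225, 1038531135199133323306070074646708017803935654250, 1082818979130660946194920474340349870476240364875,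 755844371060515875026892722481010039037877533100, 800132214992043497915743122174651891710182243725, 849950638458435058101932888854426580618638176750, 894238482389962680990783288548068433290942887375, 568645799824656221537236385914747795424027461200, 615698933523615813074756469101456066214407783025, 657221487687711467314937185302031500768636882450, 704274621386671058852457268488739771559017204275, 380065303083957956333099200122466358238729983700, 427118436782917547870619283309174629029110305525, 468640990947013202110799999509750063583339404950, 515694124645972793648320082696458334373719726775, 327113037873616304104574038092839005673745147736, 280059814427840893079479794698070869431163904889, 238537181065682793910411320958518822664294690586, 191483957619907382885317077563750686421713447739, 138532541132918038900436852300557568488447670236, 91479317687142627875342608905789432245866427389, 49956684324984528706274135166237385478997213086, 2903460879209117681179891771469249236415970239]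

/-- the multiplication table -/
def mul32 (i j : ℕ) : ℕ := Nat.land (Nat.shiftRight (rows32.getD i 0) (5 * j)) 31

/-- the image of a point under a code -/
def getC (c x : ℕ) : ℕ := Nat.land (Nat.shiftRight c (3 * x)) 7

/-- the code of an element of the table -/
def cd (i : ℕ) : ℕ := code32.getD i 0

theorem code_el : ∀ i : Fin 32, ∀ x : Fin 8, ((el32 i).1 x).val = getC (cd i) x := by
  decide +kernel

theorem code_u : ∀ x : Fin 8, (u8.1 x).val = getC (cd 3) x := by decide +kernel

theorem table_ok : ((List.range 32).all fun i => (List.range 32).all fun j =>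
    Nat.blt (mul32 i j) 32 && (List.range 8).all fun x =>
      Nat.beq (getC (cd (mul32 i j)) x) (getC (cd i) (getC (cd j) x))) = true := by
  decide +kernel

theorem code_small : (code32.Nodup ∧ code32.length = 32) := by decide +kernel

theorem el32_of_code {i : Fin 32} {σ : alternatingGroup (Fin 8)} {c : ℕ}
    (hσ : ∀ x : Fin 8, (σ.1 x).val = getC c x) (h : cd i = c) : el32 i = σ := by
  subst h
  exact Subtype.ext (Equiv.ext fun x => Fin.ext ((code_el i x).trans (hσ x).symm))

theorem el32_mul_code (i j : Fin 32) (x : Fin 8) :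
    ((el32 i * el32 j).1 x).val = getC (cd i) (getC (cd j) x) := by
  show ((el32 i).1 ((el32 j).1 x)).val = _
  rw [code_el, code_el]

theorem el32_mul_eq (i j : Fin 32) : ∃ k : Fin 32, el32 i * el32 j = el32 k ∧
    k.val = mul32 i.val j.val := by
  have h := table_ok
  simp only [List.all_eq_true, List.mem_range, Bool.and_eq_true, Nat.blt_eq, Nat.beq_eq] at h
  obtain ⟨h1, h2⟩ := h i i.2 j j.2
  refine ⟨⟨_, h1⟩, (el32_of_code (c := cd (mul32 i.val j.val)) (fun x => ?_) rfl).symm, rfl⟩
  rw [el32_mul_code, h2 x x.2]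

theorem el32_injective : Function.Injective el32 := by
  intro i j h
  have key : ∀ a b : Fin 32, (∀ x : Fin 8, getC (cd a) x = getC (cd b) x) → a = b := by
    decide +kernel
  exact key i j fun x => by rw [← code_el i x, ← code_el j x, h]

theorem el32_mul : ∀ i j, ∃ k, el32 i * el32 j = el32 k := fun i j =>
  let ⟨k, hk, _⟩ := el32_mul_eq i j; ⟨k, hk⟩

theorem el32_zero : el32 0 = 1 := by decide +kernel

theorem el32_three : el32 3 = u8 := by decide +kernel

theorem el32_inv : ∀ i, ∃ k, (el32 i)⁻¹ = el32 k := by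
  intro i
  have key : ∀ a : Fin 32, ∃ b : Fin 32, (mul32 a.val b.val) = 0 := by decide +kernel
  obtain ⟨b, hb⟩ := key i
  obtain ⟨k, hk, hkv⟩ := el32_mul_eq i b
  refine ⟨b, inv_eq_of_mul_eq_one_right ?_⟩
  rw [hk, show k = 0 from Fin.ext (hkv.trans hb), el32_zero]

theorem el32_extra : (∀ i j, el32 i * el32 j * (el32 i)⁻¹ * (el32 j)⁻¹ = 1 ∨
      el32 i * el32 j * (el32 i)⁻¹ * (el32 j)⁻¹ = u8) ∧
    (∀ i, el32 i * el32 i = 1 ∨ el32 i * el32 i = u8) := by
  refine ⟨fun i j => ?_, fun i => ?_⟩
  · have key : ∀ a b : Fin 32, (mul32 a.val b.val) = (mul32 b.val a.val) ∨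
        (mul32 a.val b.val) = (mul32 3 (mul32 b.val a.val)) := by
      decide +kernel
    obtain ⟨k, hk, hkv⟩ := el32_mul_eq i j
    obtain ⟨l, hl, hlv⟩ := el32_mul_eq j i
    rw [show el32 i * el32 j * (el32 i)⁻¹ * (el32 j)⁻¹ = (el32 i * el32 j) * (el32 j * el32 i)⁻¹ by
      group, hk, hl]
    rcases key i j with h | h
    · left; rw [show k = l from Fin.ext (by omega), mul_inv_cancel]
    · right
      obtain ⟨r, hr, hrv⟩ := el32_mul_eq 3 l
      rw [el32_three] at hr
      have e : k = r := Fin.ext (by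
        have h3 : ((3 : Fin 32) : ℕ) = 3 := rfl
        rw [hkv, hrv, hlv, h3]; exact h)
      rw [e, ← hr, mul_inv_cancel_right]
  · have key : ∀ a : Fin 32, (mul32 a.val a.val) = 0 ∨
        (mul32 a.val a.val) = 3 := by decide +kernel
    obtain ⟨k, hk, hkv⟩ := el32_mul_eq i i
    rw [hk]
    rcases key i with h | h
    · exact Or.inl (by rw [show k = 0 from Fin.ext (hkv.trans h), el32_zero])
    · exact Or.inr (by rw [show k = 3 from Fin.ext (hkv.trans h), el32_three])

theorem el32_center : ∀ i, (∀ g ∈ [t8, v8, e8, ap8, bp8], el32 i * g = g * el32 i) →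
    el32 i = 1 ∨ el32 i = u8 := by
  intro i h
  have key : ∀ a : Fin 32, (∀ b ∈ [(1 : Fin 32), 2, 4, 8, 16],
      (mul32 a.val b.val) = (mul32 b.val a.val)) → a = 0 ∨ a = 3 := by
    decide +kernel
  have gens : [t8, v8, e8, ap8, bp8] = [(1 : Fin 32), 2, 4, 8, 16].map el32 := by decide +kernel
  suffices hc : ∀ b ∈ [(1 : Fin 32), 2, 4, 8, 16], mul32 i.val b.val = mul32 b.val i.val by
    rcases key i hc with rfl | rfl
    · exact Or.inl el32_zero
    · exact Or.inr el32_three
  intro b hb
  · have h' := h (el32 b) (gens ▸ List.mem_map_of_mem hb)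
    obtain ⟨k, hk, hkv⟩ := el32_mul_eq i b
    obtain ⟨l, hl, hlv⟩ := el32_mul_eq b i
    rw [hk, hl] at h'
    rw [← hkv, ← hlv, el32_injective h']

theorem five_mem : ∀ g ∈ [t8, v8, e8, ap8, bp8, u8], ∃ i, el32 i = g := by
  have gens : [t8, v8, e8, ap8, bp8, u8] = [(1 : Fin 32), 2, 4, 8, 16, 3].map el32 := by decide +kernel
  intro g hg
  rw [gens] at hg
  obtain ⟨i, -, e⟩ := List.mem_map.1 hg
  exact ⟨i, e⟩

/-- the two-group of order `32` -/
def W32 : Subgroup (alternatingGroup (Fin 8)) where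
  carrier := Set.range el32
  one_mem' := ⟨0, el32_zero⟩
  mul_mem' := by
    rintro _ _ ⟨i, rfl⟩ ⟨j, rfl⟩
    obtain ⟨k, e⟩ := el32_mul i j
    exact ⟨k, e.symm⟩
  inv_mem' := by
    rintro _ ⟨i, rfl⟩
    obtain ⟨k, e⟩ := el32_inv i
    exact ⟨k, e.symm⟩

theorem card_W32 : Nat.card W32 = 32 := by
  show Nat.card (Set.range el32) = 32
  rw [Nat.card_congr (Equiv.ofInjective el32 el32_injective).symm, Nat.card_fin]

theorem W32_le {H : Subgroup (alternatingGroup (Fin 8))}
    (h : ∀ g ∈ [t8, v8, e8, ap8, bp8], g ∈ H) : W32 ≤ H := by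
  rintro _ ⟨i, rfl⟩
  have hb : ∀ x ∈ [t8, v8, e8, ap8, bp8], ∀ n, bitPow x n ∈ H := fun x hx n => by
    unfold bitPow
    split
    · exact h x hx
    · exact one_mem H
  exact mul_mem (mul_mem (mul_mem (mul_mem (hb _ (by simp) _) (hb _ (by simp) _))
    (hb _ (by simp) _)) (hb _ (by simp) _)) (hb _ (by simp) _)

/-- `(0 1)(2 3)(4 5)(6 7)` as a function -/
def uF : Fin 8 → Fin 8 := ![1, 0, 3, 2, 5, 4, 7, 6]

/-- the function with given values at the even points -/
def candF (a b c d : Fin 8) : Fin 8 → Fin 8 := ![a, uF a, b, uF b, c, uF c, d, uF d]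

/-- `(0 1)(2 3)` as a function -/
def tF : Fin 8 → Fin 8 := ![1, 0, 3, 2, 4, 5, 6, 7]

/-- `(4 5)(6 7)` as a function -/
def vF : Fin 8 → Fin 8 := ![0, 1, 2, 3, 5, 4, 7, 6]

/-- `(0 1)(4 5)` as a function -/
def eF : Fin 8 → Fin 8 := ![1, 0, 2, 3, 5, 4, 6, 7]

theorem tve_eq : ∀ i, t8.1 i = tF i ∧ v8.1 i = vF i ∧ e8.1 i = eF i := by decide +kernel

/-- two conditions and a pair -/
def pointOK (f g h : Fin 8 → Fin 8) (a b : Fin 8) : Bool :=
  (List.finRange 8).all fun x => !(f x == tF x && g x == vF x && h x == eF x) || x == a || x == b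

theorem point_check : (pointOK uF id uF 0 1 && pointOK uF id id 2 3 && pointOK id uF uF 4 5 &&
    pointOK id uF id 6 7) = true := by
  decide +kernel

theorem pointOK_spec {f g h : Fin 8 → Fin 8} {a b x : Fin 8} (H : pointOK f g h a b = true)
    (h1 : f x = tF x) (h2 : g x = vF x) (h3 : h x = eF x) : ∃ p : Bool, x = bif p then b else a := by
  have := List.all_eq_true.1 H x (List.mem_finRange x)
  simp only [beq_iff_eq.2 h1, beq_iff_eq.2 h2, beq_iff_eq.2 h3, Bool.and_self, Bool.not_true,
    Bool.false_or, Bool.or_eq_true, beq_iff_eq] at this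
  rcases this with e | e
  · exact ⟨false, e⟩
  · exact ⟨true, e⟩

/-- `(0 2)(1 3)(4 6)(5 7)` as a function -/
def aF : Fin 8 → Fin 8 := ![2, 3, 0, 1, 6, 7, 4, 5]

/-- `(2 4)(3 5)(0 6)(1 7)` as a function -/
def bF : Fin 8 → Fin 8 := ![6, 7, 4, 5, 2, 3, 0, 1]

theorem ab_eq : ∀ i, ap8.1 i = aF i ∧ bp8.1 i = bF i := by decide +kernel

/-- the candidates -/
def candB (x y z w : Bool) : Fin 8 → Fin 8 :=
  candF (bif x then 1 else 0) (bif y then 3 else 2) (bif z then 5 else 4) (bif w then 7 else 6)

theorem cand_sq : ∀ x y z w : Bool, ∀ i, candB x y z w (candB x y z w i) = i := by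
  decide +kernel

/-- the candidate commutes with a function -/
def candComm (f : Fin 8 → Fin 8) (x y z w : Bool) : Bool :=
  (List.finRange 8).all fun i => candB x y z w (f i) == f (candB x y z w i)

/-- the candidate agrees with a function -/
def candIs (f : Fin 8 → Fin 8) (x y z w : Bool) : Bool :=
  (List.finRange 8).all fun i => candB x y z w i == f i

theorem cand_ab : ∀ x y z w : Bool,
    (!(candComm aF x y z w && candComm bF x y z w) ||
      (candIs id x y z w || candIs uF x y z w)) = true := by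
  decide +kernel

theorem uF_eq : ∀ i, u8.1 i = uF i := by decide +kernel

theorem cent_model {σ : alternatingGroup (Fin 8)} (ht : σ * t8 = t8 * σ) (hv : σ * v8 = v8 * σ)
    (he : σ * e8 = e8 * σ) :
    σ * σ = 1 ∧ (σ * ap8 = ap8 * σ → σ * bp8 = bp8 * σ → σ = 1 ∨ σ = u8) := by
  have hu : σ * u8 = u8 * σ := by rw [u8, ← mul_assoc, ht, mul_assoc, hv, mul_assoc]
  have app : ∀ {g : alternatingGroup (Fin 8)}, σ * g = g * σ → ∀ i, σ.1 (g.1 i) = g.1 (σ.1 i) :=
    fun h i => congrArg (fun x : alternatingGroup (Fin 8) => x.1 i) h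
  have hf : ∀ i, σ.1 i = candF (σ.1 0) (σ.1 2) (σ.1 4) (σ.1 6) i := by
    intro i
    have k : ∀ j : Fin 8, σ.1 (uF j) = uF (σ.1 j) := fun j => by
      rw [← uF_eq, app hu, uF_eq]
    fin_cases i
    · rfl
    · exact k 0
    · rfl
    · exact k 2
    · rfl
    · exact k 4
    · rfl
    · exact k 6
  have kt : ∀ j, σ.1 (tF j) = tF (σ.1 j) := fun j => by
    rw [← (tve_eq _).1, ← (tve_eq _).1]; exact app ht j
  have kv : ∀ j, σ.1 (vF j) = vF (σ.1 j) := fun j => by
    rw [← (tve_eq _).2.1, ← (tve_eq _).2.1]; exact app hv j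
  have ke : ∀ j, σ.1 (eF j) = eF (σ.1 j) := fun j => by
    rw [← (tve_eq _).2.2, ← (tve_eq _).2.2]; exact app he j
  have ku : ∀ j, σ.1 (uF j) = uF (σ.1 j) := fun j => by
    rw [← uF_eq, ← uF_eq]; exact app hu j
  have hp := point_check
  simp only [Bool.and_eq_true] at hp
  obtain ⟨⟨⟨p0, p2⟩, p4⟩, p6⟩ := hp
  have val : tF 0 = uF 0 ∧ vF 0 = 0 ∧ eF 0 = uF 0 ∧ tF 2 = uF 2 ∧ vF 2 = 2 ∧ eF 2 = 2 ∧
      tF 4 = 4 ∧ vF 4 = uF 4 ∧ eF 4 = uF 4 ∧ tF 6 = 6 ∧ vF 6 = uF 6 ∧ eF 6 = 6 := by decide +kernel
  obtain ⟨a1, a2, a3, b1, b2, b3, c1, c2, c3, d1, d2, d3⟩ := val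
  have viaU : ∀ {F : Fin 8 → Fin 8}, (∀ j, σ.1 (F j) = F (σ.1 j)) → ∀ j, F j = uF j →
      uF (σ.1 j) = F (σ.1 j) := fun hF j e => by rw [← hF, e, ku]
  have viaI : ∀ {F : Fin 8 → Fin 8}, (∀ j, σ.1 (F j) = F (σ.1 j)) → ∀ j, F j = j →
      id (σ.1 j) = F (σ.1 j) := fun hF j e => by rw [← hF, e]; rfl
  obtain ⟨x0, e0⟩ := pointOK_spec p0 (viaU kt 0 a1) (viaI kv 0 a2) (viaU ke 0 a3)
  obtain ⟨x2, e2⟩ := pointOK_spec p2 (viaU kt 2 b1) (viaI kv 2 b2) (viaI ke 2 b3)
  obtain ⟨x4, e4⟩ := pointOK_spec p4 (viaI kt 4 c1) (viaU kv 4 c2) (viaU ke 4 c3)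
  obtain ⟨x6, e6⟩ := pointOK_spec p6 (viaI kt 6 d1) (viaU kv 6 d2) (viaI ke 6 d3)
  have hB : ∀ i, σ.1 i = candB x0 x2 x4 x6 i := fun i => by
    rw [hf i, e0, e2, e4, e6]; rfl
  refine ⟨Subtype.ext (Perm.ext fun i => ?_), fun ha hb => ?_⟩
  · show σ.1 (σ.1 i) = i
    rw [hB (σ.1 i), hB i]; exact cand_sq _ _ _ _ i
  · have h := cand_ab x0 x2 x4 x6
    have ca : candComm aF x0 x2 x4 x6 = true := List.all_eq_true.2 fun i _ => beq_iff_eq.2 (by
      rw [← hB, ← hB, ← (ab_eq _).1, ← (ab_eq _).1]; exact app ha i)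
    have cb : candComm bF x0 x2 x4 x6 = true := List.all_eq_true.2 fun i _ => beq_iff_eq.2 (by
      rw [← hB, ← hB, ← (ab_eq _).2, ← (ab_eq _).2]; exact app hb i)
    rw [ca, cb, Bool.and_self, Bool.not_true, Bool.false_or, Bool.or_eq_true] at h
    rcases h with h | h
    · exact Or.inl (Subtype.ext (Perm.ext fun i => (hB i).trans
        (beq_iff_eq.1 (List.all_eq_true.1 h i (List.mem_finRange i)))))
    · exact Or.inr (Subtype.ext (Perm.ext fun i => ((hB i).trans
        (beq_iff_eq.1 (List.all_eq_true.1 h i (List.mem_finRange i)))).trans (uF_eq i).symm))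

/-- `(0 2 4)(1 3 5)` as a function -/
def yF : Fin 8 → Fin 8 := ![2, 3, 4, 5, 0, 1, 6, 7]

/-- the function with given values at `0` and `6` -/
def candY (a d : Fin 8) : Fin 8 → Fin 8 :=
  ![a, uF a, yF a, uF (yF a), yF (yF a), uF (yF (yF a)), d, uF d]

/-- the six elements centralising `yp8` and `u8` -/
def sixList : List (alternatingGroup (Fin 8)) :=
  [1, yp8, yp8 * yp8, u8, yp8 * u8, yp8 * yp8 * u8]

/-- the element with the extra transposition -/
def sixPerm (k : Fin 6) (p : Bool) : Perm (Fin 8) :=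
  (sixList.getD k 1).1 * bif p then swap 6 7 else 1

/-- the candidate commutes with `yF` and is injective -/
def candYOK (a d : Fin 8) : Bool :=
  ((List.finRange 8).all fun i => candY a d (yF i) == yF (candY a d i)) &&
    ((List.finRange 8).map (candY a d)).Nodup

/-- the candidate is one of the twelve elements -/
def candYIs (a d : Fin 8) : Bool :=
  (List.finRange 6).any fun k => [false, true].any fun p =>
    (List.finRange 8).all fun i => candY a d i == sixPerm k p i

theorem candY_check : ((List.finRange 8).all fun a => (List.finRange 8).all fun d =>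
    !(candYOK a d) || candYIs a d) = true := by
  decide +kernel

theorem yF_eq : ∀ i, yp8.1 i = yF i := by decide +kernel

theorem cent_y_model {σ : alternatingGroup (Fin 8)} (hy : σ * yp8 = yp8 * σ)
    (hu : σ * u8 = u8 * σ) : σ ∈ sixList := by
  have ky : ∀ j : Fin 8, σ.1 (yF j) = yF (σ.1 j) := fun j => by
    rw [← yF_eq, ← yF_eq]
    exact congrArg (fun x : alternatingGroup (Fin 8) => x.1 j) hy
  have ku : ∀ j : Fin 8, σ.1 (uF j) = uF (σ.1 j) := fun j => by
    rw [← uF_eq, ← uF_eq]
    exact congrArg (fun x : alternatingGroup (Fin 8) => x.1 j) hu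
  have hf : ∀ i, σ.1 i = candY (σ.1 0) (σ.1 6) i := by
    intro i
    fin_cases i
    · rfl
    · exact ku 0
    · exact ky 0
    · exact (ku 2).trans (congrArg uF (ky 0))
    · exact (ky 2).trans (congrArg yF (ky 0))
    · exact (ku 4).trans (congrArg uF ((ky 2).trans (congrArg yF (ky 0))))
    · rfl
    · exact ku 6
  have hok : candYOK (σ.1 0) (σ.1 6) = true := by
    rw [candYOK, Bool.and_eq_true, List.all_eq_true, decide_eq_true_eq]
    refine ⟨fun i _ => beq_iff_eq.2 (by rw [← hf, ← hf]; exact ky i), ?_⟩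
    exact (List.nodup_finRange 8).map fun i j h => σ.1.injective (by rw [hf, hf j]; exact h)
  have hchk := List.all_eq_true.1 (List.all_eq_true.1 candY_check (σ.1 0) (List.mem_finRange _))
    (σ.1 6) (List.mem_finRange _)
  rw [hok, Bool.not_true, Bool.false_or, candYIs, List.any_eq_true] at hchk
  obtain ⟨k, -, hk⟩ := hchk
  obtain ⟨p, -, hp'⟩ := List.any_eq_true.1 hk
  have hp : ∀ i, candY (σ.1 0) (σ.1 6) i = sixPerm k p i := fun i =>
    beq_iff_eq.1 (List.all_eq_true.1 hp' i (List.mem_finRange i))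
  simp only [sixPerm] at hp
  set g := sixList.getD k 1 with hgdef
  have hg : g ∈ sixList := by
    rw [hgdef, List.getD_eq_getElem _ _ (show (k : ℕ) < sixList.length from k.2)]
    exact List.getElem_mem _
  have e : σ.1 = g.1 * bif p then swap 6 7 else 1 :=
    Perm.ext fun i => (hf i).trans (hp i)
  cases p with
  | false => simp only [cond_false, mul_one] at e; rwa [Subtype.ext e]
  | true =>
    exfalso
    have h := Perm.mem_alternatingGroup.1 σ.2
    rw [e, map_mul, Perm.mem_alternatingGroup.1 g.2, one_mul, cond_true,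
      Perm.sign_swap (by decide)] at h
    exact absurd h (by decide)

end CfsgLib.AEightThree
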