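import Mathlib
import Cfsg.Agent.Lib.AEightThree.Basic

/-!
The data are present in every group with the three-local structure of the alternating group of
degree eight.
-/

set_option autoImplicit false

namespace CfsgLib.AEightThree

open Equiv

universe u

namespace SetupAux

/-- The three-cycle of degree three. -/
def σ₃ : Perm (Fin 3) := swap 0 1 * swap 1 2

/-- The three-cycle `(2 3 4)`. -/
def δ₅ : Perm (Fin 5) := swap 2 3 * swap 3 4

/-- A five-cycle. -/
def c₅ : Perm (Fin 5) := swap 0 1 * swap 1 2 * swap 2 3 * swap 3 4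

theorem perm_five_of_normalizes : ∀ b : Perm (Fin 5),
    b ^ 3 = 1 → (c₅ * b = b * c₅ ∨ c₅ * b = b⁻¹ * c₅) → b = 1 := by
  decide +kernel

theorem perm_three_of_cube : ∀ a : Perm (Fin 3), a ^ 3 = 1 → a = 1 ∨ a = σ₃ ∨ a = σ₃⁻¹ := by
  decide +kernel

theorem perm_three_commute : ∀ a : Perm (Fin 3),
    a * σ₃ = σ₃ * a → a = 1 ∨ a = σ₃ ∨ a = σ₃⁻¹ := by
  decide +kernel

theorem perm_five_commute : ∀ b : Perm (Fin 5),
    b ^ 3 = 1 → b * δ₅ = δ₅ * b → b = 1 ∨ b = δ₅ ∨ b = δ₅⁻¹ := by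
  decide +kernel

theorem perm_three_conj : ∀ a : Perm (Fin 3), a * σ₃ * a⁻¹ = σ₃ ∨ a * σ₃ * a⁻¹ = σ₃⁻¹ := by
  decide +kernel

theorem isConj_delta {b : Perm (Fin 5)} (h3 : b ^ 3 = 1) (h1 : b ≠ 1) : IsConj b δ₅ := by
  have ho : orderOf b = 3 := orderOf_eq_prime h3 h1
  have hod : orderOf δ₅ = 3 := orderOf_eq_prime (by decide +kernel) (by decide +kernel)
  have key : ∀ c : Perm (Fin 5), orderOf c = 3 → c.cycleType = {3} := fun c hc => by
    obtain ⟨n, hn⟩ := Equiv.Perm.cycleType_prime_order (σ := c) (hc.symm ▸ Nat.prime_three)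
    rw [hc] at hn
    have hs : c.cycleType.sum ≤ 5 := by
      rw [Equiv.Perm.sum_cycleType]
      exact (Finset.card_le_univ _).trans (le_of_eq (Fintype.card_fin 5))
    rw [hn, Multiset.sum_replicate, smul_eq_mul] at hs
    have hn0 : n = 0 := by omega
    rw [hn, hn0]
    rfl
  exact Equiv.Perm.isConj_iff_cycleType_eq.2 ((key b ho).trans (key δ₅ hod).symm)

/-- `(1 (0 1)(3 4))`: fixes the first line and inverts the second. -/
def tK : KK := ⟨(1, swap 0 1 * swap 3 4), mem_KK.2 (by decide +kernel)⟩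

theorem sK_conj :
    tK * zK * tK⁻¹ = zK ∧ tK * dK * tK⁻¹ = dK⁻¹ ∧ eK * zK * eK⁻¹ = zK⁻¹ ∧ eK * dK * eK⁻¹ = dK ∧
      rK * zK * rK⁻¹ = zK⁻¹ ∧ rK * dK * rK⁻¹ = dK⁻¹ ∧ zK * dK = dK * zK ∧ rK * rK = 1 := by
  refine ⟨?_, ?_, ?_, ?_, ?_, ?_, ?_, ?_⟩ <;> exact Subtype.ext (by decide +kernel)

theorem dK_ne : dK ≠ 1 ∧ zK ≠ 1 ∧ dK ≠ zK ∧ dK ≠ zK⁻¹ := by
  refine ⟨?_, ?_, ?_, ?_⟩ <;>
    exact fun h => absurd (congrArg Subtype.val h) (by decide +kernel)

theorem fst_conj_self (k : KK) : k * zK * k⁻¹ = zK ∨ k * zK * k⁻¹ = zK⁻¹ := by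
  rcases perm_three_conj k.1.1 with h | h
  · refine Or.inl (Subtype.ext (Prod.ext h ?_))
    show k.1.2 * 1 * (k.1.2)⁻¹ = 1
    simp
  · refine Or.inr (Subtype.ext (Prod.ext h ?_))
    show k.1.2 * 1 * (k.1.2)⁻¹ = 1⁻¹
    simp

theorem eq_zK_of_normal {a : KK} (h3 : a ^ 3 = 1) (h1 : a ≠ 1)
    (hn : ∀ k : KK, k * a * k⁻¹ = a ∨ k * a * k⁻¹ = a⁻¹) : a = zK ∨ a = zK⁻¹ := by
  have hb : a.1.2 = 1 := by
    refine perm_five_of_normalizes _ (congrArg (fun t : KK => t.1.2) h3) ?_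
    have hk := hn ⟨(1, c₅), mem_KK.2 (by decide +kernel)⟩
    rcases hk with h | h
    · left
      have h2 : c₅ * a.1.2 * c₅⁻¹ = a.1.2 := congrArg (fun t : KK => t.1.2) h
      exact mul_inv_eq_iff_eq_mul.1 h2
    · right
      have h2 : c₅ * a.1.2 * c₅⁻¹ = (a.1.2)⁻¹ := congrArg (fun t : KK => t.1.2) h
      exact mul_inv_eq_iff_eq_mul.1 h2
  rcases perm_three_of_cube a.1.1 (congrArg (fun t : KK => t.1.1) h3) with h | h | h
  · exact absurd (Subtype.ext (Prod.ext h hb)) h1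
  · exact Or.inl (Subtype.ext (Prod.ext h hb))
  · exact Or.inr (Subtype.ext (Prod.ext h (hb.trans inv_one.symm)))

theorem eq_mul_of_commute {p : KK} (h3 : p ^ 3 = 1) (hz : p * zK = zK * p)
    (hd : p * dK = dK * p) :
    ∃ i j : ℤ, p = zK ^ i * dK ^ j ∧ (i = 0 ∨ i = 1 ∨ i = -1) ∧ (j = 0 ∨ j = 1 ∨ j = -1) := by
  have ha := perm_three_commute p.1.1 (congrArg (fun t : KK => t.1.1) hz)
  have hb := perm_five_commute p.1.2 (congrArg (fun t : KK => t.1.2) h3)
    (congrArg (fun t : KK => t.1.2) hd)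
  rcases ha with ha | ha | ha <;> rcases hb with hb | hb | hb
  · exact ⟨0, 0, Subtype.ext (Prod.ext (by rw [ha]; decide +kernel) (by rw [hb]; decide +kernel)),
      by omega, by omega⟩
  · exact ⟨0, 1, Subtype.ext (Prod.ext (by rw [ha]; decide +kernel) (by rw [hb]; decide +kernel)),
      by omega, by omega⟩
  · exact ⟨0, -1, Subtype.ext (Prod.ext (by rw [ha]; decide +kernel) (by rw [hb]; decide +kernel)),
      by omega, by omega⟩
  · exact ⟨1, 0, Subtype.ext (Prod.ext (by rw [ha]; decide +kernel) (by rw [hb]; decide +kernel)),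
      by omega, by omega⟩
  · exact ⟨1, 1, Subtype.ext (Prod.ext (by rw [ha]; decide +kernel) (by rw [hb]; decide +kernel)),
      by omega, by omega⟩
  · exact ⟨1, -1, Subtype.ext (Prod.ext (by rw [ha]; decide +kernel) (by rw [hb]; decide +kernel)),
      by omega, by omega⟩
  · exact ⟨-1, 0, Subtype.ext (Prod.ext (by rw [ha]; decide +kernel) (by rw [hb]; decide +kernel)),
      by omega, by omega⟩
  · exact ⟨-1, 1, Subtype.ext (Prod.ext (by rw [ha]; decide +kernel) (by rw [hb]; decide +kernel)),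
      by omega, by omega⟩
  · exact ⟨-1, -1, Subtype.ext (Prod.ext (by rw [ha]; decide +kernel) (by rw [hb]; decide +kernel)),
      by omega, by omega⟩

variable {G : Type u} [Group G]

theorem mem_normalizer_zpowers_of_conj {z n : G} (h : n * z * n⁻¹ = z ∨ n * z * n⁻¹ = z⁻¹) :
    n ∈ Subgroup.normalizer (Subgroup.zpowers z : Set G) := by
  rw [Subgroup.mem_normalizer_iff_map_conj_eq, MonoidHom.map_zpowers]
  have e : (MulAut.conj n : G →* G) z = n * z * n⁻¹ := rfl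
  rw [e]
  rcases h with h | h <;> rw [h]
  exact Subgroup.zpowers_inv

theorem card_cent_inv (x : G) :
    Nat.card (Subgroup.centralizer ({x⁻¹} : Set G)) = Nat.card (Subgroup.centralizer ({x} : Set G)) := by
  refine Nat.card_congr (Equiv.subtypeEquiv (Equiv.refl G) fun a => ?_)
  simp only [Equiv.refl_apply, Subgroup.mem_centralizer_singleton_iff]
  exact ⟨fun h => Commute.inv_right_iff.1 h, fun h => Commute.inv_right_iff.2 h⟩

theorem card_cent_conj (g x : G) :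
    Nat.card (Subgroup.centralizer ({g * x * g⁻¹} : Set G)) =
      Nat.card (Subgroup.centralizer ({x} : Set G)) := by
  refine (Nat.card_congr (Equiv.subtypeEquiv (MulAut.conj g).toEquiv fun a => ?_)).symm
  simp only [MulEquiv.toEquiv_eq_coe, MulEquiv.coe_toEquiv, MulAut.conj_apply,
    Subgroup.mem_centralizer_singleton_iff]
  constructor
  · intro h
    calc g * a * g⁻¹ * (g * x * g⁻¹) = g * (a * x) * g⁻¹ := by group
      _ = g * (x * a) * g⁻¹ := by rw [h]
      _ = g * x * g⁻¹ * (g * a * g⁻¹) := by group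
  · intro h
    calc a * x = g⁻¹ * (g * a * g⁻¹ * (g * x * g⁻¹)) * g := by group
      _ = g⁻¹ * (g * x * g⁻¹ * (g * a * g⁻¹)) * g := by rw [h]
      _ = x * a := by group

/-- The normalised embedding of `KK`. -/
theorem exists_frame [Finite G]
    (D : Subgroup G) (y z : G) (hgen : Subgroup.closure {y, z} = D)
    (hcomm : IsMulCommutative D) (hcard : Nat.card D = 9) (hexp : ∀ a ∈ D, a ^ 3 = 1)
    (eL : Subgroup.normalizer (Subgroup.zpowers z : Set G) ≃* KK) :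
    ∃ ψ : KK →* G, Function.Injective ψ ∧
      ψ.range = Subgroup.normalizer (Subgroup.zpowers (ψ zK) : Set G) ∧
      (ψ zK = z ∨ ψ zK = z⁻¹) ∧ ψ zK ∈ D ∧ ψ dK ∈ D ∧
      ∀ x ∈ D, ∃ i j : ℤ, x = ψ zK ^ i * ψ dK ^ j ∧ (i = 0 ∨ i = 1 ∨ i = -1) ∧
        (j = 0 ∨ j = 1 ∨ j = -1) := by
  have hc : ∀ a ∈ D, ∀ b ∈ D, a * b = b * a := fun a ha b hb =>
    congrArg Subtype.val (hcomm.is_comm.comm (⟨a, ha⟩ : D) ⟨b, hb⟩)
  have hyD : y ∈ D := hgen ▸ Subgroup.subset_closure (Or.inl rfl)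
  have hzD : z ∈ D := hgen ▸ Subgroup.subset_closure (Or.inr rfl)
  have hnot : y ∉ Subgroup.zpowers z := fun h => by
    have hle : D ≤ Subgroup.zpowers z := by
      rw [← hgen, Subgroup.closure_le]
      rintro w (rfl | rfl)
      · exact h
      · exact Subgroup.mem_zpowers _
    have h1 := Subgroup.card_le_of_le hle
    rw [Nat.card_zpowers, hcard] at h1
    have h2 := Nat.le_of_dvd (by norm_num) (orderOf_dvd_of_pow_eq_one (hexp z hzD))
    omega
  have hz1 : z ≠ 1 := fun h => by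
    have hle : D ≤ Subgroup.zpowers y := by
      rw [← hgen, Subgroup.closure_le]
      rintro w (rfl | rfl)
      · exact Subgroup.mem_zpowers _
      · rw [h]; exact one_mem _
    have h1 := Subgroup.card_le_of_le hle
    rw [Nat.card_zpowers, hcard] at h1
    have h2 := Nat.le_of_dvd (by norm_num) (orderOf_dvd_of_pow_eq_one (hexp y hyD))
    omega
  have hDL : ∀ x ∈ D, x ∈ Subgroup.normalizer (Subgroup.zpowers z : Set G) := fun x hx =>
    mem_normalizer_zpowers_of_conj (Or.inl (by rw [hc x hx z hzD, mul_inv_cancel_right]))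
  let φ : KK →* G := (Subgroup.normalizer (Subgroup.zpowers z : Set G)).subtype.comp
    eL.symm.toMonoidHom
  have hφinj : Function.Injective φ := fun a b h => eL.symm.injective (Subtype.ext h)
  have hφrange : φ.range = Subgroup.normalizer (Subgroup.zpowers z : Set G) := by
    ext x
    refine ⟨?_, fun hx => ⟨eL ⟨x, hx⟩, ?_⟩⟩
    · rintro ⟨k, rfl⟩
      exact (eL.symm k).2
    · show ((eL.symm (eL ⟨x, hx⟩) : Subgroup.normalizer (Subgroup.zpowers z : Set G)) : G) = x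
      rw [eL.symm_apply_apply]
  have hzφ : ∃ a : KK, φ a = z := by
    have : z ∈ φ.range := by rw [hφrange]; exact hDL z hzD
    exact this
  obtain ⟨a, ha⟩ := hzφ
  have ha3 : a ^ 3 = 1 := hφinj (by rw [map_pow, ha, hexp z hzD, map_one])
  have ha1 : a ≠ 1 := fun h => hz1 (by rw [← ha, h, map_one])
  have han : ∀ k : KK, k * a * k⁻¹ = a ∨ k * a * k⁻¹ = a⁻¹ := fun k => by
    have hk : φ k ∈ Subgroup.normalizer (Subgroup.zpowers z : Set G) := hφrange ▸ ⟨k, rfl⟩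
    rw [Subgroup.mem_normalizer_iff_map_conj_eq, MonoidHom.map_zpowers] at hk
    have hmem : φ k * z * (φ k)⁻¹ ∈ Subgroup.zpowers z :=
      (SetLike.ext_iff.1 hk _).1 (Subgroup.mem_zpowers _)
    obtain ⟨m, hm⟩ := hmem
    have hm' : z ^ m = φ k * z * (φ k)⁻¹ := hm
    have hz3 : z ^ (3 : ℤ) = 1 := by exact_mod_cast hexp z hzD
    have hmod : z ^ m = z ^ (m % 3) := by
      conv_lhs => rw [← Int.emod_add_mul_ediv m 3]
      rw [zpow_add, zpow_mul, hz3, one_zpow, mul_one]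
    have hlt : m % 3 = 0 ∨ m % 3 = 1 ∨ m % 3 = 2 := by omega
    rcases hlt with h | h | h
    · rw [hmod, h, zpow_zero] at hm'
      exact absurd (conj_eq_one_iff.1 hm'.symm) hz1
    · left
      refine hφinj ?_
      rw [map_mul, map_mul, map_inv, ha, ← hm', hmod, h, zpow_one]
    · right
      refine hφinj ?_
      rw [map_mul, map_mul, map_inv, map_inv, ha, ← hm', hmod, h, eq_inv_iff_mul_eq_one]
      rw [← zpow_add_one]
      exact hz3
  have hzK : φ zK = z ∨ φ zK = z⁻¹ := by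
    rcases eq_zK_of_normal ha3 ha1 han with h | h
    · exact Or.inl (h ▸ ha)
    · exact Or.inr (by rw [← ha, h, map_inv, inv_inv])
  have hzKD : φ zK ∈ D := by
    rcases hzK with h | h <;> rw [h]
    exacts [hzD, inv_mem hzD]
  obtain ⟨p, hp⟩ : y ∈ φ.range := by rw [hφrange]; exact hDL y hyD
  have hp3 : p ^ 3 = 1 := hφinj (by rw [map_pow, hp, hexp y hyD, map_one])
  have hpz : p * zK = zK * p := hφinj (by rw [map_mul, map_mul, hp]; exact hc _ hyD _ hzKD)
  have hpa := perm_three_commute p.1.1 (congrArg (fun t : KK => t.1.1) hpz)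
  obtain ⟨q, hqz, hq1⟩ : ∃ q : KK, φ q ∈ D ∧ q.1.1 = 1 ∧ q.1.2 = p.1.2 := by
    rcases hpa with h | h | h
    · exact ⟨p, hp ▸ hyD, h, rfl⟩
    · refine ⟨zK⁻¹ * p, by rw [map_mul, map_inv, hp]; exact mul_mem (inv_mem hzKD) hyD, ?_, ?_⟩
      · show (σ₃)⁻¹ * p.1.1 = 1
        rw [h, inv_mul_cancel]
      · show (1 : Perm (Fin 5))⁻¹ * p.1.2 = p.1.2
        rw [inv_one, one_mul]
    · refine ⟨zK * p, by rw [map_mul, hp]; exact mul_mem hzKD hyD, ?_, ?_⟩
      · show σ₃ * p.1.1 = 1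
        rw [h, mul_inv_cancel]
      · show (1 : Perm (Fin 5)) * p.1.2 = p.1.2
        rw [one_mul]
  have hb1 : p.1.2 ≠ 1 := fun h => hnot (by
    have hq : q = 1 := Subtype.ext (Prod.ext hq1.1 (hq1.2.trans h))
    have hpzk : p = 1 ∨ p = zK ∨ p = zK⁻¹ := by
      rcases hpa with h' | h' | h'
      · exact Or.inl (Subtype.ext (Prod.ext h' h))
      · exact Or.inr (Or.inl (Subtype.ext (Prod.ext h' h)))
      · exact Or.inr (Or.inr (Subtype.ext (Prod.ext h' (h.trans inv_one.symm))))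
    have hzz : φ zK ∈ Subgroup.zpowers z := by
      rcases hzK with h' | h' <;> rw [h']
      exacts [Subgroup.mem_zpowers z, inv_mem (Subgroup.mem_zpowers z)]
    rw [← hp]
    rcases hpzk with h' | h' | h' <;> rw [h']
    · rw [map_one]; exact one_mem _
    · exact hzz
    · rw [map_inv]; exact inv_mem hzz)
  obtain ⟨π, hπ⟩ := isConj_iff.1
    (isConj_delta (congrArg (fun t : KK => t.1.2) hp3) hb1)
  obtain ⟨k, hk⟩ : ∃ k : KK, k * q * k⁻¹ = dK := by
    obtain ⟨s, hs⟩ : ∃ s : Perm (Fin 3), Perm.sign s = Perm.sign π := by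
      rcases Int.units_eq_one_or (Perm.sign π) with h | h
      · exact ⟨1, by rw [h]; exact Perm.sign_one⟩
      · exact ⟨swap 0 1, by rw [h]; decide +kernel⟩
    refine ⟨⟨(s, π), mem_KK.2 (by rw [hs, Int.units_mul_self])⟩, Subtype.ext (Prod.ext ?_ ?_)⟩
    · show s * q.1.1 * s⁻¹ = 1
      rw [hq1.1, mul_one, mul_inv_cancel]
    · show π * q.1.2 * π⁻¹ = δ₅
      rw [hq1.2, hπ]
  let ψ : KK →* G := φ.comp (MulAut.conj k⁻¹).toMonoidHom
  have hψd : ψ dK = φ q := by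
    show φ (k⁻¹ * dK * k⁻¹⁻¹) = φ q
    rw [← hk]
    congr 1
    group
  have hψz : ψ zK = φ zK ∨ ψ zK = (φ zK)⁻¹ := by
    rcases fst_conj_self k⁻¹ with h | h
    · exact Or.inl (congrArg φ h)
    · exact Or.inr ((congrArg φ h).trans (map_inv φ zK))
  have hψzz : ψ zK = z ∨ ψ zK = z⁻¹ := by
    rcases hψz with h | h <;> rcases hzK with h' | h' <;> rw [h, h']
    exacts [Or.inl rfl, Or.inr rfl, Or.inr rfl, Or.inl (inv_inv z)]
  have hψinj : Function.Injective ψ := hφinj.comp (MulAut.conj k⁻¹).injective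
  have hψrange : ψ.range = Subgroup.normalizer (Subgroup.zpowers z : Set G) := by
    rw [← hφrange]
    ext x
    refine ⟨?_, ?_⟩
    · rintro ⟨c, rfl⟩
      exact ⟨k⁻¹ * c * k⁻¹⁻¹, rfl⟩
    · rintro ⟨c, rfl⟩
      refine ⟨k * c * k⁻¹, ?_⟩
      show φ (k⁻¹ * (k * c * k⁻¹) * k⁻¹⁻¹) = φ c
      congr 1
      group
  have hψzD : ψ zK ∈ D := by
    rcases hψzz with h | h <;> rw [h]
    exacts [hzD, inv_mem hzD]
  have hψdD : ψ dK ∈ D := hψd ▸ hqz
  refine ⟨ψ, hψinj, ?_, hψzz, hψzD, hψdD, fun x hx => ?_⟩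
  · rw [hψrange]
    rcases hψzz with h | h <;> rw [h]
    rw [Subgroup.zpowers_inv]
  obtain ⟨c, hc'⟩ : x ∈ ψ.range := by rw [hψrange]; exact hDL x hx
  obtain ⟨i, j, hij, hi, hj⟩ := eq_mul_of_commute (p := c)
    (hψinj (by rw [map_pow, hc', hexp x hx, map_one]))
    (hψinj (by rw [map_mul, map_mul, hc']; exact hc _ hx _ hψzD))
    (hψinj (by rw [map_mul, map_mul, hc']; exact hc _ hx _ hψdD))
  exact ⟨i, j, by rw [← hc', hij, map_mul, map_zpow, map_zpow], hi, hj⟩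

end SetupAux

open SetupAux in
/-- The hypotheses of the characterisation give the data. -/
theorem exists_setup {G : Type u} [Group G] [Finite G]
    (P : Sylow 3 G) (D : Subgroup G) (hDP : D = P) (y z : G) (hgen : Subgroup.closure {y, z} = D)
    (hcomm : IsMulCommutative D) (hcard : Nat.card D = 9) (hexp : ∀ a ∈ D, a ^ 3 = 1)
    (hC : Subgroup.centralizer (D : Set G) = D)
    (eN : Subgroup.normalizer (D : Set G) ⧸ D.subgroupOf (Subgroup.normalizer (D : Set G)) ≃*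
      DihedralGroup 4)
    (hycard : Nat.card (Subgroup.centralizer ({y} : Set G)) = 18)
    (eC : Subgroup.centralizer ({z} : Set G) ≃* Multiplicative (ZMod 3) × alternatingGroup (Fin 5))
    (eL : Subgroup.normalizer (Subgroup.zpowers z : Set G) ≃* KK) :
    Nonempty (Setup G) := by
  obtain ⟨ψ, hinj, hrange, hzz, hzD, hdD, hall⟩ :=
    exists_frame D y z hgen hcomm hcard hexp eL
  set Z := ψ zK with hZdef
  set E := ψ dK with hEdef
  let c : G → ℕ := fun x => Nat.card (Subgroup.centralizer ({x} : Set G))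
  have hcinv : ∀ x, c x⁻¹ = c x := card_cent_inv
  have hcconj : ∀ g x, c (g * x * g⁻¹) = c x := card_cent_conj
  have hcz : c Z = 180 := by
    have h0 : c z = 180 := by
      show Nat.card (Subgroup.centralizer ({z} : Set G)) = 180
      rw [Nat.card_congr eC.toEquiv, Nat.card_prod, nat_card_alternatingGroup,
        Nat.card_congr Multiplicative.toAdd, Nat.card_zmod, Nat.card_fin]
      rfl
    rcases hzz with h | h <;> rw [h]
    exacts [h0, (hcinv z).trans h0]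
  have hyD : y ∈ D := hgen ▸ Subgroup.subset_closure (Or.inl rfl)
  have hcy : c y = 18 := hycard
  obtain ⟨tz, td, ez, ed, rz, rd, hzd, rr⟩ := sK_conj
  have Hc : ∀ {k a b : KK}, k * a * k⁻¹ = b → ψ k * ψ a * (ψ k)⁻¹ = ψ b := fun {k a b} h => by
    rw [← h, map_mul, map_mul, map_inv]
  have htz : ψ tK * Z * (ψ tK)⁻¹ = Z := Hc tz
  have htd : ψ tK * E * (ψ tK)⁻¹ = E⁻¹ := (Hc td).trans (map_inv _ _)
  have hez : ψ eK * Z * (ψ eK)⁻¹ = Z⁻¹ := (Hc ez).trans (map_inv _ _)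
  have hed : ψ eK * E * (ψ eK)⁻¹ = E := Hc ed
  have hrz : ψ rK * Z * (ψ rK)⁻¹ = Z⁻¹ := (Hc rz).trans (map_inv _ _)
  have hrd : ψ rK * E * (ψ rK)⁻¹ = E⁻¹ := (Hc rd).trans (map_inv _ _)
  have hZE : Z * E = E * Z := by rw [hZdef, hEdef, ← map_mul, hzd, map_mul]
  have hE1 : E ≠ 1 := fun h =>
    absurd (hinj (h.trans (map_one ψ).symm)) dK_ne.1
  have hZ1 : Z ≠ 1 := fun h =>
    absurd (hinj (h.trans (map_one ψ).symm)) dK_ne.2.1
  -- an element of `D` centralised by both generators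
  have hmemD : ∀ n : G, n * Z * n⁻¹ = Z → n * E * n⁻¹ = E → n ∈ D := fun n h1 h2 => by
    rw [← hC, Subgroup.mem_centralizer_iff]
    intro x hx
    obtain ⟨i, j, rfl, -, -⟩ := hall x hx
    have h1' : Commute n Z := mul_inv_eq_iff_eq_mul.1 h1
    have h2' : Commute n E := mul_inv_eq_iff_eq_mul.1 h2
    exact ((h1'.zpow_right i).mul_right (h2'.zpow_right j)).eq.symm
  -- the classes of elements of `D`
  have hclass : ∀ x ∈ D, x = 1 ∨ (x = Z ∨ x = Z⁻¹) ∨ (x = E ∨ x = E⁻¹) ∨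
      (x = Z * E ∨ x = Z * E⁻¹ ∨ x = Z⁻¹ * E ∨ x = Z⁻¹ * E⁻¹) := fun x hx => by
    obtain ⟨i, j, rfl, hi, hj⟩ := hall x hx
    rcases hi with rfl | rfl | rfl <;> rcases hj with rfl | rfl | rfl <;> simp
  have hcdiag : c (Z * E⁻¹) = c (Z * E) ∧ c (Z⁻¹ * E) = c (Z * E) ∧
      c (Z⁻¹ * E⁻¹) = c (Z * E) := by
    have h1 : c (Z * E⁻¹) = c (Z * E) := by
      rw [← hcconj (ψ tK) (Z * E)]
      congr 1
      conv_lhs => rw [← htd]; arg 1; rw [← htz]
      group
    have hcm : Commute Z E := hZE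
    refine ⟨h1, ?_, ?_⟩
    · rw [← hcinv, show (Z⁻¹ * E)⁻¹ = Z * E⁻¹ by
        rw [mul_inv_rev, inv_inv]; exact (hcm.inv_right).eq.symm]
      exact h1
    · rw [← hcinv, show (Z⁻¹ * E⁻¹)⁻¹ = Z * E by
        rw [mul_inv_rev, inv_inv, inv_inv]; exact hZE.symm]
  let N := Subgroup.normalizer (D : Set G)
  have hconjD : ∀ n ∈ N, ∀ x ∈ D, n * x * n⁻¹ ∈ D := fun n hn x hx => by
    have h := Subgroup.mem_normalizer_iff_map_conj_eq.1 hn
    rw [← h]
    exact Subgroup.mem_map_of_mem _ hx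
  have hψN : ∀ k : KK, (ψ k * Z * (ψ k)⁻¹ ∈ D ∧ ψ k * E * (ψ k)⁻¹ ∈ D) → ψ k ∈ N := fun k hk => by
    refine Subgroup.mem_normalizer_iff_map_conj_eq.2
      (Subgroup.eq_of_le_of_card_ge ?_ (le_of_eq ?_))
    · rintro _ ⟨x, hx, rfl⟩
      obtain ⟨i, j, rfl, -, -⟩ := hall x hx
      rw [map_mul, map_zpow, map_zpow]
      exact mul_mem (zpow_mem hk.1 i) (zpow_mem hk.2 j)
    · exact (Nat.card_congr (D.equivMapOfInjective _ (MulAut.conj (ψ k)).injective).toEquiv)
  have hcard8 : Nat.card (N ⧸ D.subgroupOf N) = 8 := by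
    rw [Nat.card_congr eN.toEquiv, DihedralGroup.nat_card]
  have hpow8 : ∀ n ∈ N, n ^ 8 ∈ D := fun n hn => by
    have h : ((⟨n, hn⟩ : N) : N ⧸ D.subgroupOf N) ^ 8 = 1 := by
      rw [← hcard8]; exact pow_card_eq_one'
    rw [← QuotientGroup.mk_pow, QuotientGroup.eq_one_iff] at h
    exact h
  -- some element of the normalizer moves the line of `Z`
  obtain ⟨n, hnN, hn⟩ : ∃ n ∈ N, ¬ (n * Z * n⁻¹ = Z ∨ n * Z * n⁻¹ = Z⁻¹) := by
    by_contra hno
    push Not at hno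
    have hsq : ∀ n ∈ N, n ^ 2 ∈ D := fun n hn => by
      have hz2 : n * Z * n⁻¹ = Z ∨ n * Z * n⁻¹ = Z⁻¹ := hno n hn
      obtain ⟨k, hk⟩ : n ∈ ψ.range := by rw [hrange]; exact mem_normalizer_zpowers_of_conj hz2
      have hd2 : n * E * n⁻¹ = E ∨ n * E * n⁻¹ = E⁻¹ := by
        obtain ⟨i, j, hij, hi, hj⟩ := hall _ (hconjD n hn E hdD)
        have hk2 : k * dK * k⁻¹ = zK ^ i * dK ^ j := hinj (by
          rw [map_mul, map_mul, map_inv, hk, map_mul, map_zpow, map_zpow]; exact hij)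
        have hf : (zK ^ i * dK ^ j : KK).1.1 = 1 := by
          rw [← hk2]
          show k.1.1 * 1 * (k.1.1)⁻¹ = 1
          rw [mul_one, mul_inv_cancel]
        rcases hi with rfl | rfl | rfl <;> rcases hj with rfl | rfl | rfl <;>
          first
          | exact absurd hf (by decide +kernel)
          | (left; simpa using hij)
          | (right; simpa using hij)
          | (rw [zpow_zero, zpow_zero, one_mul, conj_eq_one_iff] at hij; exact absurd hij hE1)
      have two : ∀ x : G, (n * x * n⁻¹ = x ∨ n * x * n⁻¹ = x⁻¹) → n ^ 2 * x * (n ^ 2)⁻¹ = x :=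
        fun x hx => by
        have e : n ^ 2 * x * (n ^ 2)⁻¹ = n * (n * x * n⁻¹) * n⁻¹ := by
          simp only [pow_two, mul_inv_rev, mul_assoc]
        rw [e]
        rcases hx with h | h
        · rw [h, h]
        · rw [h, ← conj_inv, h, inv_inv]
      exact hmemD _ (two Z hz2) (two E hd2)
    have hall2 : ∀ q : DihedralGroup 4, q ^ 2 = 1 := fun q => by
      obtain ⟨n, hn⟩ := QuotientGroup.mk'_surjective _ (eN.symm q)
      have hn2 : ((n : N ⧸ D.subgroupOf N)) ^ 2 = 1 := by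
        rw [← QuotientGroup.mk_pow, QuotientGroup.eq_one_iff]
        exact hsq n.1 n.2
      have hn' : (n : N ⧸ D.subgroupOf N) = eN.symm q := hn
      rw [hn'] at hn2
      have := congrArg eN hn2
      rwa [map_pow, eN.apply_symm_apply, map_one] at this
    exact absurd (hall2 (DihedralGroup.r 1)) (by decide +kernel)
  have hne : n * Z * n⁻¹ ≠ 1 := fun h => hZ1 (conj_eq_one_iff.1 h)
  -- the diagonal elements are not conjugate to `Z`
  have hdiag : c (Z * E) ≠ 180 := fun h180 => by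
    have hcE : c E ≠ 180 := fun hE180 => by
      rcases hclass y hyD with h | h | h | h
      · have h1 : c y = Nat.card G := by
          show Nat.card (Subgroup.centralizer ({y} : Set G)) = Nat.card G
          have : Subgroup.centralizer ({y} : Set G) = ⊤ := by
            ext a; simp [Subgroup.mem_centralizer_singleton_iff, h]
          rw [this, Subgroup.card_top]
        have h2 := Nat.le_of_dvd Nat.card_pos
          (Subgroup.card_subgroup_dvd_card (Subgroup.centralizer ({z} : Set G)))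
        have h3 : c z = 180 := by
          rcases hzz with e | e
          · rw [← e]; exact hcz
          · rw [← hcinv, ← e]; exact hcz
        change c z ≤ _ at h2
        omega
      · rcases h with h | h <;> rw [h] at hcy
        · omega
        · rw [hcinv] at hcy; omega
      · rcases h with h | h <;> rw [h] at hcy
        · omega
        · rw [hcinv] at hcy; omega
      · obtain ⟨e1, e2, e3⟩ := hcdiag
        rcases h with h | h | h | h <;> rw [h] at hcy <;> omega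
    have himE : ∀ m ∈ N, m * E * m⁻¹ = E ∨ m * E * m⁻¹ = E⁻¹ := fun m hm => by
      have hc1 : c (m * E * m⁻¹) = c E := hcconj m E
      rcases hclass _ (hconjD m hm E hdD) with h | h | h | h
      · exact absurd (conj_eq_one_iff.1 h) hE1
      · rcases h with h | h <;> rw [h] at hc1
        · omega
        · rw [hcinv] at hc1; omega
      · exact h
      · obtain ⟨e1, e2, e3⟩ := hcdiag
        rcases h with h | h | h | h <;> rw [h] at hc1 <;> omega
    have hnd : n * Z * n⁻¹ = Z * E ∨ n * Z * n⁻¹ = Z * E⁻¹ ∨ n * Z * n⁻¹ = Z⁻¹ * E ∨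
        n * Z * n⁻¹ = Z⁻¹ * E⁻¹ := by
      have hc1 : c (n * Z * n⁻¹) = 180 := (hcconj n Z).trans hcz
      rcases hclass _ (hconjD n hnN Z hzD) with h | h | h | h
      · exact absurd h hne
      · exact absurd h hn
      · rcases h with h | h <;> rw [h] at hc1
        · exact absurd hc1 hcE
        · rw [hcinv] at hc1; exact absurd hc1 hcE
      · exact h
    -- adjust to `Z ↦ Z * E`, `E ↦ E`
    have step : ∀ (h m : G) (a b : G), h * a * h⁻¹ = b → m * Z * m⁻¹ = a →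
        (h * m) * Z * (h * m)⁻¹ = b := fun h m a b e1 e2 => by
      rw [← e1, ← e2]; group
    have htN : ψ tK ∈ N := hψN _ ⟨htz.symm ▸ hzD, htd.symm ▸ inv_mem hdD⟩
    have heN : ψ eK ∈ N := hψN _ ⟨hez.symm ▸ inv_mem hzD, hed.symm ▸ hdD⟩
    have hrN : ψ rK ∈ N := hψN _ ⟨hrz.symm ▸ inv_mem hzD, hrd.symm ▸ inv_mem hdD⟩
    obtain ⟨m, hmN, hm⟩ : ∃ m ∈ N, m * Z * m⁻¹ = Z * E := by
      rcases hnd with h | h | h | h
      · exact ⟨n, hnN, h⟩
      · refine ⟨_, mul_mem htN hnN, step _ _ _ _ ?_ h⟩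
        rw [← conj_mul, ← conj_inv, htz, htd, inv_inv]
      · refine ⟨_, mul_mem heN hnN, step _ _ _ _ ?_ h⟩
        rw [← conj_mul, ← conj_inv, hez, hed, inv_inv]
      · refine ⟨_, mul_mem hrN hnN, step _ _ _ _ ?_ h⟩
        rw [← conj_mul, ← conj_inv, ← conj_inv, hrz, hrd, inv_inv, inv_inv]
    obtain ⟨m, hmN, hmz, hme⟩ : ∃ m ∈ N, m * Z * m⁻¹ = Z * E ∧ m * E * m⁻¹ = E := by
      rcases himE m hmN with h | h
      · exact ⟨m, hmN, hm, h⟩
      · refine ⟨m * ψ tK, mul_mem hmN htN, ?_, ?_⟩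
        · calc m * ψ tK * Z * (m * ψ tK)⁻¹ = m * (ψ tK * Z * (ψ tK)⁻¹) * m⁻¹ := by group
            _ = Z * E := by rw [htz, hm]
        · calc m * ψ tK * E * (m * ψ tK)⁻¹ = m * (ψ tK * E * (ψ tK)⁻¹) * m⁻¹ := by group
            _ = E := by rw [htd, ← conj_inv, h, inv_inv]
    have hE3 : E ^ 3 = 1 := hexp E hdD
    have hm3 : m ^ 3 ∈ D := by
      refine hmemD _ ?_ ?_
      · calc m ^ 3 * Z * (m ^ 3)⁻¹ = m * (m * (m * Z * m⁻¹) * m⁻¹) * m⁻¹ := by
              simp only [pow_succ, pow_zero, one_mul, mul_inv_rev, mul_assoc]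
          _ = Z * E * E * E := by simp only [hmz, ← conj_mul, hme]
          _ = Z * E ^ 3 := by simp only [pow_succ, pow_zero, one_mul, mul_assoc]
          _ = Z := by rw [hE3, mul_one]
      · calc m ^ 3 * E * (m ^ 3)⁻¹ = m * (m * (m * E * m⁻¹) * m⁻¹) * m⁻¹ := by
              simp only [pow_succ, pow_zero, one_mul, mul_inv_rev, mul_assoc]
          _ = E := by rw [hme, hme, hme]
    have hmD : m ∈ D := by
      have e : m = (m ^ 3) ^ 3 * (m ^ 8)⁻¹ := by group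
      rw [e]
      exact mul_mem (pow_mem hm3 3) (inv_mem (hpow8 m hmN))
    have : m * Z = Z * m := congrArg Subtype.val (hcomm.is_comm.comm (⟨m, hmD⟩ : D) ⟨Z, hzD⟩)
    rw [this, mul_inv_cancel_right] at hmz
    exact hE1 (mul_eq_left.1 hmz.symm)
  obtain ⟨e1, e2, e3⟩ := hcdiag
  have hnd : n * Z * n⁻¹ = E ∨ n * Z * n⁻¹ = E⁻¹ := by
    have hc1 : c (n * Z * n⁻¹) = 180 := (hcconj n Z).trans hcz
    rcases hclass _ (hconjD n hnN Z hzD) with h | h | h | h
    · exact absurd h hne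
    · exact absurd h hn
    · exact h
    · rcases h with h | h | h | h <;> rw [h] at hc1 <;> omega
  have hcE : c E = 180 := by
    have hc1 : c (n * Z * n⁻¹) = 180 := (hcconj n Z).trans hcz
    rcases hnd with h | h <;> rw [h] at hc1
    · exact hc1
    · rwa [hcinv] at hc1
  obtain ⟨g₁, hg₁N, hg₁⟩ : ∃ g ∈ N, g * Z * g⁻¹ = E := by
    have htN : ψ tK ∈ N := hψN _ ⟨htz.symm ▸ hzD, htd.symm ▸ inv_mem hdD⟩
    rcases hnd with h | h
    · exact ⟨n, hnN, h⟩
    · refine ⟨ψ tK * n, mul_mem htN hnN, ?_⟩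
      calc ψ tK * n * Z * (ψ tK * n)⁻¹ = ψ tK * (n * Z * n⁻¹) * (ψ tK)⁻¹ := by group
        _ = E := by rw [h, ← conj_inv, htd, inv_inv]
  have hg₁E : g₁ * E * g₁⁻¹ = Z ∨ g₁ * E * g₁⁻¹ = Z⁻¹ := by
    have hc1 : c (g₁ * E * g₁⁻¹) = 180 := (hcconj g₁ E).trans hcE
    have inj : ∀ a b : G, g₁ * a * g₁⁻¹ = g₁ * b * g₁⁻¹ → a = b := fun a b h =>
      mul_left_cancel (mul_right_cancel h)
    rcases hclass _ (hconjD g₁ hg₁N E hdD) with h | h | h | h
    · exact absurd (conj_eq_one_iff.1 h) hE1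
    · exact h
    · rcases h with h | h
      · exact absurd (hinj (inj E Z (h.trans hg₁.symm))) dK_ne.2.2.1
      · exact absurd (hinj ((inj E Z⁻¹ (h.trans (by rw [← conj_inv, hg₁]))).trans
          (map_inv ψ zK).symm)) dK_ne.2.2.2
    · rcases h with h | h | h | h <;> rw [h] at hc1 <;> omega
  obtain ⟨g₀, hg₀z, hg₀d⟩ : ∃ g : G, g * Z * g⁻¹ = E ∧ g * E * g⁻¹ = Z := by
    rcases hg₁E with h | h
    · exact ⟨g₁, hg₁, h⟩
    · refine ⟨ψ eK * g₁, ?_, ?_⟩
      · calc ψ eK * g₁ * Z * (ψ eK * g₁)⁻¹ = ψ eK * (g₁ * Z * g₁⁻¹) * (ψ eK)⁻¹ := by group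
          _ = E := by rw [hg₁, hed]
      · calc ψ eK * g₁ * E * (ψ eK * g₁)⁻¹ = ψ eK * (g₁ * E * g₁⁻¹) * (ψ eK)⁻¹ := by group
          _ = Z := by rw [h, ← conj_inv, hez, inv_inv]
  -- adjust to centralise `ψ rK`
  let r := ψ rK
  have hr : r * r = 1 := by show ψ rK * ψ rK = 1; rw [← map_mul, rr, map_one]
  have hri : r⁻¹ = r := inv_eq_of_mul_eq_one_right hr
  let w := r⁻¹ * (g₀ * r * g₀⁻¹)
  have hinvgen : ∀ x : G, ∀ x' : G, g₀ * x' * g₀⁻¹ = x → r * x' * r⁻¹ = x'⁻¹ →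
      (g₀ * r * g₀⁻¹) * x * (g₀ * r * g₀⁻¹)⁻¹ = x⁻¹ := fun x x' h1 h2 => by
    rw [← h1]
    calc g₀ * r * g₀⁻¹ * (g₀ * x' * g₀⁻¹) * (g₀ * r * g₀⁻¹)⁻¹
        = g₀ * (r * x' * r⁻¹) * g₀⁻¹ := by group
      _ = (g₀ * x' * g₀⁻¹)⁻¹ := by rw [h2]; group
  have hwD : w ∈ D := by
    have aux : ∀ x : G, r * x * r⁻¹ = x⁻¹ → (g₀ * r * g₀⁻¹) * x * (g₀ * r * g₀⁻¹)⁻¹ = x⁻¹ →
        w * x * w⁻¹ = x := fun x h1 h2 => by
      calc w * x * w⁻¹ = r⁻¹ * ((g₀ * r * g₀⁻¹) * x * (g₀ * r * g₀⁻¹)⁻¹) * r⁻¹⁻¹ := by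
            simp only [w, mul_inv_rev, inv_inv, mul_assoc]
        _ = x := by rw [h2, ← h1]; group
    exact hmemD w (aux Z hrz (hinvgen Z E hg₀d hrd)) (aux E hrd (hinvgen E Z hg₀z hrz))
  have hrw : r * w * r⁻¹ = w⁻¹ := by
    obtain ⟨i, j, hw, -, -⟩ := hall w hwD
    rw [hw, ← conj_mul, ← conj_zpow, ← conj_zpow, hrz, hrd, inv_zpow, inv_zpow, mul_inv_rev]
    exact ((Commute.zpow_zpow (show Commute Z E from hZE) i j).inv_inv).eq
  have hw3 : w ^ 3 = 1 := hexp w hwD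
  have hfix : ∀ x ∈ D, w⁻¹ * x * w = x := fun x hx => by
    have : x * w = w * x := congrArg Subtype.val (hcomm.is_comm.comm (⟨x, hx⟩ : D) ⟨w, hwD⟩)
    rw [mul_assoc, this, inv_mul_cancel_left]
  refine ⟨{
    ψ := ψ, inj := hinj, range_eq := hrange, g := w⁻¹ * g₀
    g_z := ?_, g_d := ?_, g_r := ?_, card_y := ?_, not_dvd := ?_ }⟩
  · calc w⁻¹ * g₀ * Z * (w⁻¹ * g₀)⁻¹ = w⁻¹ * (g₀ * Z * g₀⁻¹) * w := by group
      _ = E := by rw [hg₀z]; exact hfix E hdD
  · calc w⁻¹ * g₀ * E * (w⁻¹ * g₀)⁻¹ = w⁻¹ * (g₀ * E * g₀⁻¹) * w := by group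
      _ = Z := by rw [hg₀d]; exact hfix Z hzD
  · show w⁻¹ * g₀ * r * (w⁻¹ * g₀)⁻¹ = r
    have e : g₀ * r * g₀⁻¹ = r * w := (mul_inv_cancel_left r (g₀ * r * g₀⁻¹)).symm
    calc w⁻¹ * g₀ * r * (w⁻¹ * g₀)⁻¹ = w⁻¹ * (g₀ * r * g₀⁻¹) * w := by group
      _ = w⁻¹ * (r * w * r⁻¹ * r) * w := by rw [e]; group
      _ = (w ^ 3)⁻¹ * (w * r * w) := by rw [hrw]; group
      _ = w * (r * w * r⁻¹) * r := by rw [hw3]; group
      _ = r := by rw [hrw, mul_inv_cancel, one_mul]
  · show c (Z * E) = 18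
    rcases hclass y hyD with h | h | h | h
    · exfalso
      have h1 : c y = Nat.card G := by
        show Nat.card (Subgroup.centralizer ({y} : Set G)) = Nat.card G
        have : Subgroup.centralizer ({y} : Set G) = ⊤ := by
          ext a; simp [Subgroup.mem_centralizer_singleton_iff, h]
        rw [this, Subgroup.card_top]
      have h2 := Nat.le_of_dvd Nat.card_pos
        (Subgroup.card_subgroup_dvd_card (Subgroup.centralizer ({E} : Set G)))
      change c E ≤ _ at h2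
      omega
    · rcases h with h | h <;> rw [h] at hcy
      · omega
      · rw [hcinv] at hcy; omega
    · rcases h with h | h <;> rw [h] at hcy
      · omega
      · rw [hcinv] at hcy; omega
    · rcases h with h | h | h | h <;> rw [h] at hcy <;> omega
  · intro h27
    have hP : Nat.card (P : Subgroup G) = 3 ^ (Nat.card G).factorization 3 :=
      P.card_eq_multiplicity
    rw [← hDP, hcard] at hP
    have h3 : 3 ≤ (Nat.card G).factorization 3 :=
      (Nat.prime_three.pow_dvd_iff_le_factorization Nat.card_pos.ne').1 h27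
    have h4 : (3 : ℕ) ^ 3 ≤ 3 ^ (Nat.card G).factorization 3 :=
      Nat.pow_le_pow_right (by norm_num) h3
    omega

end CfsgLib.AEightThree
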