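import Cfsg.Agent.Lib.AEightThree.Basic

/-!
Finite checks in the alternating group of degree eight: conjugacy of small elements, small
centralisers and a subgroup of order 64.
-/

set_option autoImplicit false
set_option maxRecDepth 100000

namespace CfsgLib.AEightThree

open Equiv

attribute [local instance 2000] List.decidableBAll List.decidableBEx

/-- the alternating group of degree eight -/
abbrev A8 := alternatingGroup (Fin 8)

/-- `(4 5 6)` -/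
def c8 : A8 := ⟨swap 4 5 * swap 5 6, Perm.mem_alternatingGroup.2 (by decide)⟩

/-- `(0 2)(1 3)` -/
def a8 : A8 := ⟨swap 0 2 * swap 1 3, Perm.mem_alternatingGroup.2 (by decide)⟩

/-- `(2 4)(3 5)` -/
def b8 : A8 := ⟨swap 2 4 * swap 3 5, Perm.mem_alternatingGroup.2 (by decide)⟩

/-- `(4 6)(5 7)` -/
def a8' : A8 := ⟨swap 4 6 * swap 5 7, Perm.mem_alternatingGroup.2 (by decide)⟩

/-- `(0 4)(1 5)(2 6)(3 7)` -/
def s8 : A8 := ⟨swap 0 4 * swap 1 5 * swap 2 6 * swap 3 7, Perm.mem_alternatingGroup.2 (by decide)⟩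

/-- `(0 4)(1 5)` -/
def k8 : A8 := ⟨swap 0 4 * swap 1 5, Perm.mem_alternatingGroup.2 (by decide)⟩

/-- `(3 4 5 6 7)` -/
def f8 : A8 :=
  ⟨swap 3 4 * swap 4 5 * swap 5 6 * swap 6 7, Perm.mem_alternatingGroup.2 (by decide)⟩

/-- `(1 2)(6 7)` -/
def i8 : A8 := ⟨swap 1 2 * swap 6 7, Perm.mem_alternatingGroup.2 (by decide)⟩

/-- `(3 4 6)` -/
def q8 : A8 := ⟨swap 3 4 * swap 4 6, Perm.mem_alternatingGroup.2 (by decide)⟩

/-- `(1 2 4 3)(6 7)` -/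
def r8 : A8 :=
  ⟨swap 1 2 * swap 2 4 * swap 4 3 * swap 6 7, Perm.mem_alternatingGroup.2 (by decide)⟩

/-- the products `x * y` of two lists -/
def prods (l m : List A8) : List A8 := l.flatMap fun x => m.map fun y => x * y

theorem mem_prods {l m : List A8} {x : A8} :
    x ∈ prods l m ↔ ∃ a ∈ l, ∃ b ∈ m, a * b = x := by
  simp [prods, List.mem_flatMap, List.mem_map]

/-- the elements of `⟨(0 1 2), (4 5 6)⟩` -/
def LD : List A8 := prods [1, z8, z8 * z8] [1, c8, c8 * c8]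

/-- the elements of `E` -/
def L8 : List A8 := prods (prods [1, t8] [1, v8]) [1, e8]

/-- the elements of the elementary group of order 16 -/
def L16 : List A8 := prods (prods [1, t8] [1, a8]) (prods [1, v8] [1, a8'])

/-- the elements of a subgroup of order 64 -/
def L64 : List A8 := prods L16 (prods [1, e8] [1, s8])

/-- the involutions of the four-group on the first four letters -/
def T0 : List A8 := [t8, a8, t8 * a8]

/-- the involutions of the four-group on the last four letters -/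
def T1 : List A8 := [v8, a8', v8 * a8']

/-- six elements inducing all automorphisms of the first four-group -/
def six : List A8 := [1, z8, z8 * z8, e8, e8 * z8, e8 * (z8 * z8)]

theorem LD_one : (1 : A8) ∈ LD := by decide +kernel
theorem LD_mul : ∀ a ∈ LD, ∀ b ∈ LD, a * b ∈ LD := by decide +kernel
theorem LD_comm : ∀ a ∈ LD, ∀ b ∈ LD, a * b = b * a := by decide +kernel
theorem LD_cube : ∀ a ∈ LD, a * a * a = 1 := by decide +kernel
theorem LD_nodup : LD.Nodup := by decide +kernel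
theorem LD_mem : z8 ∈ LD ∧ c8 ∈ LD := by decide +kernel

theorem LD_conj : ∀ k ∈ LD, k = 1 ∨ ∃ b ∈ [1, s8, f8, q8],
    b * z8 * b⁻¹ = k ∨ (b * z8 * b⁻¹)⁻¹ = k ∨ b * y8 * b⁻¹ = k ∨ (b * y8 * b⁻¹)⁻¹ = k := by
  decide +kernel

theorem ab_conj : r8 * y8 * r8⁻¹ = a8 * b8 := by decide +kernel
theorem ab_comm : u8 * (a8 * b8) = a8 * b8 * u8 := by decide +kernel
theorem t_comm_c : t8 * c8 = c8 * t8 := by decide +kernel
theorem a_comm_c : a8 * c8 = c8 * a8 := by decide +kernel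
theorem z_comm_f : z8 * f8 = f8 * z8 := by decide +kernel
theorem e_inv_c : e8 * c8 * e8⁻¹ = c8⁻¹ := by decide +kernel
theorem e_sq : e8 * e8 = 1 := by decide +kernel
theorem f_pow : f8 ^ 5 = 1 ∧ f8 ≠ 1 := by decide +kernel
theorem c_ne : c8 ≠ 1 ∧ c8 ≠ c8⁻¹ := by decide +kernel
theorem c_cube : c8 ^ 3 = 1 := by decide +kernel
theorem z_cube : z8 ^ 3 = 1 := by decide +kernel
theorem s_conj_z : s8 * z8 * s8⁻¹ = c8 := by decide +kernel

theorem cand_y_five : ∀ a b c d : Fin 8,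
    (y8 : Perm (Fin 8)) c = c → (y8 : Perm (Fin 8)) d = d →
    let f : Fin 8 → Fin 8 := ![a, (y8 : Perm (Fin 8)) a, (y8 : Perm (Fin 8)) ((y8 : Perm (Fin 8)) a),
      b, (y8 : Perm (Fin 8)) b, (y8 : Perm (Fin 8)) ((y8 : Perm (Fin 8)) b), c, d]
    (∀ i, f (f (f (f (f i)))) = i) → ∀ i, f i = i := by
  decide +kernel

theorem cand_D_two : ∀ a : Fin 8, (c8 : Perm (Fin 8)) a = a → (z8 : Perm (Fin 8)) a ≠ a →
    ∀ b : Fin 8, (z8 : Perm (Fin 8)) b = b → (c8 : Perm (Fin 8)) b ≠ b →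
    ∀ c : Fin 8, (z8 : Perm (Fin 8)) c = c ∧ (c8 : Perm (Fin 8)) c = c →
    ∀ d : Fin 8, (z8 : Perm (Fin 8)) d = d ∧ (c8 : Perm (Fin 8)) d = d →
    let f : Fin 8 → Fin 8 := ![a, (z8 : Perm (Fin 8)) a, (z8 : Perm (Fin 8)) ((z8 : Perm (Fin 8)) a),
      c, b, (c8 : Perm (Fin 8)) b, (c8 : Perm (Fin 8)) ((c8 : Perm (Fin 8)) b), d]
    (∀ i, f (f i) = i) → (∀ i, f i = i) ∨ ∀ i, f i = swap 3 7 i := by
  decide +kernel

theorem cand_V_inv : ∀ a b d : Fin 8,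
    let f : Fin 8 → Fin 8 := ![a, (t8 : Perm (Fin 8)) a, (a8 : Perm (Fin 8)) a,
      (t8 : Perm (Fin 8)) ((a8 : Perm (Fin 8)) a), b,
      (c8 : Perm (Fin 8)) ((c8 : Perm (Fin 8)) b), (c8 : Perm (Fin 8)) b, d]
    (∀ i j, f i = f j → i = j) →
      (∀ i, f ((t8 : Perm (Fin 8)) i) = (t8 : Perm (Fin 8)) (f i)) →
      (∀ i, f ((a8 : Perm (Fin 8)) i) = (a8 : Perm (Fin 8)) (f i)) →
      (∀ i, f ((c8 : Perm (Fin 8)) i) = (c8 : Perm (Fin 8)) ((c8 : Perm (Fin 8)) (f i))) →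
      ∃ v ∈ [(1 : A8), t8, a8, t8 * a8], ∃ τ ∈ [swap (4 : Fin 8) 5, swap 4 6, swap 5 6],
        ∀ i, f i = ((v : Perm (Fin 8)) * τ) i := by
  decide +kernel

theorem cand_E :
    ∀ a : Fin 8, (t8 : Perm (Fin 8)) a = (e8 : Perm (Fin 8)) a ∧ (v8 : Perm (Fin 8)) a = a →
    ∀ b : Fin 8, (e8 : Perm (Fin 8)) b = b ∧ (v8 : Perm (Fin 8)) b = b →
    ∀ c : Fin 8, (v8 : Perm (Fin 8)) c = (e8 : Perm (Fin 8)) c ∧ (t8 : Perm (Fin 8)) c = c →
    ∀ d : Fin 8, (e8 : Perm (Fin 8)) d = d ∧ (t8 : Perm (Fin 8)) d = d →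
    let f : Fin 8 → Fin 8 := ![a, (t8 : Perm (Fin 8)) a, b, (t8 : Perm (Fin 8)) b,
      c, (v8 : Perm (Fin 8)) c, d, (v8 : Perm (Fin 8)) d]
    ∃ x ∈ L8, ∃ τ ∈ [(1 : Perm (Fin 8)), swap 0 1],
      ∀ i, f i = ((x : Perm (Fin 8)) * τ) i := by
  decide +kernel

theorem L8_mem : t8 ∈ L8 ∧ v8 ∈ L8 ∧ e8 ∈ L8 ∧ (1 : A8) ∈ L8 := by decide +kernel
theorem L8_mul : ∀ a ∈ L8, ∀ b ∈ L8, a * b ∈ L8 := by decide +kernel
theorem L8_sq : ∀ a ∈ L8, a * a = 1 := by decide +kernel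
theorem L8_a : ∀ x ∈ L8, a8 * x * a8⁻¹ ∈ L8 := by decide +kernel
theorem L8_b : ∀ x ∈ L8, b8 * x * b8⁻¹ ∈ L8 := by decide +kernel
theorem L8_k : ∀ x ∈ L8, k8 * x * k8⁻¹ ∈ L8 := by decide +kernel
theorem k_sq : k8 * k8 = 1 := by decide +kernel
theorem a_sq : a8 * a8 = 1 := by decide +kernel
theorem b_sq : b8 * b8 = 1 := by decide +kernel
theorem k_conj_a : k8 * a8 * k8⁻¹ = b8 := by decide +kernel

theorem L8_a_inv : ∀ x ∈ L8, x * a8 * (x * a8) = 1 →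
    x = 1 ∨ x = t8 ∨ ∃ k ∈ six, ∃ k' ∈ six,
      k * (s8 * k' * s8) * u8 * (k * (s8 * k' * s8))⁻¹ = x * a8 := by
  decide +kernel

theorem L16_type : ∀ w ∈ L16, w = 1 ∨ w ∈ T0 ∨ w ∈ T1 ∨
    ∃ k ∈ six, ∃ k' ∈ six, k * (s8 * k' * s8) * u8 * (k * (s8 * k' * s8))⁻¹ = w := by
  decide +kernel

theorem T0_conj : ∀ x ∈ T0, ∃ k ∈ six, k * t8 * k⁻¹ = x := by decide +kernel

theorem T0_pair : ∀ p ∈ T0, ∀ q ∈ T0, p ≠ q →
    ∃ k ∈ six, k * t8 * k⁻¹ = p ∧ k * a8 * k⁻¹ = q := by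
  decide +kernel

theorem T_sides : ∀ p ∈ T0 ++ T1, ∀ q ∈ T0 ++ T1, p * q ∈ T0 ++ T1 →
    (p ∈ T0 ∧ q ∈ T0) ∨ (p ∈ T1 ∧ q ∈ T1) := by
  decide +kernel

theorem T1_swap : ∀ p ∈ T1, s8 * p * s8⁻¹ ∈ T0 := by decide +kernel
theorem L16_mem : t8 ∈ L16 ∧ a8 ∈ L16 ∧ t8 * a8 ∈ L16 := by decide +kernel
theorem L16_nodup : L16.Nodup := by decide +kernel
theorem L16_sq : ∀ a ∈ L16, a * a = 1 := by decide +kernel
theorem L16_comm : ∀ a ∈ L16, ∀ b ∈ L16, a * b = b * a := by decide +kernel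
theorem L16_sub : ∀ a ∈ L16, a ∈ L64 := by decide +kernel
theorem L64_one : (1 : A8) ∈ L64 := by decide +kernel
theorem L64_nodup : L64.Nodup := by decide +kernel

theorem L16_mul : ∀ a ∈ L16, ∀ b ∈ L16, a * b ∈ L16 := by decide +kernel

theorem L4_mul : ∀ a ∈ prods [1, e8] [1, s8], ∀ b ∈ prods [1, e8] [1, s8],
    a * b ∈ prods [1, e8] [1, s8] := by
  decide +kernel

theorem L16_conj : ∀ m ∈ prods [1, e8] [1, s8], ∀ w ∈ L16, m * w * m⁻¹ ∈ L16 := by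
  decide +kernel

theorem L64_few : ∀ x ∈ L64, x * x = 1 → x ∈ L16 ∨
    (L64.filter fun y => decide (y * y = 1) && decide (x * y = y * x)).length ≤ 15 := by
  decide +kernel

theorem L64_mul : ∀ a ∈ L64, ∀ b ∈ L64, a * b ∈ L64 := by
  intro x hx y hy
  obtain ⟨w, hw, m, hm, rfl⟩ := mem_prods.1 hx
  obtain ⟨w', hw', m', hm', rfl⟩ := mem_prods.1 hy
  exact mem_prods.2 ⟨w * (m * w' * m⁻¹), L16_mul _ hw _ (L16_conj _ hm _ hw'),
    m * m', L4_mul _ hm _ hm', by group⟩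

end CfsgLib.AEightThree
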